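import Cfsg.Agent.AutPOmega.SmallFix
import Cfsg.Agent.AutPSL.LocalBalance

/-!
# Local balance at a field automorphism of `PΩ(Q)`
-/

set_option autoImplicit false
set_option linter.unusedSectionVars false
set_option linter.style.haveILetI false

namespace CfsgLib.AutPOmega

open Matrix Module CfsgLib.Spinor CfsgLib.Forms CfsgLib.Forms4

variable {F : Type*} [Field F] [Finite F] {ι : Type} [Fintype ι] [DecidableEq ι]
  {Q : QuadraticForm F (ι → F)} {K : Type*} [Field K] [Finite K] {e : K →+* F} {σ : F ≃+* F}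
  {Q₀ : QuadraticForm K (ι → K)}

theorem conj_mulEquiv {T : Type*} [Group T] (α : MulAut T) (t : T) :
    MulAut.conj (α t) = α * MulAut.conj t * α⁻¹ := by
  ext1 x; simp [MulAut.mul_apply, MulAut.inv_def]

theorem finite_mulAut' {T : Type*} [Group T] [Finite T] : Finite (MulAut T) :=
  Finite.of_injective (fun f : MulAut T => (f : T → T)) DFunLike.coe_injective

/-- `Ω` of three hyperbolic pairs in odd characteristic has even order modulo its centre. -/
theorem Ctx.exists_neg_two_planes (C : Ctx Q) (h2 : (2 : F) ≠ 0) (P : ThreePairs Q) :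
    ∃ w : OG Q, app w P.e = -P.e ∧ app w P.c = P.c := by
  have hq : ∀ {x y : ι → F}, Q x = 0 → Q y = 0 → QuadraticMap.polar (⇑Q) x y = 1 →
      Q (x + y) = 1 ∧ Q (x - y) = -1 := fun {x y} hx hy hxy => by
    refine ⟨?_, ?_⟩
    · rw [QuadraticMap.map_add (⇑Q), hx, hy, hxy, zero_add, zero_add]
    · rw [sub_eq_add_neg, QuadraticMap.map_add (⇑Q), QuadraticMap.map_neg, hx, hy,
        QuadraticMap.polar_neg_right, hxy, zero_add, zero_add]
  obtain ⟨h1, h1'⟩ := hq P.qe P.qf P.ef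
  obtain ⟨h3, h3'⟩ := hq P.qa P.qb P.ab
  have n1 : Q (P.e + P.f) ≠ 0 := by rw [h1]; exact one_ne_zero
  have n1' : Q (P.e - P.f) ≠ 0 := by rw [h1']; exact neg_ne_zero.2 one_ne_zero
  have n3 : Q (P.a + P.b) ≠ 0 := by rw [h3]; exact one_ne_zero
  have n3' : Q (P.a - P.b) ≠ 0 := by rw [h3']; exact neg_ne_zero.2 one_ne_zero
  set g := reflIso Q _ n1 * reflIso Q _ n1' * (reflIso Q _ n3 * reflIso Q _ n3') with hg
  have hvs := ((IsReflProd.reflIso _ n1).mul (IsReflProd.reflIso _ n1')).mul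
    ((IsReflProd.reflIso _ n3).mul (IsReflProd.reflIso _ n3'))
  haveI := Fintype.ofFinite F
  have hmem : g ∈ Cfsg.Omega F ⇑Q := (mem_omega_iff h2 C.nondeg hvs).2 ⟨⟨2, rfl⟩, ⟨1, by simp [h1, h1', h3, h3']⟩⟩
  have happ : ∀ v, app (⟨g, hmem⟩ : OG Q) v = refl Q (P.e + P.f) (refl Q (P.e - P.f)
      (refl Q (P.a + P.b) (refl Q (P.a - P.b) v))) := fun v => by
    show mat Q g *ᵥ v = _
    simp only [hg, mat_mul, ← Matrix.mulVec_mulVec, OmegaOrbits.mat_reflIso_mulVec]
  refine ⟨⟨g, hmem⟩, ?_, ?_⟩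
  · rw [happ]
    simp only [refl_apply, QuadraticMap.polar_add_left, QuadraticMap.polar_sub_left,
      QuadraticMap.polar_add_right, QuadraticMap.polar_sub_right, QuadraticMap.polar_smul_right,
      h1, h1', h3, h3', P.ee, P.ef, P.fe, P.ff, QuadraticMap.polar_comm (⇑Q) P.a P.e, P.ea,
      QuadraticMap.polar_comm (⇑Q) P.b P.e, P.eb, smul_eq_mul]
    module
  · rw [happ]
    simp only [refl_apply, QuadraticMap.polar_add_left, QuadraticMap.polar_sub_left,
      QuadraticMap.polar_add_right, QuadraticMap.polar_sub_right, QuadraticMap.polar_smul_right,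
      h1, h1', h3, h3', P.ec, P.fc, P.ac, P.bc, smul_eq_mul]
    module

/-- The small group has even order in odd characteristic. -/
theorem IsExt.two_dvd_card_range (hE : IsExt e Q₀ Q) (C : Ctx Q) (C₀ : Ctx Q₀) (h2 : (2 : K) ≠ 0) :
    2 ∣ Nat.card hE.smallHom.range := by
  obtain ⟨P⟩ := C₀.pairs
  obtain ⟨w, hwe, hwc⟩ := C₀.exists_neg_two_planes h2 P
  by_contra hodd
  have hn : Odd (orderOf (hE.smallHom w)) := by
    rw [← Nat.not_even_iff_odd, even_iff_two_dvd]
    exact fun h => hodd (h.trans (Subgroup.orderOf_dvd_natCard _ ⟨w, rfl⟩))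
  have h1 : hE.smallHom (w ^ orderOf (hE.smallHom w)) = 1 := by rw [map_pow, pow_orderOf_eq_one]
  obtain ⟨r, -, hr⟩ := C₀.app_of_mem_center ((hE.smallHom_eq_one_iff C C₀).1 h1)
  have hit : ∀ (k : ℕ), app (w ^ k) P.e = (-1 : K) ^ k • P.e ∧ app (w ^ k) P.c = P.c := fun k => by
    induction k with
    | zero => simp [app_one]
    | succ k ih =>
      refine ⟨?_, by rw [pow_succ, app_mul, hwc, ih.2]⟩
      rw [pow_succ, app_mul, hwe, app_neg, ih.1, pow_succ]
      module
  obtain ⟨e1, e2⟩ := hit (orderOf (hE.smallHom w))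
  rw [hr, hn.neg_one_pow] at e1
  rw [hr] at e2
  have f1 := congrArg (QuadraticMap.polar (⇑Q₀) P.f) e1
  have f2 := congrArg (QuadraticMap.polar (⇑Q₀) P.d) e2
  simp only [QuadraticMap.polar_smul_right, P.fe, QuadraticMap.polar_comm (⇑Q₀) P.d P.c, P.cd,
    smul_eq_mul, mul_one] at f1 f2
  exact h2 (by linear_combination f1 - f2)

/-- The prime `p` divides the order of the small group once it divides that of the centraliser. -/
theorem IsExt.dvd_card_range (hE : IsExt e Q₀ Q) (C : Ctx Q) (C₀ : Ctx Q₀) {p : ℕ} [Fact p.Prime]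
    (hp2 : p = 2 → (2 : K) ≠ 0) {E : Subgroup (Cfsg.POmega F ⇑Q)} (hdvd : p ∣ Nat.card E)
    (hpow : ∀ k ∈ E, k ^ 4 ∈ hE.smallHom.range) : p ∣ Nat.card hE.smallHom.range := by
  have hpp : p.Prime := Fact.out
  by_cases h : p = 2
  · subst h
    exact hE.two_dvd_card_range C C₀ (hp2 rfl)
  · obtain ⟨⟨k, hk⟩, hord⟩ := exists_prime_orderOf_dvd_card' p hdvd
    rw [Subgroup.orderOf_mk] at hord
    have ho : orderOf (k ^ 4) = p := by
      rw [orderOf_pow' k (by norm_num), hord, Nat.Coprime.gcd_eq_one, Nat.div_one]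
      exact (Nat.Coprime.pow_right 2 ((Nat.coprime_primes hpp Nat.prime_two).2 h))
    rw [← ho]
    exact Subgroup.orderOf_dvd_natCard _ (hpow k hk)

variable {hE : IsExt e Q₀ Q}

/-- The fixed points of the field automorphism come from similitudes of the small form. -/
theorem Model.exists_of_fixed {G : Subgroup (GO Q)} {G₀ : Subgroup (GO Q₀)} (M : Model hE σ G G₀)
    {r : ℕ} (hr : orderOf σ = r) (hr0 : 0 < r) {t : Cfsg.POmega F ⇑Q} (ht : fld M.rat t = t) :
    ∃ g₀ : GO Q₀, MulAut.conj t = sim (hE.goHom g₀) := by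
  obtain ⟨D, rfl⟩ := pr_surjective t
  have hc : sim (omegaHom Q D) * fld M.rat = fld M.rat * sim (omegaHom Q D) := by
    rw [sim_omegaHom]
    have := conj_mulEquiv (fld M.rat) (pr Q D)
    rw [ht, eq_mul_inv_iff_mul_eq] at this
    exact this
  obtain ⟨u, g₀, e0⟩ := (M.commute_iff hr hr0 _).1 hc
  refine ⟨g₀, ?_⟩
  rw [show MulAut.conj (pr Q D) = sim (omegaHom Q D) from (sim_omegaHom D).symm, e0, map_mul,
    sim_scalar M.ctx, one_mul]

/-- Local balance at a field automorphism. -/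
theorem IsExt.core_field_iff (hE : IsExt e Q₀ Q) (he : IsFixedField e σ) (C : Ctx Q) (C₀ : Ctx Q₀)
    (A : Subgroup (MulAut (Cfsg.POmega F ⇑Q))) (hinn : ∀ k, MulAut.conj k ∈ A) {p : ℕ} [Fact p.Prime]
    (hpF : (p : F) ≠ 0) (hσ : orderOf σ = p) (hR : Rat Q σ) :
    Cfsg.pPrimeCore p ↥(A ⊓ Subgroup.centralizer {fld hR}) ≠ ⊥ ↔
      Nat.Coprime p (Nat.card ↥(MonoidHom.eqLocus (fld hR).toMonoidHom
        (MonoidHom.id (Cfsg.POmega F ⇑Q)))) := by
  classical
  have hpp : p.Prime := Fact.out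
  haveI := finite_mulAut' (T := Cfsg.POmega F ⇑Q)
  have M : Model hE σ ⊤ ⊤ := ⟨he, C, C₀, fun _ => Subgroup.mem_top _,
    fun _ => iff_of_true (Subgroup.mem_top _) (Subgroup.mem_top _), fun _ => Subgroup.mem_top _⟩
  set φ := fld hR with hφ
  set E := MonoidHom.eqLocus φ.toMonoidHom (MonoidHom.id (Cfsg.POmega F ⇑Q)) with hEdef
  have hcc : ∀ k, φ k = k → MulAut.conj k ∈ Subgroup.centralizer {φ} := fun k h => by
    rw [Subgroup.mem_centralizer_singleton_iff]
    have := conj_mulEquiv φ k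
    rw [h, eq_mul_inv_iff_mul_eq] at this
    exact this
  let j : ↥E →* ↥(A ⊓ Subgroup.centralizer {φ}) :=
    ((MulAut.conj).comp E.subtype).codRestrict _ fun k => ⟨hinn _, hcc _ k.2⟩
  have hj : Function.Injective j := fun a b h =>
    Subtype.ext (C.conj_injective (congrArg Subtype.val h))
  have hcardL : Nat.card j.range = Nat.card E :=
    (Nat.card_congr (MonoidHom.ofInjective hj).toEquiv).symm
  have hLn : j.range.Normal := by
    constructor
    rintro _ ⟨k, rfl⟩ g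
    have hg := Subgroup.mem_centralizer_singleton_iff.1 g.2.2
    refine ⟨⟨g.1 k.1, ?_⟩, Subtype.ext (conj_mulEquiv g.1 k.1)⟩
    change φ (g.1 k.1) = g.1 k.1
    rw [← MulAut.mul_apply, ← hg, MulAut.mul_apply]
    exact congrArg g.1 k.2
  haveI := hLn
  let θ : OG Q₀ →* ↥E := hE.smallHom.codRestrict _ fun k => hE.fld_smallHom he.apply hR k
  have hθ : ∀ k, θ k = 1 ↔ k ∈ Subgroup.center (OG Q₀) := fun k =>
    (Subtype.ext_iff).trans (hE.smallHom_eq_one_iff C C₀)
  obtain ⟨P₀⟩ := C₀.pairs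
  have hcentre : Subgroup.center (OG Q₀) ≠ ⊤ := by
    intro h
    haveI := C₀.pomega_nontrivial
    obtain ⟨y, hy⟩ := exists_ne (1 : Cfsg.POmega K ⇑Q₀)
    obtain ⟨g, rfl⟩ := pr_surjective y
    exact hy ((QuotientGroup.eq_one_iff g).2 (h ▸ Subgroup.mem_top g))
  have hEne : j.range ≠ ⊥ := by
    intro h
    refine hcentre (eq_top_iff.2 fun k _ => (hθ k).1 (hj ?_))
    have h1 : j (θ k) ∈ j.range := ⟨_, rfl⟩
    rw [h, Subgroup.mem_bot] at h1
    rw [h1, map_one]
  have hpow : ∀ k ∈ E, k ^ 4 ∈ hE.smallHom.range := by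
    intro k hk
    obtain ⟨g₀, hg₀⟩ := M.exists_of_fixed hσ hpp.pos (show fld M.rat k = k from hk)
    obtain ⟨c, hc⟩ := g₀.2
    have hc : HasMult Q₀ g₀.1 c := hc
    have h1 : HasMult Q₀ ((Matrix.GeneralLinearGroup.scalar ι c)⁻¹ * (g₀.1 * g₀.1)) 1 := by
      have := (HasMult.scalar (Q := Q₀) c).inv.mul (hc.mul hc)
      rwa [inv_mul_cancel] at this
    set w : ↥(Cfsg.isometryGroup K ⇑Q₀) := ⟨_, h1.mem_isometry⟩ with hw
    have hdec : g₀ * g₀ = ⟨_, scalar_mem_GO c⟩ * ⟨w.1, isometry_mem_GO w⟩ := Subtype.ext (by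
      show g₀.1 * g₀.1 = Matrix.GeneralLinearGroup.scalar ι c * w.1
      rw [hw, mul_inv_cancel_left])
    have hsc : sim (hE.goHom (⟨_, scalar_mem_GO c⟩ : GO Q₀)) = 1 := by
      refine (sim_eq_one_iff C).2 ⟨Units.map (e : K →* F) c, ?_⟩
      rw [IsExt.goHom_val]
      refine Units.ext ?_
      ext i l
      by_cases hil : i = l <;> simp [hil]
    refine ⟨⟨w * w, C₀.mul_self_mem_omega w⟩, C.conj_injective ?_⟩
    show inner (hE.omHom _) = MulAut.conj (k ^ 4)
    rw [map_pow, hg₀, ← map_pow, ← map_pow, show (4 : ℕ) = 2 * 2 from rfl, pow_mul, pow_two g₀, hdec,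
      pow_two, map_mul, map_mul, map_mul, map_mul, hsc, one_mul, ← sim_omegaHom, ← hE.goHom_omegaHom,
      ← map_mul, ← map_mul]
    rfl
  constructor
  · intro hcore
    by_contra hcop
    apply hcore
    have hpdvd : p ∣ Nat.card E := by
      by_contra h
      exact hcop ((hpp.coprime_iff_not_dvd).2 h)
    have hpθ : p ∣ Nat.card hE.smallHom.range :=
      hE.dvd_card_range C C₀ (fun h h0 => hpF (by
        rw [h, Nat.cast_ofNat, ← map_ofNat e 2, h0, map_zero])) hpdvd hpow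
    set θ' := j.comp θ with hθ'
    have hker : ∀ k, θ' k = 1 ↔ k ∈ Subgroup.center (OG Q₀) := fun k => by
      rw [hθ', MonoidHom.comp_apply, map_eq_one_iff j hj, hθ]
    refine CfsgLib.AutPSL.core_eq_bot j.range θ'.range ?_ ?_ ?_ ?_
    · rintro _ ⟨k, rfl⟩
      exact ⟨θ k, rfl⟩
    · rintro _ ⟨l, rfl⟩ _ ⟨k, rfl⟩
      obtain ⟨g₀, hg₀⟩ := M.exists_of_fixed hσ hpp.pos (show fld M.rat l.1 = l.1 from l.2)
      refine ⟨(simSemi g₀).omegaMap k, Subtype.ext ?_⟩
      show inner (hE.omHom _) = MulAut.conj l.1 * inner (hE.omHom k) * (MulAut.conj l.1)⁻¹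
      rw [hg₀, ← sim_omegaHom, ← sim_omegaHom, ← hE.goHom_omegaHom, ← hE.goHom_omegaHom,
        simSemi_omegaMap, map_mul, map_mul, map_mul, map_mul, map_inv, map_inv]
    · intro N hNle hNn hNc
      haveI : (N.comap θ').Normal := by
        constructor
        intro b hb g
        rw [Subgroup.mem_comap, map_mul, map_mul, map_inv]
        exact hNn _ ⟨g, rfl⟩ _ hb
      rcases TwoPairs.normal_le_center_or_eq_top C₀.nondeg C₀.five P₀.toTwoPairs (N.comap θ') with h | h
      · refine eq_bot_iff.2 fun x hx => ?_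
        obtain ⟨k, rfl⟩ := hNle hx
        exact Subgroup.mem_bot.2 ((hker k).2 (h hx))
      · exfalso
        have hN : N = θ'.range := le_antisymm hNle (by
          rintro _ ⟨k, rfl⟩
          exact (h ▸ Subgroup.mem_top k : k ∈ N.comap θ'))
        have hc : Nat.card hE.smallHom.range = Nat.card θ'.range := by
          rw [hθ', MonoidHom.range_comp, Subgroup.card_map_of_injective hj,
            ← Subgroup.card_map_of_injective E.subtype_injective, ← MonoidHom.range_comp]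
          rfl
        rw [hc, ← hN] at hpθ
        exact hpp.not_dvd_one (hNc.symm.eq_one_of_dvd hpθ ▸ dvd_rfl : p ∣ 1)
    · intro g hg
      have hfix : ∀ k, g.1 (hE.smallHom k) = hE.smallHom k := fun k => C.conj_injective (by
        have h := congrArg Subtype.val (hg _ ⟨k, rfl⟩)
        change g.1 * MulAut.conj (hE.smallHom k) = MulAut.conj (hE.smallHom k) * g.1 at h
        rw [conj_mulEquiv, h, mul_inv_cancel_right])
      obtain ⟨k, hk⟩ := hE.eq_fld_pow_of_fix he C C₀ hR hfix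
      refine ⟨1, Subtype.ext ?_⟩
      change g.1 ^ p ^ 1 = 1
      rw [pow_one, hk, ← pow_mul, mul_comm, pow_mul, ← hφ,
        show φ ^ p = 1 by rw [← hσ, ← orderOf_fld C hR, pow_orderOf_eq_one], one_pow]
  · intro hcop
    exact CfsgLib.AutPSL.core_ne_bot hLn hEne (by rw [hcardL]; exact hcop.symm)

/-- Transport of the criterion along an isomorphism of the socle. -/
theorem core_iff_of_congr {T T' : Type*} [Group T] [Group T'] (ψ : T ≃* T') {p : ℕ} [Fact p.Prime]
    {A : Subgroup (MulAut T)} (hinn : ∀ k, MulAut.conj k ∈ A) {x : MulAut T} {φ : MulAut T'}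
    (hx : MulAut.congr ψ x = φ)
    (key : ∀ A' : Subgroup (MulAut T'), (∀ k, MulAut.conj k ∈ A') →
      (Cfsg.pPrimeCore p ↥(A' ⊓ Subgroup.centralizer {φ}) ≠ ⊥ ↔
        Nat.Coprime p (Nat.card ↥(MonoidHom.eqLocus φ.toMonoidHom (MonoidHom.id T'))))) :
    Cfsg.pPrimeCore p ↥(A ⊓ Subgroup.centralizer {x}) ≠ ⊥ ↔
      Nat.Coprime p (Nat.card ↥(MonoidHom.eqLocus x.toMonoidHom (MonoidHom.id T))) := by
  set Θ : MulAut T ≃* MulAut T' := MulAut.congr ψ with hΘ
  have hinn' : ∀ k, MulAut.conj k ∈ A.map Θ.toMonoidHom := fun k =>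
    ⟨MulAut.conj (ψ.symm k), hinn _, by ext1 y; simp [hΘ, MulAut.congr]⟩
  have hmap : (A ⊓ Subgroup.centralizer {x}).map Θ.toMonoidHom =
      A.map Θ.toMonoidHom ⊓ Subgroup.centralizer {φ} := by
    ext y
    obtain ⟨z, rfl⟩ := Θ.surjective y
    simp only [Subgroup.mem_map_equiv, Subgroup.mem_inf, MulEquiv.symm_apply_apply,
      Subgroup.mem_centralizer_singleton_iff, ← hx, ← map_mul, Θ.injective.eq_iff]
  let E := (Θ.subgroupMap (A ⊓ Subgroup.centralizer {x})).trans (MulEquiv.subgroupCongr hmap)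
  have hcard : Nat.card ↥(MonoidHom.eqLocus x.toMonoidHom (MonoidHom.id T)) =
      Nat.card ↥(MonoidHom.eqLocus φ.toMonoidHom (MonoidHom.id T')) := by
    refine Nat.card_congr (Equiv.subtypeEquiv ψ.toEquiv fun k => ?_)
    change x k = k ↔ φ (ψ k) = ψ k
    rw [← hx]
    show x k = k ↔ ψ (x (ψ.symm (ψ k))) = ψ k
    rw [MulEquiv.symm_apply_apply, ψ.injective.eq_iff]
  rw [hcard, ← key _ hinn']
  exact ⟨CfsgLib.AutPSL.pPrimeCore_ne_bot_congr E, CfsgLib.AutPSL.pPrimeCore_ne_bot_congr E.symm⟩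

end CfsgLib.AutPOmega
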