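import Cfsg.Agent.AutPOmega.Group
import Cfsg.Agent.OmegaOrbits.Basic

/-!
# Extension of scalars for quadratic forms on `F^ι`
-/

set_option autoImplicit false
set_option linter.unusedSectionVars false

namespace CfsgLib.AutPOmega

open Matrix Module CfsgLib.Spinor CfsgLib.Forms CfsgLib.Forms4

variable {K F : Type*} [Field K] [Field F] {ι : Type} [Fintype ι] [DecidableEq ι]

/-- `Q` is `Q₀` with scalars extended along `e`. -/
def IsExt (e : K →+* F) (Q₀ : QuadraticForm K (ι → K)) (Q : QuadraticForm F (ι → F)) : Prop :=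
  ∀ v : ι → K, Q (fun i => e (v i)) = e (Q₀ v)

variable {e : K →+* F} {Q₀ : QuadraticForm K (ι → K)} {Q : QuadraticForm F (ι → F)}

theorem map_single_one (i : ι) :
    (fun j => e ((Pi.single i (1 : K) : ι → K) j)) = (Pi.single i 1 : ι → F) := by
  funext j; by_cases h : j = i <;> simp [h]

theorem IsExt.polar (h : IsExt e Q₀ Q) (u v : ι → K) :
    QuadraticMap.polar (⇑Q) (fun i => e (u i)) (fun i => e (v i)) =
      e (QuadraticMap.polar (⇑Q₀) u v) := by
  simp only [QuadraticMap.polar, map_sub]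
  rw [← h, ← h, ← h]
  congr 3
  funext i
  simp

/-- Forms agreeing on coordinate vectors and their sums are equal. -/
theorem form_ext {Q₁ Q₂ : QuadraticForm F (ι → F)}
    (h1 : ∀ i, Q₁ (Pi.single i 1) = Q₂ (Pi.single i 1))
    (h2 : ∀ i j, Q₁ (Pi.single i 1 + Pi.single j 1) = Q₂ (Pi.single i 1 + Pi.single j 1)) :
    Q₁ = Q₂ := by
  have hp : QuadraticMap.polarBilin Q₁ = QuadraticMap.polarBilin Q₂ := by
    refine LinearMap.ext_basis (Pi.basisFun F ι) (Pi.basisFun F ι) fun i j => ?_
    simp [QuadraticMap.polar, h1, h2]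
  refine QuadraticMap.ext fun w => ?_
  suffices ∀ s : Finset ι, Q₁ (∑ i ∈ s, w i • Pi.single i 1) = Q₂ (∑ i ∈ s, w i • Pi.single i 1) by
    simpa [← Pi.single_smul', Finset.univ_sum_single] using this Finset.univ
  intro s
  induction s using Finset.induction_on with
  | empty => simp
  | insert i s hi ih =>
    rw [Finset.sum_insert hi, QuadraticMap.map_add (⇑Q₁), QuadraticMap.map_add (⇑Q₂), ih,
      QuadraticMap.map_smul, QuadraticMap.map_smul, h1, ← QuadraticMap.polarBilin_apply_apply,
      ← QuadraticMap.polarBilin_apply_apply, hp]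

theorem IsExt.unique (h : IsExt e Q₀ Q) {Q' : QuadraticForm F (ι → F)} (h' : IsExt e Q₀ Q') :
    Q = Q' := by
  refine form_ext (fun i => ?_) fun i j => ?_
  · rw [← map_single_one (e := e), h, h']
  · have hs : (Pi.single i 1 + Pi.single j 1 : ι → F) =
        fun k => e ((Pi.single i (1 : K) + Pi.single j 1 : ι → K) k) := by
      rw [← map_single_one (e := e) i, ← map_single_one (e := e) j]; funext k; simp
    rw [hs, h, h']

theorem IsExt.nondegenerate (h : IsExt e Q₀ Q)
    (hQ : (QuadraticMap.polarBilin Q₀).Nondegenerate) :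
    (QuadraticMap.polarBilin Q).Nondegenerate := by
  have hd := (LinearMap.nondegenerate_iff_det_ne_zero (Pi.basisFun K ι)).1 hQ
  have hM : LinearMap.toMatrix₂ (Pi.basisFun F ι) (Pi.basisFun F ι) (QuadraticMap.polarBilin Q) =
      (LinearMap.toMatrix₂ (Pi.basisFun K ι) (Pi.basisFun K ι) (QuadraticMap.polarBilin Q₀)).map e := by
    ext i j
    simp only [LinearMap.toMatrix₂_apply, Matrix.map_apply, Pi.basisFun_apply,
      QuadraticMap.polarBilin_apply_apply]
    rw [← map_single_one (e := e), ← map_single_one (e := e), h.polar]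
  refine (LinearMap.nondegenerate_iff_det_ne_zero (Pi.basisFun F ι)).2 ?_
  rw [hM, ← RingHom.mapMatrix_apply, ← RingHom.map_det]
  exact (map_ne_zero_iff e e.injective).2 hd

theorem map_mulVec_apply (M : Matrix ι ι K) (v : ι → K) :
    M.map e *ᵥ (fun i => e (v i)) = fun i => e ((M *ᵥ v) i) := by
  funext i
  exact (e.map_mulVec M v i).symm

/-- A similitude stays one after extension of scalars. -/
theorem IsExt.hasMult (h : IsExt e Q₀ Q) {g : GL ι K} {c : Kˣ}
    (hg : ∀ v, Q₀ ((g : Matrix ι ι K) *ᵥ v) = (c : K) * Q₀ v) (w : ι → F) :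
    Q ((Matrix.GeneralLinearGroup.map e g : GL ι F).1 *ᵥ w) = e c * Q w := by
  have heq : Q.comp (Matrix.mulVecLin (Matrix.GeneralLinearGroup.map e g : GL ι F).1) =
      e c • Q := by
    have key : ∀ v : ι → K, (Q.comp (Matrix.mulVecLin (Matrix.GeneralLinearGroup.map e g : GL ι F).1))
        (fun i => e (v i)) = (e c • Q) (fun i => e (v i)) := fun v => by
      rw [QuadraticMap.comp_apply, Matrix.mulVecLin_apply, QuadraticMap.smul_apply, smul_eq_mul, h v,
        show (Matrix.GeneralLinearGroup.map e g : GL ι F).1 = g.1.map e from rfl, map_mulVec_apply, h,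
        hg, map_mul]
    refine form_ext (fun i => ?_) fun i j => ?_
    · rw [← map_single_one (e := e)]; exact key _
    · have hs : (Pi.single i 1 + Pi.single j 1 : ι → F) =
          fun k => e ((Pi.single i (1 : K) + Pi.single j 1 : ι → K) k) := by
        rw [← map_single_one (e := e) i, ← map_single_one (e := e) j]; funext k; simp
      rw [hs]; exact key _
  have := congrArg (fun q : QuadraticForm F (ι → F) => q w) heq
  simpa using this

theorem IsExt.map_mem_GO (h : IsExt e Q₀ Q) {g : GL ι K} (hg : g ∈ GO Q₀) :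
    Matrix.GeneralLinearGroup.map e g ∈ GO Q := by
  obtain ⟨c, hc⟩ := hg
  exact ⟨Units.map (e : K →* F) c, fun v => h.hasMult hc v⟩

theorem IsExt.map_mem_iso (h : IsExt e Q₀ Q) {g : GL ι K} (hg : g ∈ Cfsg.isometryGroup K ⇑Q₀) :
    Matrix.GeneralLinearGroup.map e g ∈ Cfsg.isometryGroup F ⇑Q := fun w _ => by
  have := h.hasMult (g := g) (c := 1) (fun v => by rw [Units.val_one, one_mul]; exact hg v v) w
  rw [Units.val_one, map_one, one_mul] at this
  exact this

/-- Extension of scalars on isometry groups. -/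
def IsExt.isoHom (h : IsExt e Q₀ Q) :
    ↥(Cfsg.isometryGroup K ⇑Q₀) →* ↥(Cfsg.isometryGroup F ⇑Q) :=
  ((Matrix.GeneralLinearGroup.map e).comp (Cfsg.isometryGroup K ⇑Q₀).subtype).codRestrict _
    fun g => h.map_mem_iso g.2

theorem IsExt.mat_isoHom (h : IsExt e Q₀ Q) (g : ↥(Cfsg.isometryGroup K ⇑Q₀)) :
    mat Q (h.isoHom g) = (mat Q₀ g).map e := rfl

theorem IsExt.isoHom_injective (h : IsExt e Q₀ Q) : Function.Injective h.isoHom := fun g g' hg =>
  mat_ext Q₀ (Matrix.map_injective e.injective (congrArg (fun x => mat Q x) hg))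

theorem IsExt.reflectionMatrix (h : IsExt e Q₀ Q) (v : ι → K) :
    Cfsg.reflectionMatrix (⇑Q) (fun i => e (v i)) = (Cfsg.reflectionMatrix (⇑Q₀) v).map e := by
  ext i j
  have hp : Cfsg.polarVec (⇑Q) (fun k => e (v k)) j = e (Cfsg.polarVec (⇑Q₀) v j) := by
    rw [Cfsg.polarVec, Cfsg.polarVec, ← map_single_one (e := e), h.polar]
  simp [Cfsg.reflectionMatrix, Matrix.vecMulVec, hp, h v, Matrix.one_apply, apply_ite e]

theorem IsExt.isReflProd (h : IsExt e Q₀ Q) {g : ↥(Cfsg.isometryGroup K ⇑Q₀)} {vs : List (ι → K)}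
    (hg : IsReflProd Q₀ g vs) : IsReflProd Q (h.isoHom g) (vs.map fun v i => e (v i)) := by
  refine ⟨fun v hv => ?_, ?_⟩
  · obtain ⟨u, hu, rfl⟩ := List.mem_map.1 hv
    rw [h u]
    exact (map_ne_zero_iff e e.injective).2 (hg.1 u hu)
  · rw [h.mat_isoHom, hg.2, ← RingHom.mapMatrix_apply, map_list_prod, List.map_map, List.map_map]
    congr 1
    refine List.map_congr_left fun v _ => ?_
    exact (h.reflectionMatrix v).symm

theorem IsExt.isoHom_omega (h : IsExt e Q₀ Q) {g : ↥(Cfsg.isometryGroup K ⇑Q₀)}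
    (hg : g ∈ Cfsg.Omega K ⇑Q₀) : h.isoHom g ∈ Cfsg.Omega F ⇑Q := by
  have hle : (Cfsg.Omega K ⇑Q₀).map h.isoHom ≤ Cfsg.Omega F ⇑Q := by
    unfold Cfsg.Omega
    rw [commutator_def, commutator_def, Subgroup.map_commutator]
    exact Subgroup.commutator_mono le_top le_top
  exact hle ⟨g, hg, rfl⟩

theorem rat_iff_isExt [Finite F] {σ : F ≃+* F} {Q : QuadraticForm F (ι → F)} :
    Rat Q σ ↔ IsExt (σ : F →+* F) Q Q := Iff.rfl

/-- A form extended from a fixed field is rational. -/
theorem IsExt.rat [Finite F] (h : IsExt e Q₀ Q) {σ : F ≃+* F} (hσ : ∀ x, σ (e x) = e x) : Rat Q σ := by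
  intro w




  have hpol : ∀ i j, σ (QuadraticMap.polar (⇑Q) (Pi.single i 1) (Pi.single j 1)) =
      QuadraticMap.polar (⇑Q) (Pi.single i 1) (Pi.single j 1) := fun i j => by
    rw [← map_single_one (e := e), ← map_single_one (e := e), h.polar, hσ]
  have hdiag : ∀ i, σ (Q (Pi.single i 1)) = Q (Pi.single i 1) := fun i => by
    rw [← map_single_one (e := e), h, hσ]
  suffices ∀ s : Finset ι, Q (∑ i ∈ s, σ (w i) • Pi.single i 1) =
      σ (Q (∑ i ∈ s, w i • Pi.single i 1)) by
    have := this Finset.univ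
    simp only [← Pi.single_smul', smul_eq_mul, mul_one, Finset.univ_sum_single] at this
    exact this
  intro s
  induction s using Finset.induction_on with
  | empty => simp
  | insert i s hi ih =>
    rw [Finset.sum_insert hi, Finset.sum_insert hi, QuadraticMap.map_add (⇑Q),
      QuadraticMap.map_add (⇑Q), ih, map_add, map_add, QuadraticMap.map_smul, QuadraticMap.map_smul,
      smul_eq_mul, smul_eq_mul, map_mul, map_mul, hdiag,
      ← QuadraticMap.polarBilin_apply_apply, ← QuadraticMap.polarBilin_apply_apply]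
    simp only [map_sum, map_smul, LinearMap.smul_apply, QuadraticMap.polarBilin_apply_apply,
      smul_eq_mul, map_mul, hpol]

end CfsgLib.AutPOmega
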