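import Cfsg.Agent.Forms4.OmegaSimple
import Mathlib.GroupTheory.PGroup
import Mathlib.Algebra.CharP.Lemmas

/-!
# `Ω(Q)` acting on vectors: stabilisers, unipotent radicals, frames of three hyperbolic pairs
-/

set_option autoImplicit false
set_option linter.unusedSectionVars false

namespace CfsgLib.AutPOmega

open Matrix Module CfsgLib.Spinor CfsgLib.Forms CfsgLib.Forms4

variable {F : Type*} [Field F] {ι : Type} [Fintype ι] [DecidableEq ι]

/-- `Ω(Q)` as a type. -/
abbrev OG (Q : QuadraticForm F (ι → F)) := ↥(Cfsg.Omega F ⇑Q)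

variable {Q : QuadraticForm F (ι → F)}

set_option quotPrecheck false in
local notation "B" => QuadraticMap.polar (DFunLike.coe Q)

/-- The action of `Ω` on vectors. -/
abbrev app (g : OG Q) (v : ι → F) : ι → F := mat Q g.1 *ᵥ v

theorem app_one (v : ι → F) : app (1 : OG Q) v = v := Matrix.one_mulVec v

theorem app_mul (g h : OG Q) (v : ι → F) : app (g * h) v = app g (app h v) :=
  (Matrix.mulVec_mulVec v _ _).symm

theorem app_add (g : OG Q) (u v : ι → F) : app g (u + v) = app g u + app g v :=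
  Matrix.mulVec_add _ u v

theorem app_sub (g : OG Q) (u v : ι → F) : app g (u - v) = app g u - app g v :=
  Matrix.mulVec_sub _ u v

theorem app_neg (g : OG Q) (v : ι → F) : app g (-v) = -app g v := Matrix.mulVec_neg _ _

theorem app_smul (g : OG Q) (t : F) (v : ι → F) : app g (t • v) = t • app g v :=
  Matrix.mulVec_smul _ t v

theorem app_zero (g : OG Q) : app g 0 = 0 := Matrix.mulVec_zero _

theorem quad_app (g : OG Q) (v : ι → F) : Q (app g v) = Q v := quad_mulVec Q _ v

theorem polar_app (g : OG Q) (u v : ι → F) : B (app g u) (app g v) = B u v := polar_mulVec Q _ u v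

theorem app_inv_app (g : OG Q) (v : ι → F) : app g⁻¹ (app g v) = v := by
  rw [← app_mul, inv_mul_cancel, app_one]

theorem app_app_inv (g : OG Q) (v : ι → F) : app g (app g⁻¹ v) = v := by
  rw [← app_mul, mul_inv_cancel, app_one]

theorem app_injective (g : OG Q) : Function.Injective (app g) :=
  Function.LeftInverse.injective (app_inv_app g)

theorem app_ne_zero (g : OG Q) {v : ι → F} (hv : v ≠ 0) : app g v ≠ 0 := fun h =>
  hv (app_injective g (h.trans (app_zero g).symm))

theorem ext_app {g h : OG Q} (e : ∀ v, app g v = app h v) : g = h :=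
  Subtype.ext (mat_ext Q (Matrix.ext_iff_mulVec.2 e))

/-- The stabiliser of the point spanned by `x`. -/
def stab (Q : QuadraticForm F (ι → F)) (x : ι → F) : Subgroup (OG Q) where
  carrier := {g | ∃ t : F, t ≠ 0 ∧ app g x = t • x}
  one_mem' := ⟨1, one_ne_zero, by rw [app_one, one_smul]⟩
  mul_mem' := by
    rintro g h ⟨t, ht, e⟩ ⟨s, hs, e'⟩
    exact ⟨s * t, mul_ne_zero hs ht, by rw [app_mul, e', app_smul, e, smul_smul]⟩
  inv_mem' := by
    rintro g ⟨t, ht, e⟩
    refine ⟨t⁻¹, inv_ne_zero ht, ?_⟩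
    rw [← app_injective g |>.eq_iff, app_app_inv, app_smul, e, inv_smul_smul₀ ht]

theorem mem_stab_iff {x : ι → F} {g : OG Q} : g ∈ stab Q x ↔ ∃ t : F, t ≠ 0 ∧ app g x = t • x :=
  Iff.rfl

theorem mem_stab_of_eq {x : ι → F} {g : OG Q} (h : app g x = x) : g ∈ stab Q x :=
  ⟨1, one_ne_zero, by rw [h, one_smul]⟩

theorem stab_smul {x : ι → F} {c : F} (hc : c ≠ 0) : stab Q (c • x) = stab Q x := by
  ext g
  refine exists_congr fun t => and_congr_right fun _ => ?_
  rw [app_smul, smul_comm t c, (smul_right_injective _ hc).eq_iff]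

theorem conj_mem_stab_iff {x : ι → F} {g h : OG Q} :
    g * h * g⁻¹ ∈ stab Q (app g x) ↔ h ∈ stab Q x := by
  refine exists_congr fun t => and_congr_right fun _ => ?_
  rw [app_mul, app_mul, app_inv_app, ← app_smul, (app_injective g).eq_iff]

/-- The orthogonal complement. -/
def perp (Q : QuadraticForm F (ι → F)) (W : Submodule F (ι → F)) : Submodule F (ι → F) :=
  LinearMap.BilinForm.orthogonal (QuadraticMap.polarBilin Q) W

theorem mem_perp {W : Submodule F (ι → F)} {v : ι → F} :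
    v ∈ perp Q W ↔ ∀ w ∈ W, B w v = 0 := Iff.rfl

theorem mem_perp_span {x v : ι → F} : v ∈ perp Q (F ∙ x) ↔ B x v = 0 := by
  refine ⟨fun h => h x (Submodule.mem_span_singleton_self x), fun h w hw => ?_⟩
  obtain ⟨t, rfl⟩ := Submodule.mem_span_singleton.1 hw
  show B (t • x) v = 0
  rw [QuadraticMap.polar_smul_left, h, smul_zero]

theorem perp_perp (hQ : (QuadraticMap.polarBilin Q).Nondegenerate) (W : Submodule F (ι → F)) :
    perp Q (perp Q W) = W :=
  LinearMap.BilinForm.orthogonal_orthogonal hQ (fun x y h => by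
    simpa [QuadraticMap.polar_comm] using h) W

theorem finrank_perp (hQ : (QuadraticMap.polarBilin Q).Nondegenerate) (W : Submodule F (ι → F)) :
    finrank F ↥(perp Q W) = Fintype.card ι - finrank F W := by
  rw [perp, LinearMap.BilinForm.finrank_orthogonal hQ, finrank_fintype_fun_eq_card]

/-- The stabiliser of a subspace. -/
def stabSub (Q : QuadraticForm F (ι → F)) (W : Submodule F (ι → F)) : Subgroup (OG Q) where
  carrier := {g | ∀ w, app g w ∈ W ↔ w ∈ W}
  one_mem' := fun w => by rw [app_one]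
  mul_mem' := fun {g h} hg hh w => by rw [app_mul, hg, hh]
  inv_mem' := fun {g} hg w => by rw [← hg (app g⁻¹ w), app_app_inv]

theorem mem_stabSub_of_perp {W : Submodule F (ι → F)} {g : OG Q} (hg : g ∈ stabSub Q W)
    {v : ι → F} : app g v ∈ perp Q W ↔ v ∈ perp Q W := by
  refine ⟨fun h w hw => ?_, fun h w hw => ?_⟩
  · show B w v = 0
    rw [← polar_app g]
    exact h _ ((hg w).2 hw)
  · show B w (app g v) = 0
    rw [← app_app_inv g w, polar_app]
    exact h _ ((hg _).1 (by rwa [app_app_inv]))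

/-- The elements trivial on `W` and on `W^⊥/W`. -/
def unip (Q : QuadraticForm F (ι → F)) (W : Submodule F (ι → F)) : Subgroup (OG Q) where
  carrier := {g | (∀ w ∈ W, app g w = w) ∧ ∀ v ∈ perp Q W, app g v - v ∈ W}
  one_mem' := ⟨fun w _ => app_one w, fun v _ => by simp [app_one]⟩
  mul_mem' := by
    rintro g h ⟨hg, hg'⟩ ⟨hh, hh'⟩
    refine ⟨fun w hw => by rw [app_mul, hh w hw, hg w hw], fun v hv => ?_⟩
    have e : app (g * h) v - v = app g (app h v - v) + (app g v - v) := by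
      rw [app_mul, app_sub]; abel
    rw [e, hg _ (hh' v hv)]
    exact W.add_mem (hh' v hv) (hg' v hv)
  inv_mem' := by
    rintro g ⟨hg, hg'⟩
    have h1 : ∀ w ∈ W, app g⁻¹ w = w := fun w hw => by
      conv_lhs => rw [← hg w hw, app_inv_app]
    refine ⟨h1, fun v hv => ?_⟩
    have e : app g⁻¹ v - v = -app g⁻¹ (app g v - v) := by rw [app_sub, app_inv_app]; abel
    rw [e, h1 _ (hg' v hv)]
    exact W.neg_mem (hg' v hv)

theorem unip_le_stabSub (W : Submodule F (ι → F)) : unip Q W ≤ stabSub Q W := by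
  intro g hg w
  refine ⟨fun h => ?_, fun h => by rwa [hg.1 w h]⟩
  rw [← app_inv_app g w, (inv_mem hg).1 _ h]
  exact h

theorem unip_normal {W : Submodule F (ι → F)} {g h : OG Q} (hg : g ∈ stabSub Q W)
    (hh : h ∈ unip Q W) : g * h * g⁻¹ ∈ unip Q W := by
  refine ⟨fun w hw => ?_, fun v hv => ?_⟩
  · rw [app_mul, app_mul, hh.1 _ ((inv_mem hg w).2 hw), app_app_inv]
  · have h1 := hh.2 (app g⁻¹ v) ((mem_stabSub_of_perp (inv_mem hg)).2 hv)
    have h2 := (hg _).2 h1
    rwa [app_sub, app_app_inv, ← app_mul, ← app_mul] at h2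

theorem unip_sub_mem_perp {W : Submodule F (ι → F)} {g : OG Q} (hg : g ∈ unip Q W) (v : ι → F) :
    app g v - v ∈ perp Q W := by
  intro w hw
  show B w (app g v - v) = 0
  rw [QuadraticMap.polar_sub_right]
  conv_lhs => arg 1; rw [← hg.1 w hw, polar_app]
  exact sub_self _

theorem unip_pow (p : ℕ) [Fact p.Prime] [CharP F p] [Nonempty ι] {W : Submodule F (ι → F)}
    {g : OG Q} (hg : g ∈ unip Q W) : g ^ p ^ 2 = 1 := by
  set A := mat Q g.1 with hA
  have h3 : (A - 1) ^ 3 = 0 := by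
    refine Matrix.ext_iff_mulVec.2 fun v => ?_
    have e : ∀ u : ι → F, (A - 1) *ᵥ u = app g u - u := fun u => by
      rw [Matrix.sub_mulVec, Matrix.one_mulVec]
    rw [pow_succ, pow_two, ← Matrix.mulVec_mulVec, ← Matrix.mulVec_mulVec, e v,
      e (app g v - v), e, Matrix.zero_mulVec]
    have := hg.2 _ (unip_sub_mem_perp hg v)
    rw [hg.1 _ this, sub_self]
  have hp2 : 3 ≤ p ^ 2 := by
    have := (Fact.out : p.Prime).two_le
    nlinarith
  have h0 : (A - 1) ^ p ^ 2 = 0 := by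
    obtain ⟨d, hd⟩ := Nat.exists_eq_add_of_le hp2
    rw [hd, pow_add, h3, zero_mul]
  rw [sub_pow_char_pow_of_commute _ _ (Commute.one_right A), one_pow, sub_eq_zero] at h0
  refine Subtype.ext (mat_ext Q ?_)
  have hm : ∀ n : ℕ, mat Q (g ^ n : OG Q).1 = A ^ n := fun n => by
    induction n with
    | zero => rfl
    | succ n ih => rw [pow_succ, pow_succ, ← ih]; rfl
  rw [hm, h0]
  rfl

theorem isPGroup_unip (p : ℕ) [Fact p.Prime] [CharP F p] [Nonempty ι] (W : Submodule F (ι → F)) :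
    IsPGroup p (unip Q W) := fun g =>
  ⟨2, Subtype.ext (by rw [SubmonoidClass.coe_pow, unip_pow p g.2]; rfl)⟩

/-- Eichler maps in `Ω`. -/
theorem eich_mem_omega [Finite F] (hQ : (QuadraticMap.polarBilin Q).Nondegenerate)
    (hn : 5 ≤ Fintype.card ι) (P : TwoPairs Q) {u w : ι → F} (hu : Q u = 0) (huw : B u w = 0) :
    eichIso Q u w hu huw ∈ Cfsg.Omega F ⇑Q := by
  rw [TwoPairs.omega_eq_eichGroup hQ hn P]
  exact eichIso_mem Q hu huw

/-- Three mutually orthogonal hyperbolic pairs. -/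
structure ThreePairs (Q : QuadraticForm F (ι → F)) extends TwoPairs Q where
  /-- third vector -/
  c : ι → F
  /-- its partner -/
  d : ι → F
  qc : Q c = 0
  qd : Q d = 0
  cd : QuadraticMap.polar (⇑Q) c d = 1
  ec : QuadraticMap.polar (⇑Q) e c = 0
  ed : QuadraticMap.polar (⇑Q) e d = 0
  fc : QuadraticMap.polar (⇑Q) f c = 0
  fd : QuadraticMap.polar (⇑Q) f d = 0
  ac : QuadraticMap.polar (⇑Q) a c = 0
  ad : QuadraticMap.polar (⇑Q) a d = 0
  bc : QuadraticMap.polar (⇑Q) b c = 0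
  bd : QuadraticMap.polar (⇑Q) b d = 0

/-- The image of three pairs under an isometry. -/
def ThreePairs.map (P : ThreePairs Q) (g : ↥(Cfsg.isometryGroup F ⇑Q)) : ThreePairs Q where
  e := mat Q g *ᵥ P.e
  f := mat Q g *ᵥ P.f
  a := mat Q g *ᵥ P.a
  b := mat Q g *ᵥ P.b
  c := mat Q g *ᵥ P.c
  d := mat Q g *ᵥ P.d
  qe := by rw [quad_mulVec, P.qe]
  qf := by rw [quad_mulVec, P.qf]
  qa := by rw [quad_mulVec, P.qa]
  qb := by rw [quad_mulVec, P.qb]
  qc := by rw [quad_mulVec, P.qc]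
  qd := by rw [quad_mulVec, P.qd]
  ef := by rw [polar_mulVec, P.ef]
  ab := by rw [polar_mulVec, P.ab]
  ea := by rw [polar_mulVec, P.ea]
  eb := by rw [polar_mulVec, P.eb]
  fa := by rw [polar_mulVec, P.fa]
  fb := by rw [polar_mulVec, P.fb]
  cd := by rw [polar_mulVec, P.cd]
  ec := by rw [polar_mulVec, P.ec]
  ed := by rw [polar_mulVec, P.ed]
  fc := by rw [polar_mulVec, P.fc]
  fd := by rw [polar_mulVec, P.fd]
  ac := by rw [polar_mulVec, P.ac]
  ad := by rw [polar_mulVec, P.ad]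
  bc := by rw [polar_mulVec, P.bc]
  bd := by rw [polar_mulVec, P.bd]

/-- Rescaling the first pair. -/
def ThreePairs.scale (P : ThreePairs Q) (t : F) (ht : t ≠ 0) : ThreePairs Q where
  e := t • P.e
  f := t⁻¹ • P.f
  a := P.a
  b := P.b
  c := P.c
  d := P.d
  qe := by rw [QuadraticMap.map_smul, P.qe, smul_zero]
  qf := by rw [QuadraticMap.map_smul, P.qf, smul_zero]
  qa := P.qa
  qb := P.qb
  qc := P.qc
  qd := P.qd
  ef := by
    rw [QuadraticMap.polar_smul_left, QuadraticMap.polar_smul_right, P.ef, smul_eq_mul, smul_eq_mul,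
      mul_one, mul_inv_cancel₀ ht]
  ab := P.ab
  ea := by rw [QuadraticMap.polar_smul_left, P.ea, smul_zero]
  eb := by rw [QuadraticMap.polar_smul_left, P.eb, smul_zero]
  fa := by rw [QuadraticMap.polar_smul_left, P.fa, smul_zero]
  fb := by rw [QuadraticMap.polar_smul_left, P.fb, smul_zero]
  cd := P.cd
  ec := by rw [QuadraticMap.polar_smul_left, P.ec, smul_zero]
  ed := by rw [QuadraticMap.polar_smul_left, P.ed, smul_zero]
  fc := by rw [QuadraticMap.polar_smul_left, P.fc, smul_zero]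
  fd := by rw [QuadraticMap.polar_smul_left, P.fd, smul_zero]
  ac := P.ac
  ad := P.ad
  bc := P.bc
  bd := P.bd

/-- A set-up: finite field, nondegenerate form, three hyperbolic pairs. -/
structure Ctx (Q : QuadraticForm F (ι → F)) : Prop where
  nondeg : (QuadraticMap.polarBilin Q).Nondegenerate
  card_ge : 7 ≤ Fintype.card ι
  pairs : Nonempty (ThreePairs Q)

theorem Ctx.five (C : Ctx Q) : 5 ≤ Fintype.card ι := by have := C.card_ge; omega

theorem Ctx.nonempty (C : Ctx Q) : Nonempty ι := by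
  have := C.card_ge
  exact Fintype.card_pos_iff.1 (by omega)

theorem Ctx.eich_mem [Finite F] (C : Ctx Q) {u w : ι → F} (hu : Q u = 0) (huw : B u w = 0) :
    eichIso Q u w hu huw ∈ Cfsg.Omega F ⇑Q := by
  obtain ⟨P⟩ := C.pairs
  exact eich_mem_omega C.nondeg C.five P.toTwoPairs hu huw

/-- The Eichler map as an element of `Ω`. -/
def Ctx.eichG [Finite F] (C : Ctx Q) (u w : ι → F) (hu : Q u = 0) (huw : B u w = 0) : OG Q :=
  ⟨eichIso Q u w hu huw, C.eich_mem hu huw⟩

theorem Ctx.app_eichG [Finite F] (C : Ctx Q) (u w : ι → F) (hu : Q u = 0) (huw : B u w = 0)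
    (v : ι → F) : app (C.eichG u w hu huw) v = eich Q u w *ᵥ v := rfl

/-- Every hyperbolic pair begins a frame. -/
theorem Ctx.exists_frame [Finite F] (C : Ctx Q) {x y : ι → F} (hx : Q x = 0) (hy : Q y = 0)
    (hxy : B x y = 1) : ∃ P : ThreePairs Q, P.e = x ∧ P.f = y := by
  obtain ⟨P₀⟩ := C.pairs
  have hx0 : x ≠ 0 := fun h => by
    rw [h, QuadraticMap.polar_zero_left] at hxy; exact zero_ne_one hxy
  obtain ⟨s, -, α, hα, hs⟩ := P₀.exists_to_e C.nondeg hx0 hx
  set P₁ := (P₀.map s⁻¹).scale α hα with hP₁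
  have he : P₁.e = x := by
    show α • (mat Q s⁻¹ *ᵥ P₀.e) = x
    rw [← Matrix.mulVec_smul, ← hs, Matrix.mulVec_mulVec, ← mat_mul, inv_mul_cancel, mat_one,
      Matrix.one_mulVec]
  set a := P₁.toTwoPairs.proj y with ha
  have haW := P₁.toTwoPairs.inW_proj y
  have hd := P₁.toTwoPairs.decomp y
  rw [← ha] at haW hd
  rw [he, hxy] at hd
  have hq := P₁.toTwoPairs.quad_decomp (B P₁.f y) 1 haW
  rw [he, ← hd, hy, mul_one] at hq
  refine ⟨P₁.map (eichIso Q P₁.e a P₁.qe haW.1), ?_, ?_⟩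
  · show mat Q (eichIso Q P₁.e a P₁.qe haW.1) *ᵥ P₁.e = x
    rw [mat_eichIso, eich_mulVec_left P₁.qe haW.1, he]
  · show mat Q (eichIso Q P₁.e a P₁.qe haW.1) *ᵥ P₁.f = y
    have h0 : P₁.toTwoPairs.InW 0 :=
      ⟨QuadraticMap.polar_zero_right _ _, QuadraticMap.polar_zero_right _ _⟩
    have h := P₁.toTwoPairs.eich_e_apply 0 1 h0 haW
    simp only [zero_smul, zero_add, add_zero, one_smul, QuadraticMap.polar_zero_right, zero_sub,
      mul_one] at h
    rw [mat_eichIso, h, he]
    conv_rhs => rw [hd, eq_neg_of_add_eq_zero_left hq.symm]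
    simp

/-- Every nonzero singular vector begins a frame. -/
theorem Ctx.exists_frame_left [Finite F] (C : Ctx Q) {x : ι → F} (hx0 : x ≠ 0) (hx : Q x = 0) :
    ∃ P : ThreePairs Q, P.e = x := by
  obtain ⟨y, hy, hxy⟩ := exists_hyperbolic_partner Q (fun v h => C.nondeg.1 v h) hx0 hx
  obtain ⟨P, hP, -⟩ := C.exists_frame hx hy hxy
  exact ⟨P, hP⟩

end CfsgLib.AutPOmega
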