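import Cfsg.Agent.AutPOmega.Core
import Cfsg.Agent.Forms4.ExceptionalTools

/-!
# The centre of `PΩ`, and the small `Ω` inside the big one
-/

set_option autoImplicit false
set_option linter.unusedSectionVars false
set_option linter.style.haveILetI false

namespace CfsgLib.AutPOmega

open Matrix Module CfsgLib.Spinor CfsgLib.Forms CfsgLib.Forms4
open scoped commutatorElement

variable {F : Type*} [Field F] [Finite F] {ι : Type} [Fintype ι] [DecidableEq ι]
  {Q : QuadraticForm F (ι → F)}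

theorem Ctx.center_eq_bot (C : Ctx Q) : Subgroup.center (Cfsg.POmega F ⇑Q) = ⊥ := by
  obtain ⟨P⟩ := C.pairs
  refine eq_bot_iff.2 fun y hy => ?_
  obtain ⟨g, rfl⟩ := pr_surjective y
  refine Subgroup.mem_bot.2 ((QuotientGroup.eq_one_iff g).2
    (mem_center_of_commutator_mem_center (TwoPairs.commutator_omega C.nondeg C.five P.toTwoPairs)
      fun x => (QuotientGroup.eq_one_iff _).1 ?_))
  show pr Q ⁅g, x⁆ = 1
  rw [map_commutatorElement, commutatorElement_eq_one_iff_mul_comm]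
  exact (Subgroup.mem_center_iff.1 hy _).symm

theorem Ctx.conj_injective (C : Ctx Q) :
    Function.Injective (MulAut.conj : Cfsg.POmega F ⇑Q →* MulAut (Cfsg.POmega F ⇑Q)) := by
  refine (injective_iff_map_eq_one _).2 fun y hy => ?_
  have h : y ∈ Subgroup.center (Cfsg.POmega F ⇑Q) := Subgroup.mem_center_iff.2 fun z => by
    have := DFunLike.congr_fun hy z
    rw [MulAut.conj_apply, MulAut.one_apply, mul_inv_eq_iff_eq_mul] at this
    exact this.symm
  rwa [C.center_eq_bot] at h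

theorem Ctx.pomega_nontrivial (C : Ctx Q) : Nontrivial (Cfsg.POmega F ⇑Q) := by
  obtain ⟨P⟩ := C.pairs
  haveI := TwoPairs.isSimpleGroup_pOmega C.nondeg C.five P.toTwoPairs
  infer_instance

/-- A central element of `Ω` acts as a sign. -/
theorem Ctx.app_of_mem_center (C : Ctx Q) {g : OG Q} (hg : g ∈ Subgroup.center (OG Q)) :
    ∃ r : F, r * r = 1 ∧ ∀ v, app g v = r • v := by
  obtain ⟨P⟩ := C.pairs
  obtain ⟨r, hr, hm⟩ := (TwoPairs.mem_center_omega_iff C.nondeg C.five P.toTwoPairs g).1 hg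
  exact ⟨r, hr, fun v => by show mat Q g.1 *ᵥ v = _; rw [hm, Matrix.smul_mulVec, Matrix.one_mulVec]⟩

/-- The square of an isometry lies in `Ω`. -/
theorem Ctx.mul_self_mem_omega (C : Ctx Q) (k : ↥(Cfsg.isometryGroup F ⇑Q)) :
    k * k ∈ Cfsg.Omega F ⇑Q := by
  haveI := Fintype.ofFinite F
  have hexc : Nat.card F ≠ 2 ∨ Fintype.card ι ≠ 4 := Or.inr (by have := C.card_ge; omega)
  obtain ⟨vs, hvs⟩ := exists_isReflProd_finite C.nondeg hexc k
  refine (OmegaOrbits.mem_omega_iff_even C.nondeg hexc (hvs.mul hvs)).2 ⟨?_, ?_⟩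
  · rw [List.length_append]; exact ⟨_, rfl⟩
  · rw [List.map_append, List.prod_append]; exact ⟨_, rfl⟩

section Ext

variable {K : Type*} [Field K] [Finite K] {e : K →+* F} {σ : F ≃+* F}
  {Q₀ : QuadraticForm K (ι → K)}

/-- The small `Ω` in the big one. -/
def IsExt.omHom (hE : IsExt e Q₀ Q) : OG Q₀ →* OG Q :=
  (hE.isoHom.comp (Cfsg.Omega K ⇑Q₀).subtype).codRestrict _ fun k => hE.isoHom_omega k.2

theorem IsExt.omHom_injective (hE : IsExt e Q₀ Q) : Function.Injective hE.omHom := fun _ _ h =>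
  Subtype.ext (hE.isoHom_injective (congrArg Subtype.val h))

theorem IsExt.app_omHom (hE : IsExt e Q₀ Q) (k : OG Q₀) (v : ι → K) :
    app (hE.omHom k) (fun i => e (v i)) = fun i => e (app k v i) :=
  map_mulVec_apply _ v

theorem IsExt.goHom_omegaHom (hE : IsExt e Q₀ Q) (k : OG Q₀) :
    hE.goHom (omegaHom Q₀ k) = omegaHom Q (hE.omHom k) := rfl

theorem IsExt.omHom_mem_center (hE : IsExt e Q₀ Q) (C : Ctx Q) (C₀ : Ctx Q₀) {k : OG Q₀} :
    hE.omHom k ∈ Subgroup.center (OG Q) ↔ k ∈ Subgroup.center (OG Q₀) := by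
  obtain ⟨P⟩ := C.pairs
  refine ⟨fun h => Subgroup.mem_center_iff.2 fun x => hE.omHom_injective ?_, fun h => ?_⟩
  · rw [map_mul, map_mul]
    exact Subgroup.mem_center_iff.1 h _
  · obtain ⟨P₀⟩ := C₀.pairs
    obtain ⟨r, hr, hm⟩ := (TwoPairs.mem_center_omega_iff C₀.nondeg C₀.five P₀.toTwoPairs k).1 h
    refine (TwoPairs.mem_center_omega_iff C.nondeg C.five P.toTwoPairs _).2
      ⟨e r, by rw [← map_mul, hr, map_one], ?_⟩
    show (mat Q₀ k.1).map e = _
    rw [hm]
    ext i j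
    by_cases hij : i = j <;> simp [hij]

/-- The small Eichler maps are Eichler maps. -/
theorem IsExt.app_omHom_eichG (hE : IsExt e Q₀ Q) (C₀ : Ctx Q₀) {u w : ι → K} (hu : Q₀ u = 0)
    (huw : QuadraticMap.polar (⇑Q₀) u w = 0) (v : ι → F) :
    app (hE.omHom (C₀.eichG u w hu huw)) v = eich Q (fun i => e (u i)) (fun i => e (w i)) *ᵥ v := by
  show (mat Q₀ (eichIso Q₀ u w hu huw)).map e *ᵥ v = _
  congr 1
  rw [mat_eichIso]
  ext i j
  simp only [Matrix.map_apply]
  have h1 := congrFun (map_mulVec_apply (e := e) (eich Q₀ u w) (Pi.single j 1)) i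
  have h2 : (eich Q (fun i => e (u i)) (fun i => e (w i)) *ᵥ fun k => e ((Pi.single j 1 : ι → K) k)) i =
      e ((eich Q₀ u w *ᵥ Pi.single j 1) i) := by
    rw [eich_mulVec, eich_mulVec, hE.polar, hE.polar, hE]
    simp
  rw [map_single_one, Matrix.mulVec_single_one] at h2
  rw [Matrix.mulVec_single_one] at h2
  simpa using h2.symm

/-- The small group in `PΩ`. -/
def IsExt.smallHom (hE : IsExt e Q₀ Q) : OG Q₀ →* Cfsg.POmega F ⇑Q := (pr Q).comp hE.omHom

theorem IsExt.smallHom_eq_one_iff (hE : IsExt e Q₀ Q) (C : Ctx Q) (C₀ : Ctx Q₀) {k : OG Q₀} :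
    hE.smallHom k = 1 ↔ k ∈ Subgroup.center (OG Q₀) :=
  (QuotientGroup.eq_one_iff _).trans (hE.omHom_mem_center C C₀)

theorem fld_pr {σ : F ≃+* F} (hR : Rat Q σ) (g : OG Q) :
    fld hR (pr Q g) = pr Q (hR.semi.omegaMap g) := hR.semi.aut_pr g

theorem IsExt.fld_smallHom (hE : IsExt e Q₀ Q) (he : ∀ x, σ (e x) = e x) (hR : Rat Q σ) (k : OG Q₀) :
    fld hR (hE.smallHom k) = hE.smallHom k := by
  show fld hR (pr Q (hE.omHom k)) = pr Q (hE.omHom k)
  rw [fld_pr]
  congr 1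
  refine Subtype.ext (Subtype.ext ?_)
  show 1 * AutPSL.mapGL σ (hE.omHom k).1.1 * 1⁻¹ = _
  rw [one_mul, inv_one, mul_one]
  exact Units.ext (Matrix.ext fun i j => he _)

end Ext

end CfsgLib.AutPOmega
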