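import Cfsg.Agent.AutPOmega.Congr
import Cfsg.Agent.OmegaOrbits.Split
import Mathlib.Algebra.Polynomial.SpecificDegree
import Mathlib.FieldTheory.IsAlgClosed.AlgebraicClosure

/-!
# The classes of maximal totally singular subspaces and proper similitudes
-/

set_option autoImplicit false
set_option linter.unusedSectionVars false
set_option linter.style.haveILetI false

namespace CfsgLib.AutPOmega

open Matrix Module CfsgLib.Spinor CfsgLib.Forms CfsgLib.Forms4 CfsgLib.StdForms
open CfsgLib.OmegaOrbits (baseLag gmap)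

variable {F : Type*} [Field F]

/-- `PreservesSingularClasses` in other coordinates. -/
theorem psc_congr [Finite F] {ι κ : Type} [Fintype ι] [DecidableEq ι] [Fintype κ] [DecidableEq κ]
    {Q : QuadraticForm F (ι → F)} {Q' : QuadraticForm F (κ → F)}
    {L : (κ → F) ≃ₗ[F] (ι → F)} {c : Fˣ} (hL : ∀ v, Q (L v) = (c : F) * Q' v) {M : Matrix ι ι F}
    (h : Cfsg.PreservesSingularClasses (⇑Q) M) :
    Cfsg.PreservesSingularClasses (⇑Q') (congrMat L M) := by
  intro U hU
  set U' := U.map L.toLinearMap with hU'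
  have hTS : ∀ W : Submodule F (κ → F), Cfsg.Geo.IsTotallySingularQuad (⇑Q') W →
      Cfsg.Geo.IsTotallySingularQuad (⇑Q) (W.map L.toLinearMap) := by
    rintro W hW _ ⟨w, hw, rfl⟩
    show Q (L w) = 0
    rw [hL, hW w hw, mul_zero]
  have hmax : Cfsg.IsMaxTotallySingular (⇑Q) U' := by
    refine ⟨hTS U hU.1, fun W hW hle => ?_⟩
    have h1 : Cfsg.Geo.IsTotallySingularQuad (⇑Q') (W.map L.symm.toLinearMap) := by
      rintro _ ⟨w, hw, rfl⟩
      show Q' (L.symm w) = 0
      rw [sim_symm hL, hW w hw, mul_zero]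
    have h2 := hU.2 _ h1 fun u hu => ⟨L u, hle ⟨u, hu, rfl⟩, L.symm_apply_apply u⟩
    refine le_antisymm (fun w hw => ⟨L.symm w, ?_, L.apply_symm_apply w⟩) hle
    rw [← h2]; exact ⟨w, hw, rfl⟩
  have hh := h U' hmax
  have himg : Cfsg.imageSubmodule M U' = (Cfsg.imageSubmodule (congrMat L M) U).map L.toLinearMap := by
    rw [Cfsg.imageSubmodule, Cfsg.imageSubmodule, hU', ← Submodule.map_comp, ← Submodule.map_comp]
    congr 1
    refine LinearMap.ext fun v => ?_
    show M *ᵥ L v = L (congrMat L M *ᵥ v)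
    rw [congrMat_mulVec, L.apply_symm_apply]
  unfold Cfsg.SameParityClass at hh ⊢
  rwa [himg, hU', ← Submodule.map_inf _ L.injective, LinearEquiv.finrank_map_eq,
    LinearEquiv.finrank_map_eq] at hh

/-- Scaling the first half multiplies the plus form. -/
noncomputable def dilate (m : ℕ) (c : Fˣ) : GL (Fin m ⊕ Fin m) F :=
  ⟨Matrix.diagonal (Sum.elim (fun _ => (c : F)) fun _ => 1),
    Matrix.diagonal (Sum.elim (fun _ => ((c⁻¹ : Fˣ) : F)) fun _ => 1),
    by rw [Matrix.diagonal_mul_diagonal, ← Matrix.diagonal_one]; congr 1; funext i; rcases i with i | i <;> simp,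
    by rw [Matrix.diagonal_mul_diagonal, ← Matrix.diagonal_one]; congr 1; funext i; rcases i with i | i <;> simp⟩

theorem dilate_mulVec_base (m : ℕ) (c : Fˣ) {u : Fin m ⊕ Fin m → F} (hu : u ∈ baseLag m F) :
    (dilate m c).1 *ᵥ u = (c : F) • u := by
  funext j
  rw [Pi.smul_apply, smul_eq_mul]
  show (Matrix.diagonal _ *ᵥ u) j = _
  rw [Matrix.mulVec_diagonal]
  rcases j with i | i
  · rfl
  · have h : u (Sum.inr i) = 0 := congrFun hu i
    rw [h, mul_zero, mul_zero]

theorem image_dilate_base (m : ℕ) (c : Fˣ) :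
    (baseLag m F).map (Matrix.toLin' (dilate m c).1) = baseLag m F := by
  refine le_antisymm ?_ fun u hu => ⟨((c⁻¹ : Fˣ) : F) • u, (baseLag m F).smul_mem _ hu, ?_⟩
  · rintro _ ⟨u, hu, rfl⟩
    rw [Matrix.toLin'_apply, dilate_mulVec_base m c hu]
    exact (baseLag m F).smul_mem _ hu
  · rw [Matrix.toLin'_apply, Matrix.mulVec_smul, dilate_mulVec_base m c hu, smul_smul, ← Units.val_mul,
      inv_mul_cancel, Units.val_one, one_smul]

variable [Fintype F] {m : ℕ}

theorem hasMult_dilate (c : Fˣ) : HasMult (plusQ m F) (dilate m c) c := fun v => by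
  show plusQ m F (Matrix.diagonal _ *ᵥ v) = _
  rw [plusQ_apply, plusQ_apply, Cfsg.quadFormPlus, Cfsg.quadFormPlus, Finset.mul_sum]
  refine Finset.sum_congr rfl fun i _ => ?_
  rw [Matrix.mulVec_diagonal, Matrix.mulVec_diagonal]
  simp only [Sum.elim_inl, Sum.elim_inr]
  ring

/-- For an isometry, properness is the parity on the base subspace. -/
theorem proper_iso_iff_parity (hm : 4 ≤ m) (k : ↥(Cfsg.isometryGroup F ⇑(plusQ m F))) :
    Even (m - finrank F ↥(baseLag m F ⊓ gmap k (baseLag m F))) ↔ Proper (plusQ m F) k.1 := by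
  rw [proper_isometry_iff (ctx_plusQ hm).exists_value_one]
  by_cases h2 : (2 : F) = 0
  · haveI : CharP F 2 := CharTwo.of_one_ne_zero_of_two_eq_zero one_ne_zero h2
    rw [OmegaOrbits.even_sub_iff_mem_omega (Or.inr (by omega)) k]
    exact ⟨fun h => ⟨fun h' => absurd h2 h', fun _ => h⟩, fun h => h.2 h2⟩
  · rw [OmegaOrbits.even_sub_iff_det h2 m k]
    exact ⟨fun h => ⟨fun _ => h, fun h' => absurd h' h2⟩, fun h => h.1 h2⟩

theorem proper_dilate (hm : 4 ≤ m) (c : Fˣ) : Proper (plusQ m F) (dilate m c) := by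
  refine ⟨c, hasMult_dilate c, fun _ => ?_, fun h2 => ?_⟩
  · show (Matrix.diagonal _).det = _
    rw [Matrix.det_diagonal, Fintype.prod_sum_type, OmegaOrbits.card_split, Nat.mul_div_cancel_left _ two_pos]
    simp
  · haveI : CharP F 2 := CharTwo.of_one_ne_zero_of_two_eq_zero one_ne_zero h2
    obtain ⟨s, hs⟩ := FiniteField.isSquare_of_char_two (ringChar.eq F 2) (c : F)
    have hs0 : s ≠ 0 := fun h => c.ne_zero (by rw [hs, h, mul_zero])
    have hcu : Units.mk0 s hs0 * Units.mk0 s hs0 = c := Units.ext (by simp [hs])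
    have h1 : HasMult (plusQ m F) ((Matrix.GeneralLinearGroup.scalar _ (Units.mk0 s hs0))⁻¹ * dilate m c) 1 := by
      have := (HasMult.scalar (Q := plusQ m F) (Units.mk0 s hs0)).inv.mul (hasMult_dilate c)
      rwa [hcu, inv_mul_cancel] at this
    set k : ↥(Cfsg.isometryGroup F ⇑(plusQ m F)) := ⟨_, h1.mem_isometry⟩ with hk
    refine ⟨Units.mk0 s hs0, k, ?_, by rw [hk, mul_inv_cancel_left]⟩
    refine (OmegaOrbits.even_sub_iff_mem_omega (Or.inr (by omega)) k).1 ?_
    rw [OmegaOrbits.gmap_eq_of_le k fun u hu => ?_, inf_idem, OmegaOrbits.finrank_baseLag, Nat.sub_self]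
    · exact ⟨0, rfl⟩
    show ((Matrix.GeneralLinearGroup.scalar _ (Units.mk0 s hs0))⁻¹ * dilate m c).1 *ᵥ u ∈ _
    rw [← map_inv, Units.val_mul, ← Matrix.mulVec_mulVec, dilate_mulVec_base m c hu, scalar_mulVec]
    exact Submodule.smul_mem _ _ ((baseLag m F).smul_mem _ hu)

/-- The proper similitudes have index two. -/
theorem Ctx.index_GP {ι : Type} [Fintype ι] [DecidableEq ι] {Q : QuadraticForm F (ι → F)} (C : Ctx Q)
    (hev : Even (Fintype.card ι)) : (GP Q).index = 2 := by
  obtain ⟨P⟩ := C.pairs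
  have hv : Q (P.e + P.f) ≠ 0 := by
    rw [QuadraticMap.map_add (⇑Q), P.qe, P.qf, P.ef]; simp
  rw [Subgroup.index_eq_two_iff]
  refine ⟨⟨_, isometry_mem_GO (reflIso Q _ hv)⟩, fun b => ?_⟩
  by_cases hb : b ∈ GP Q
  · refine Or.inr ⟨hb, fun h => C.not_proper_reflIso _ hv ?_⟩
    exact (Subgroup.mul_mem_cancel_left _ hb).1 h
  · exact Or.inl ⟨C.proper_mul_reflIso hev b.2 hb _ hv, hb⟩

theorem finrank_le_of_singular {U : Submodule F (Fin m ⊕ Fin m → F)}
    (hU : ∀ u ∈ U, plusQ m F u = 0) : finrank F U ≤ m := by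
  have hle : U ≤ perp (plusQ m F) U := fun u hu w hw => OmegaOrbits.polar_eq_zero_of_singular hU hw hu
  have h := Submodule.finrank_mono hle
  rw [finrank_perp (plusQ_nondegenerate m), OmegaOrbits.card_split] at h
  omega

theorem isMax_base : Cfsg.IsMaxTotallySingular (⇑(plusQ m F)) (baseLag m F) :=
  ⟨OmegaOrbits.plusQ_baseLag m, fun W hW hle => (Submodule.eq_of_le_of_finrank_le hle (by
    rw [OmegaOrbits.finrank_baseLag]; exact finrank_le_of_singular hW)).symm⟩

/-- Maximal totally singular subspaces are moves of the base one. -/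
theorem exists_iso_base {U : Submodule F (Fin m ⊕ Fin m → F)}
    (hU : Cfsg.IsMaxTotallySingular (⇑(plusQ m F)) U) :
    ∃ k : ↥(Cfsg.isometryGroup F ⇑(plusQ m F)), gmap k (baseLag m F) = U := by
  have hle : finrank F U ≤ finrank F ↥(baseLag m F) := by
    rw [OmegaOrbits.finrank_baseLag]; exact finrank_le_of_singular hU.1
  let b := Module.finBasis F ↥(baseLag m F)
  have hli : LinearIndependent F fun i : Fin (finrank F U) =>
      ((b (Fin.castLE hle i) : ↥(baseLag m F)) : Fin m ⊕ Fin m → F) :=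
    (b.linearIndependent.map' (baseLag m F).subtype (Submodule.ker_subtype _)).comp _
      (Fin.castLE_injective hle)
  set U' := Submodule.span F (Set.range fun i : Fin (finrank F U) =>
    ((b (Fin.castLE hle i) : ↥(baseLag m F)) : Fin m ⊕ Fin m → F)) with hU'
  have hU'le : U' ≤ baseLag m F := Submodule.span_le.2 (by rintro _ ⟨i, rfl⟩; exact (b _).2)
  have hU'rank : finrank F U' = finrank F U := by
    rw [hU', finrank_span_eq_card hli, Fintype.card_fin]
  obtain ⟨k, hk⟩ := OmegaOrbits.exists_extend (plusQ_nondegenerate m)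
    (LinearEquiv.ofFinrankEq U' U hU'rank) fun u =>
      (hU.1 _ (Subtype.property _)).trans (OmegaOrbits.plusQ_baseLag m _ (hU'le u.2)).symm
  refine ⟨k, hU.2 _ ?_ (hk ▸ Submodule.map_mono hU'le)⟩
  rintro _ ⟨u, hu, rfl⟩
  rw [Matrix.mulVecLin_apply, quad_mulVec]
  exact OmegaOrbits.plusQ_baseLag m u hu

/-- A similitude of the plus form preserves both classes exactly when it is proper. -/
theorem psc_plus_iff (hm : 4 ≤ m) {g : GL (Fin m ⊕ Fin m) F} (hg : g ∈ GO (plusQ m F)) :
    Cfsg.PreservesSingularClasses (⇑(plusQ m F)) g.1 ↔ Proper (plusQ m F) g := by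
  obtain ⟨c, hc⟩ := hg
  have hc : HasMult (plusQ m F) g c := hc
  have h1 : HasMult (plusQ m F) (g * (dilate m c)⁻¹) 1 := by
    have := hc.mul (hasMult_dilate (m := m) c).inv
    rwa [mul_inv_cancel] at this
  set k : ↥(Cfsg.isometryGroup F ⇑(plusQ m F)) := ⟨_, h1.mem_isometry⟩ with hk
  have hgk : g = k.1 * dilate m c := by rw [hk, inv_mul_cancel_right]
  have hdG : dilate m c ∈ GO (plusQ m F) := ⟨c, hasMult_dilate c⟩
  have hkp : Proper (plusQ m F) g ↔ Proper (plusQ m F) k.1 := by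
    have h := Subgroup.mul_mem_cancel_right (GP (plusQ m F)) (x := (⟨dilate m c, hdG⟩ : GO (plusQ m F)))
      (y := ⟨k.1, isometry_mem_GO k⟩) (proper_dilate hm c)
    rw [mem_GP_iff, mem_GP_iff, Subgroup.coe_mul, ← hgk] at h
    exact h
  constructor
  · intro h
    have hb := h _ isMax_base
    unfold Cfsg.SameParityClass Cfsg.imageSubmodule at hb
    rw [hgk, Units.val_mul, Matrix.toLin'_mul, Submodule.map_comp, image_dilate_base,
      OmegaOrbits.finrank_baseLag] at hb
    exact hkp.2 ((proper_iso_iff_parity hm k).1 hb)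
  · intro h U hU
    obtain ⟨k₀, rfl⟩ := exists_iso_base hU
    have h1' : HasMult (plusQ m F) (dilate m c * k₀.1 * (dilate m c)⁻¹) 1 := by
      have := ((hasMult_dilate (m := m) c).mul (HasMult.isometry k₀)).mul (hasMult_dilate (m := m) c).inv
      rwa [mul_one, mul_inv_cancel] at this
    set k₁ : ↥(Cfsg.isometryGroup F ⇑(plusQ m F)) := ⟨_, h1'.mem_isometry⟩ with hk₁
    have himg : Cfsg.imageSubmodule g.1 (gmap k₀ (baseLag m F)) = gmap (k * k₁) (baseLag m F) := by
      unfold Cfsg.imageSubmodule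
      rw [← Submodule.map_comp, ← Matrix.toLin'_apply', ← Matrix.toLin'_mul,
        show g.1 * mat (plusQ m F) k₀ = mat (plusQ m F) (k * k₁) * (dilate m c).1 from
          congrArg Units.val (show g * k₀.1 = k.1 * k₁.1 * dilate m c by
            simp only [hk, hk₁]; group),
        Matrix.toLin'_mul, Submodule.map_comp, image_dilate_base]
      rfl
    unfold Cfsg.SameParityClass
    rw [himg, OmegaOrbits.finrank_gmap, OmegaOrbits.finrank_baseLag]
    have hinf : finrank F ↥(gmap k₀ (baseLag m F) ⊓ gmap (k * k₁) (baseLag m F)) =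
        finrank F ↥(baseLag m F ⊓ gmap (k₀⁻¹ * (k * k₁)) (baseLag m F)) := by
      conv_lhs => rw [show k * k₁ = k₀ * (k₀⁻¹ * (k * k₁)) by rw [mul_inv_cancel_left],
        OmegaOrbits.gmap_mul, gmap, ← Submodule.map_inf _ (OmegaOrbits.mulVec_injective k₀)]
      exact OmegaOrbits.finrank_gmap k₀ _
    rw [hinf, proper_iso_iff_parity hm]
    have hidx := (ctx_plusQ (F := F) hm).index_GP ⟨m, by simp⟩
    have hmem : (⟨k₀.1, isometry_mem_GO k₀⟩ : GO (plusQ m F))⁻¹ * (⟨k.1, isometry_mem_GO k⟩ *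
        ((⟨dilate m c, hdG⟩ : GO (plusQ m F)) * ⟨k₀.1, isometry_mem_GO k₀⟩ *
          (⟨dilate m c, hdG⟩ : GO (plusQ m F))⁻¹)) ∈ GP (plusQ m F) := by
      have hd : (⟨dilate m c, hdG⟩ : GO (plusQ m F)) ∈ GP (plusQ m F) := proper_dilate hm c
      have hkG : (⟨k.1, isometry_mem_GO k⟩ : GO (plusQ m F)) ∈ GP (plusQ m F) := hkp.1 h
      rw [Subgroup.mul_mem_iff_of_index_two hidx, inv_mem_iff, Subgroup.mul_mem_cancel_left _ hkG,
        Subgroup.mul_mem_cancel_right _ (inv_mem hd), Subgroup.mul_mem_cancel_left _ hd]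
    exact hmem

/-- The same for every form similar to a plus form. -/
theorem psc_iff_of_similar {ι : Type} [Fintype ι] [DecidableEq ι] {Q : QuadraticForm F (ι → F)}
    (hm : 4 ≤ m) (hsim : Similar Q (plusQ m F)) {g : GL ι F} (hg : g ∈ GO Q) :
    Cfsg.PreservesSingularClasses (⇑Q) g.1 ↔ Proper Q g := by
  obtain ⟨L, c, hL⟩ := hsim
  rw [← proper_congr hL, ← psc_plus_iff hm (glCongr_mem_GO hL hg)]
  refine ⟨psc_congr hL, fun h => ?_⟩
  have := psc_congr (L := L.symm) (c := c⁻¹) (sim_symm hL) h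
  rwa [glCongr_val, congrMat_symm] at this

end CfsgLib.AutPOmega
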