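import Cfsg.Agent.AutPOmega.Descent
import Cfsg.Agent.AutPSL.ClassSplit

/-!
# Field automorphisms of `PΩ(Q)`: centralisers, conjugacy and splitting of classes
-/

set_option autoImplicit false
set_option linter.unusedSectionVars false
set_option linter.style.haveILetI false

namespace CfsgLib.AutPOmega

open Matrix Module CfsgLib.Spinor CfsgLib.Forms CfsgLib.Forms4
open CfsgLib.AutPSL (mapGL twNorm twNorm_succ mapGL_one_apply)

variable {F : Type*} [Field F] [Finite F] {ι : Type} [Fintype ι] [DecidableEq ι]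
  {Q : QuadraticForm F (ι → F)} {σ : F ≃+* F}

theorem Rat.twNorm_mem (hR : Rat Q σ) {a : GL ι F} (ha : a ∈ GO Q) :
    ∀ k : ℕ, twNorm σ a k ∈ GO Q
  | 0 => one_mem _
  | k + 1 => mul_mem ha (hR.mapGL_mem (Rat.twNorm_mem hR ha k))

theorem sim_mul_fld_pow (hR : Rat Q σ) (a : GO Q) :
    ∀ k : ℕ, (sim a * fld hR) ^ k = sim ⟨twNorm σ a.1 k, hR.twNorm_mem a.2 k⟩ * fld hR ^ k
  | 0 => by
    rw [pow_zero, pow_zero, mul_one, ← map_one (sim (Q := Q))]
    rfl
  | k + 1 => by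
    rw [pow_succ' (sim a * fld hR), sim_mul_fld_pow hR a k, pow_succ' (fld hR), ← mul_assoc,
      mul_assoc (sim a) (fld hR), fld_mul_sim, ← mul_assoc, ← map_mul, mul_assoc]
    rfl

/-- The field part of an element of order `r`. -/
theorem orderOf_sigma (C : Ctx Q) (hR : Rat Q σ) (a : GO Q) {r : ℕ} (hr : r.Prime) (hσ : σ ≠ 1)
    (h : (sim a * fld hR) ^ r = 1) : orderOf σ = r := by
  rw [sim_mul_fld_pow, fld_pow] at h
  haveI : Fact r.Prime := ⟨hr⟩
  exact orderOf_eq_prime (eq_one_of_sim_mul_fld C (hR.pow r) h).1 hσ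

/-- The twisted norm of an element of order `r` is scalar. -/
theorem twNorm_scalar_of_pow (C : Ctx Q) (hR : Rat Q σ) (a : GO Q) {r : ℕ} (hσ : orderOf σ = r)
    (h : (sim a * fld hR) ^ r = 1) : ∃ d : Fˣ, twNorm σ a.1 r = Matrix.GeneralLinearGroup.scalar ι d := by
  rw [sim_mul_fld_pow, fld_pow, fld_congr (hR.pow r) Rat.one (hσ ▸ pow_orderOf_eq_one σ), fld_one,
    mul_one, sim_eq_one_iff C] at h
  exact h

theorem sim_scalar (C : Ctx Q) (u : Fˣ) :
    sim (⟨Matrix.GeneralLinearGroup.scalar ι u, scalar_mem_GO u⟩ : GO Q) = 1 :=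
  (sim_eq_one_iff C).2 ⟨u, rfl⟩

/-- A twisted coboundary gives a conjugate of the field automorphism. -/
theorem sim_mul_fld_eq_conj (C : Ctx Q) (hR : Rat Q σ) {a g : GO Q} {u : Fˣ}
    (h : a.1 = Matrix.GeneralLinearGroup.scalar ι u * (g.1 * (mapGL σ g.1)⁻¹)) :
    sim a * fld hR = sim g * fld hR * (sim g)⁻¹ := by
  rw [show a = ⟨_, scalar_mem_GO u⟩ * (g * (⟨_, hR.mapGL_mem g.2⟩ : GO Q)⁻¹) from Subtype.ext h,
    map_mul, map_mul, map_inv, sim_scalar C, one_mul, mul_assoc, mul_assoc]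
  congr 1
  rw [eq_mul_inv_iff_mul_eq, mul_assoc, inv_mul_eq_iff_eq_mul, fld_mul_sim]

/-- `Ω` inside the similitudes. -/
def omegaHom (Q : QuadraticForm F (ι → F)) : OG Q →* GO Q :=
  (((Cfsg.isometryGroup F ⇑Q).subtype).comp (Cfsg.Omega F ⇑Q).subtype).codRestrict _
    fun k => isometry_mem_GO k.1

theorem sim_omegaHom (k : OG Q) : sim (omegaHom Q k) = inner k := sim_omega k

theorem inn_eq_map : Cfsg.Inn (Cfsg.POmega F ⇑Q) = (omegaHom Q).range.map sim := by
  ext β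
  constructor
  · rintro ⟨y, rfl⟩
    obtain ⟨k, rfl⟩ := pr_surjective y
    exact ⟨omegaHom Q k, ⟨k, rfl⟩, sim_omegaHom k⟩
  · rintro ⟨_, ⟨k, rfl⟩, rfl⟩
    exact ⟨pr Q k, (sim_omegaHom k).symm⟩

theorem simSemi_omegaMap (g : GO Q) (k : OG Q) :
    omegaHom Q ((simSemi g).omegaMap k) = g * omegaHom Q k * g⁻¹ := by
  refine Subtype.ext (Units.ext ?_)
  show ((simSemi g).g : Matrix ι ι F) * (k.1.1 : Matrix ι ι F).map (1 : F ≃+* F) *
    (((simSemi g).g⁻¹ : GL ι F) : Matrix ι ι F) = _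
  rfl

variable {K : Type*} [Field K] [Finite K] {e : K →+* F} {Q₀ : QuadraticForm K (ι → K)}

/-- Extension of scalars on similitudes. -/
def IsExt.goHom (hE : IsExt e Q₀ Q) : GO Q₀ →* GO Q :=
  ((Matrix.GeneralLinearGroup.map e).comp (GO Q₀).subtype).codRestrict _ fun g => hE.map_mem_GO g.2

theorem IsExt.goHom_val (hE : IsExt e Q₀ Q) (g : GO Q₀) :
    (hE.goHom g).1 = Matrix.GeneralLinearGroup.map e g.1 := rfl

/-- A pair of similitude subgroups over the two fields. -/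
structure Model (hE : IsExt e Q₀ Q) (σ : F ≃+* F) (G : Subgroup (GO Q)) (G₀ : Subgroup (GO Q₀)) :
    Prop where
  fixed : IsFixedField e σ
  ctx : Ctx Q
  ctx₀ : Ctx Q₀
  scalar_mem : ∀ u : Fˣ, (⟨Matrix.GeneralLinearGroup.scalar ι u, scalar_mem_GO u⟩ : GO Q) ∈ G
  mem_iff : ∀ g₀ : GO Q₀, hE.goHom g₀ ∈ G ↔ g₀ ∈ G₀
  omega_mem : ∀ k : OG Q, omegaHom Q k ∈ G

variable {hE : IsExt e Q₀ Q} {G : Subgroup (GO Q)} {G₀ : Subgroup (GO Q₀)}

theorem Model.rat (M : Model hE σ G G₀) : Rat Q σ := hE.rat M.fixed.apply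

theorem Model.mem_scalar_mul (M : Model hE σ G G₀) (u : Fˣ) (g : GO Q) :
    (⟨Matrix.GeneralLinearGroup.scalar ι u, scalar_mem_GO u⟩ : GO Q) * g ∈ G ↔ g ∈ G :=
  G.mul_mem_cancel_left (M.scalar_mem u)

/-- The similitudes commuting with the field automorphism. -/
theorem Model.commute_iff (M : Model hE σ G G₀) {r : ℕ} (hr : orderOf σ = r) (hr0 : 0 < r) (a : GO Q) :
    sim a * fld M.rat = fld M.rat * sim a ↔
      ∃ (u : Fˣ) (g₀ : GO Q₀),
        a = (⟨Matrix.GeneralLinearGroup.scalar ι u, scalar_mem_GO u⟩ : GO Q) * hE.goHom g₀ := by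
  haveI := M.ctx.nonempty
  rw [fld_mul_sim, mul_left_inj, sim_eq_sim_iff M.ctx]
  constructor
  · rintro ⟨u, hu⟩
    obtain ⟨w, g, hg, hag⟩ := CfsgLib.AutPSp.exists_fixed_of_map_eq hr hr0 (a := u⁻¹)
      (show mapGL σ a.1 = Matrix.GeneralLinearGroup.scalar ι u⁻¹ * a.1 by
        rw [eq_comm, map_inv, inv_mul_eq_iff_eq_mul]; exact hu)
    obtain ⟨g₀, hg₀⟩ := exists_map_eq M.fixed hg
    have hgm : Matrix.GeneralLinearGroup.map e g₀ ∈ GO Q := by
      rw [hg₀, show g = (Matrix.GeneralLinearGroup.scalar ι w)⁻¹ * a.1 by rw [hag, inv_mul_cancel_left]]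
      exact mul_mem (inv_mem (scalar_mem_GO w)) a.2
    obtain ⟨c, hc⟩ := hgm
    -- the multiplier is fixed
    obtain ⟨v, hv⟩ := M.ctx₀.exists_value_one
    have hce : (c : F) = e (Q₀ (g₀.1 *ᵥ v)) := by
      have := hc fun i => e (v i)
      rw [show (Matrix.GeneralLinearGroup.map e g₀ : GL ι F).1 = g₀.1.map e from rfl, map_mulVec_apply,
        hE, hE, hv, map_one, mul_one] at this
      exact this.symm
    have hc0 : Q₀ (g₀.1 *ᵥ v) ≠ 0 := fun h0 => c.ne_zero (by rw [hce, h0, map_zero])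
    refine ⟨w, ⟨g₀, ⟨Units.mk0 _ hc0, fun x => e.injective ?_⟩⟩, Subtype.ext ?_⟩
    · have := hc fun i => e (x i)
      rw [show (Matrix.GeneralLinearGroup.map e g₀ : GL ι F).1 = g₀.1.map e from rfl, map_mulVec_apply,
        hE, hE, hce] at this
      rw [Units.val_mk0, map_mul]
      exact this
    · rw [Subgroup.coe_mul, hE.goHom_val, hg₀]
      exact hag
  · rintro ⟨u, g₀, rfl⟩
    refine ⟨u * (Units.map (σ : F →* F) u)⁻¹, ?_⟩
    have hmap : mapGL σ (Matrix.GeneralLinearGroup.scalar ι u) =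
        Matrix.GeneralLinearGroup.scalar ι (Units.map (σ : F →* F) u) := by
      refine Units.ext ?_
      ext i j
      by_cases hij : i = j <;> simp [hij]
    show Matrix.GeneralLinearGroup.scalar ι u * Matrix.GeneralLinearGroup.map e g₀.1 =
      _ * mapGL σ (Matrix.GeneralLinearGroup.scalar ι u * Matrix.GeneralLinearGroup.map e g₀.1)
    rw [map_mul (mapGL σ), IsExt.mapGL_map M.fixed, hmap, ← mul_assoc,
      ← map_mul, inv_mul_cancel_right]

/-- The centraliser of the field automorphism in the image of `G`. -/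
theorem Model.centralizer_equiv (M : Model hE σ G G₀) {r : ℕ} (hr : orderOf σ = r) (hr0 : 0 < r) :
    Nonempty (↥(G.map sim ⊓ Subgroup.centralizer {fld M.rat}) ≃* ↥(G₀.map (sim (Q := Q₀)))) := by
  let ψ : ↥G₀ →* ↥(G.map sim ⊓ Subgroup.centralizer {fld M.rat}) :=
    ((sim.comp hE.goHom).comp G₀.subtype).codRestrict _ fun g₀ =>
      ⟨⟨_, (M.mem_iff g₀.1).2 g₀.2, rfl⟩, Subgroup.mem_centralizer_singleton_iff.2
        ((M.commute_iff hr hr0 _).2 ⟨1, g₀.1, by
          rw [show (⟨Matrix.GeneralLinearGroup.scalar ι 1, scalar_mem_GO 1⟩ : GO Q) = 1 from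
            Subtype.ext (map_one _), one_mul]
          rfl⟩)⟩
  have hsurj : Function.Surjective ψ := by
    rintro ⟨_, ⟨a, ha, rfl⟩, hc⟩
    obtain ⟨u, g₀, hag⟩ := (M.commute_iff hr hr0 a).1 (Subgroup.mem_centralizer_singleton_iff.1 hc)
    subst hag
    refine ⟨⟨g₀, (M.mem_iff g₀).1 ((M.mem_scalar_mul u _).1 ha)⟩, Subtype.ext ?_⟩
    show sim (hE.goHom g₀) = sim (_ * hE.goHom g₀)
    rw [map_mul, sim_scalar M.ctx, one_mul]
  let χ : ↥G₀ →* ↥(G₀.map (sim (Q := Q₀))) :=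
    ((sim (Q := Q₀)).comp G₀.subtype).codRestrict _ fun g => ⟨g.1, g.2, rfl⟩
  have hχ : Function.Surjective χ := by rintro ⟨_, g, hg, rfl⟩; exact ⟨⟨g, hg⟩, rfl⟩
  have hker : ψ.ker = χ.ker := by
    haveI := M.ctx.nonempty
    ext g
    rw [MonoidHom.mem_ker, MonoidHom.mem_ker, Subtype.ext_iff, Subtype.ext_iff]
    change sim (hE.goHom g.1) = 1 ↔ sim g.1 = 1
    rw [sim_eq_one_iff M.ctx, sim_eq_one_iff M.ctx₀]
    constructor
    · rintro ⟨u, hu⟩
      have hent : ∀ i j, e (g.1.1.1 i j) = if i = j then (u : F) else 0 := fun i j => by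
        have := congrArg (fun N : GL ι F => N.1 i j) hu
        rw [hE.goHom_val] at this
        refine Eq.trans this ?_
        by_cases hij : i = j <;> simp [hij]
      obtain ⟨i⟩ := ‹Nonempty ι›
      have h0 : g.1.1.1 i i ≠ 0 := fun h0 => u.ne_zero (by
        have := hent i i; rw [h0, map_zero, if_pos rfl] at this; exact this.symm)
      refine ⟨Units.mk0 _ h0, Units.ext (Matrix.ext fun k l => e.injective ?_)⟩
      rw [hent k l]
      have hii := hent i i
      rw [if_pos rfl] at hii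
      by_cases hkl : k = l <;> simp [hkl, hii]
    · rintro ⟨u, hu⟩
      refine ⟨Units.map (e : K →* F) u, ?_⟩
      rw [hE.goHom_val, hu]
      refine Units.ext ?_
      ext i j
      by_cases hij : i = j <;> simp [hij]
  exact ⟨((QuotientGroup.quotientKerEquivOfSurjective ψ hsurj).symm.trans
    (QuotientGroup.quotientMulEquivOfEq hker)).trans (QuotientGroup.quotientKerEquivOfSurjective χ hχ)⟩

/-- The number of inner classes in the `G`-class of the field automorphism. -/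
theorem Model.splitClassCount_eq (M : Model hE σ G G₀) {r : ℕ} (hr : orderOf σ = r) (hr0 : 0 < r) :
    Cfsg.splitClassCount (G.map sim) (Cfsg.Inn (Cfsg.POmega F ⇑Q)) (fld M.rat) =
      (((omegaHom Q).range ⊔ G₀.map hE.goHom ⊔
        Subgroup.closure (Set.range fun u : Fˣ =>
          (⟨Matrix.GeneralLinearGroup.scalar ι u, scalar_mem_GO u⟩ : GO Q))).subgroupOf G).index := by
  set S := (omegaHom Q).range.subgroupOf G with hS
  haveI : S.Normal := ⟨fun n ⟨k, hk⟩ g => ⟨(simSemi g.1).omegaMap k, by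
    rw [simSemi_omegaMap, hk]; rfl⟩⟩
  have hle : (omegaHom Q).range ≤ G := by rintro _ ⟨k, rfl⟩; exact M.omega_mem k
  have h1 : Cfsg.Inn (Cfsg.POmega F ⇑Q) = S.map (sim.comp G.subtype) := by
    rw [inn_eq_map, hS, ← Subgroup.map_map, Subgroup.map_subgroupOf_eq_of_le hle]
  have h2 : G.map sim = (sim.comp G.subtype).range := by
    rw [MonoidHom.range_comp, Subgroup.range_subtype]
  rw [h1, h2, CfsgLib.AutPSL.splitClassCount_eq_index]
  congr 1
  set Z : Subgroup (GO Q) := Subgroup.closure (Set.range fun u : Fˣ =>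
    (⟨Matrix.GeneralLinearGroup.scalar ι u, scalar_mem_GO u⟩ : GO Q)) with hZ
  refine le_antisymm (sup_le ?_ ?_) ?_
  · exact fun g hg => Subgroup.mem_subgroupOf.2 (Subgroup.mem_sup_left (Subgroup.mem_sup_left hg))
  · intro g hg
    obtain ⟨u, g₀, hgg⟩ := (M.commute_iff hr hr0 g.1).1 (Subgroup.mem_centralizer_singleton_iff.1 hg)
    rw [Subgroup.mem_subgroupOf, hgg]
    refine mul_mem (Subgroup.mem_sup_right (Subgroup.subset_closure ⟨u, rfl⟩))
      (Subgroup.mem_sup_left (Subgroup.mem_sup_right ⟨g₀, ?_, rfl⟩))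
    have := g.2
    rw [hgg] at this
    exact (M.mem_iff g₀).1 ((M.mem_scalar_mul u _).1 this)
  · have hG₀ : G₀.map hE.goHom ≤ G := by
      rintro _ ⟨g₀, hg₀, rfl⟩; exact (M.mem_iff g₀).2 hg₀
    have hZG : Z ≤ G := (Subgroup.closure_le _).2 (by rintro _ ⟨u, rfl⟩; exact M.scalar_mem u)
    rw [Subgroup.subgroupOf_sup (sup_le hle hG₀) hZG, Subgroup.subgroupOf_sup hle hG₀]
    refine sup_le (sup_le le_sup_left ?_) ?_ <;> refine le_trans (fun g hg => ?_) le_sup_right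
    · obtain ⟨g₀, -, hg₀⟩ := hg
      refine Subgroup.mem_centralizer_singleton_iff.2 ?_
      show sim g.1 * _ = _ * sim g.1
      refine (M.commute_iff hr hr0 _).2 ⟨1, g₀, ?_⟩
      rw [show (⟨Matrix.GeneralLinearGroup.scalar ι 1, scalar_mem_GO 1⟩ : GO Q) = 1 from
        Subtype.ext (map_one _), one_mul]
      exact hg₀.symm
    · refine Subgroup.mem_centralizer_singleton_iff.2 ?_
      show sim g.1 * _ = _ * sim g.1
      have hle' : Z ≤ (sim (Q := Q)).ker := (Subgroup.closure_le _).2 (by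
        rintro _ ⟨u, rfl⟩; exact sim_scalar M.ctx u)
      have h : sim g.1 = 1 := hle' hg
      rw [h, one_mul, mul_one]

end CfsgLib.AutPOmega
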