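import Cfsg.Agent.AutPOmega.Descent
import Cfsg.Agent.AutPOmega.Core

/-!
# Change of coordinates between similar forms
-/

set_option autoImplicit false
set_option linter.unusedSectionVars false
set_option linter.style.haveILetI false

namespace CfsgLib.AutPOmega

open Matrix Module CfsgLib.Spinor CfsgLib.Forms CfsgLib.Forms4

variable {F : Type*} [Field F] {ι κ : Type} [Fintype ι] [DecidableEq ι] [Fintype κ] [DecidableEq κ]

/-- A matrix read in other coordinates. -/
def congrMat (L : (κ → F) ≃ₗ[F] (ι → F)) (M : Matrix ι ι F) : Matrix κ κ F :=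
  LinearMap.toMatrix' (L.symm.toLinearMap ∘ₗ Matrix.toLin' M ∘ₗ L.toLinearMap)

theorem congrMat_mulVec (L : (κ → F) ≃ₗ[F] (ι → F)) (M : Matrix ι ι F) (v : κ → F) :
    congrMat L M *ᵥ v = L.symm (M *ᵥ L v) := by
  rw [congrMat, LinearMap.toMatrix'_mulVec]; rfl

theorem congrMat_one (L : (κ → F) ≃ₗ[F] (ι → F)) : congrMat L (1 : Matrix ι ι F) = 1 :=
  Matrix.ext_iff_mulVec.2 fun v => by
    rw [congrMat_mulVec, Matrix.one_mulVec, Matrix.one_mulVec, L.symm_apply_apply]

theorem congrMat_mul (L : (κ → F) ≃ₗ[F] (ι → F)) (M N : Matrix ι ι F) :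
    congrMat L (M * N) = congrMat L M * congrMat L N :=
  Matrix.ext_iff_mulVec.2 fun v => by
    simp only [congrMat_mulVec, ← Matrix.mulVec_mulVec, L.apply_symm_apply]

theorem congrMat_symm (L : (κ → F) ≃ₗ[F] (ι → F)) (M : Matrix ι ι F) :
    congrMat L.symm (congrMat L M) = M :=
  Matrix.ext_iff_mulVec.2 fun v => by simp [congrMat_mulVec]

theorem congrMat_symm' (L : (κ → F) ≃ₗ[F] (ι → F)) (M : Matrix κ κ F) :
    congrMat L (congrMat L.symm M) = M :=
  Matrix.ext_iff_mulVec.2 fun v => by simp [congrMat_mulVec]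

theorem det_congrMat (L : (κ → F) ≃ₗ[F] (ι → F)) (M : Matrix ι ι F) :
    (congrMat L M).det = M.det := by
  rw [congrMat, LinearMap.det_toMatrix', ← LinearMap.det_toLin' M]
  exact LinearMap.det_conj (Matrix.toLin' M) L.symm

/-- Change of coordinates on the general linear groups. -/
def glCongr (L : (κ → F) ≃ₗ[F] (ι → F)) : GL ι F ≃* GL κ F where
  toFun g := ⟨congrMat L g.1, congrMat L (g⁻¹ : GL ι F).1,
    by rw [← congrMat_mul, ← Units.val_mul, mul_inv_cancel, Units.val_one, congrMat_one],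
    by rw [← congrMat_mul, ← Units.val_mul, inv_mul_cancel, Units.val_one, congrMat_one]⟩
  invFun g := ⟨congrMat L.symm g.1, congrMat L.symm (g⁻¹ : GL κ F).1,
    by rw [← congrMat_mul, ← Units.val_mul, mul_inv_cancel, Units.val_one, congrMat_one],
    by rw [← congrMat_mul, ← Units.val_mul, inv_mul_cancel, Units.val_one, congrMat_one]⟩
  left_inv g := Units.ext (congrMat_symm L g.1)
  right_inv g := Units.ext (congrMat_symm' L g.1)
  map_mul' g h := Units.ext (congrMat_mul L g.1 h.1)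

theorem glCongr_val (L : (κ → F) ≃ₗ[F] (ι → F)) (g : GL ι F) :
    (glCongr L g).1 = congrMat L g.1 := rfl

theorem glCongr_symm (L : (κ → F) ≃ₗ[F] (ι → F)) (g : GL κ F) :
    (glCongr L).symm g = glCongr L.symm g := Units.ext rfl

theorem card_eq_of_equiv (L : (κ → F) ≃ₗ[F] (ι → F)) : Fintype.card κ = Fintype.card ι := by
  simpa [finrank_fintype_fun_eq_card] using L.finrank_eq

variable [Finite F] {Q : QuadraticForm F (ι → F)} {Q' : QuadraticForm F (κ → F)}
  {L : (κ → F) ≃ₗ[F] (ι → F)} {c : Fˣ}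

theorem glCongr_scalar (L : (κ → F) ≃ₗ[F] (ι → F)) (u : Fˣ) :
    glCongr L (Matrix.GeneralLinearGroup.scalar ι u) = Matrix.GeneralLinearGroup.scalar κ u :=
  Units.ext (Matrix.ext_iff_mulVec.2 fun v => by
    rw [glCongr_val, congrMat_mulVec, scalar_mulVec, scalar_mulVec, map_smul, L.symm_apply_apply])

/-- The inverse change of coordinates. -/
theorem sim_symm (hL : ∀ v, Q (L v) = (c : F) * Q' v) (w : ι → F) :
    Q' (L.symm w) = ((c⁻¹ : Fˣ) : F) * Q w := by
  rw [← L.apply_symm_apply w, hL, L.symm_apply_apply, ← mul_assoc, ← Units.val_mul, inv_mul_cancel,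
    Units.val_one, one_mul]

theorem HasMult.congr (hL : ∀ v, Q (L v) = (c : F) * Q' v) {g : GL ι F} {d : Fˣ}
    (hg : HasMult Q g d) : HasMult Q' (glCongr L g) d := fun v => by
  rw [glCongr_val, congrMat_mulVec, sim_symm hL, hg, hL, Units.val_inv_eq_inv_val]
  field_simp

theorem glCongr_mem_iso (hL : ∀ v, Q (L v) = (c : F) * Q' v) {g : GL ι F}
    (hg : g ∈ Cfsg.isometryGroup F ⇑Q) : glCongr L g ∈ Cfsg.isometryGroup F ⇑Q' :=
  ((HasMult.isometry ⟨g, hg⟩).congr hL).mem_isometry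

theorem glCongr_mem_GO (hL : ∀ v, Q (L v) = (c : F) * Q' v) {g : GL ι F} (hg : g ∈ GO Q) :
    glCongr L g ∈ GO Q' := by
  obtain ⟨d, hd⟩ := hg
  exact ⟨d, HasMult.congr hL hd⟩

theorem glCongr_iff_GO (hL : ∀ v, Q (L v) = (c : F) * Q' v) {g : GL ι F} :
    glCongr L g ∈ GO Q' ↔ g ∈ GO Q := by
  refine ⟨fun h => ?_, glCongr_mem_GO hL⟩
  have := glCongr_mem_GO (L := L.symm) (c := c⁻¹) (sim_symm hL) h
  rwa [← glCongr_symm, MulEquiv.symm_apply_apply] at this

/-- The isometry groups of similar forms. -/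
def isoCongr (hL : ∀ v, Q (L v) = (c : F) * Q' v) :
    ↥(Cfsg.isometryGroup F ⇑Q) ≃* ↥(Cfsg.isometryGroup F ⇑Q') where
  toFun g := ⟨glCongr L g.1, glCongr_mem_iso hL g.2⟩
  invFun g := ⟨glCongr L.symm g.1, glCongr_mem_iso (L := L.symm) (c := c⁻¹) (sim_symm hL) g.2⟩
  left_inv g := Subtype.ext (by
    show glCongr L.symm (glCongr L g.1) = g.1
    rw [← glCongr_symm, MulEquiv.symm_apply_apply])
  right_inv g := Subtype.ext (by
    show glCongr L (glCongr L.symm g.1) = g.1
    rw [← glCongr_symm, MulEquiv.apply_symm_apply])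
  map_mul' g h := Subtype.ext (map_mul (glCongr L) g.1 h.1)

theorem map_omega (hL : ∀ v, Q (L v) = (c : F) * Q' v) :
    (Cfsg.Omega F ⇑Q).map (isoCongr hL).toMonoidHom = Cfsg.Omega F ⇑Q' := by
  unfold Cfsg.Omega
  rw [commutator_def, commutator_def, Subgroup.map_commutator,
    Subgroup.map_top_of_surjective _ (isoCongr hL).surjective]

theorem isoCongr_mem_omega (hL : ∀ v, Q (L v) = (c : F) * Q' v) {g : ↥(Cfsg.isometryGroup F ⇑Q)}
    (hg : g ∈ Cfsg.Omega F ⇑Q) : isoCongr hL g ∈ Cfsg.Omega F ⇑Q' := by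
  rw [← map_omega hL]; exact ⟨g, hg, rfl⟩

theorem proper_congr_mp (hL : ∀ v, Q (L v) = (c : F) * Q' v) {g : GL ι F} (hg : Proper Q g) :
    Proper Q' (glCongr L g) := by
  obtain ⟨d, hd, h1, h0⟩ := hg
  refine ⟨d, hd.congr hL, fun h2 => ?_, fun h2 => ?_⟩
  · rw [glCongr_val, det_congrMat, h1 h2, card_eq_of_equiv L]
  · obtain ⟨s, h, hh, e⟩ := h0 h2
    refine ⟨s, isoCongr hL h, isoCongr_mem_omega hL hh, ?_⟩
    rw [e, map_mul, glCongr_scalar]
    rfl

theorem proper_congr (hL : ∀ v, Q (L v) = (c : F) * Q' v) {g : GL ι F} :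
    Proper Q' (glCongr L g) ↔ Proper Q g := by
  refine ⟨fun h => ?_, proper_congr_mp hL⟩
  have := proper_congr_mp (L := L.symm) (c := c⁻¹) (sim_symm hL) h
  rwa [← glCongr_symm, MulEquiv.symm_apply_apply] at this

/-- The simple groups of similar forms. -/
noncomputable def omCongr (hL : ∀ v, Q (L v) = (c : F) * Q' v) : OG Q ≃* OG Q' :=
  (((isoCongr hL).subgroupMap (Cfsg.Omega F ⇑Q)).trans (MulEquiv.subgroupCongr (map_omega hL)))

theorem omCongr_val (hL : ∀ v, Q (L v) = (c : F) * Q' v) (g : OG Q) :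
    (omCongr hL g).1.1 = glCongr L g.1.1 := rfl

theorem map_center_omCongr (hL : ∀ v, Q (L v) = (c : F) * Q' v) :
    (Subgroup.center (OG Q)).map (omCongr hL).toMonoidHom = Subgroup.center (OG Q') := by
  ext z
  obtain ⟨y, rfl⟩ := (omCongr hL).surjective z
  rw [Subgroup.mem_map_equiv, MulEquiv.symm_apply_apply, Subgroup.mem_center_iff, Subgroup.mem_center_iff]
  constructor
  · intro h w
    obtain ⟨v, rfl⟩ := (omCongr hL).surjective w
    rw [← map_mul, ← map_mul, h]
  · intro h v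
    apply (omCongr hL).injective
    rw [map_mul, map_mul, h]

/-- The isomorphism of simple groups given by a change of coordinates. -/
noncomputable def pomCongr (hL : ∀ v, Q (L v) = (c : F) * Q' v) :
    Cfsg.POmega F ⇑Q ≃* Cfsg.POmega F ⇑Q' :=
  QuotientGroup.congr _ _ (omCongr hL) (map_center_omCongr hL)

theorem pomCongr_pr (hL : ∀ v, Q (L v) = (c : F) * Q' v) (g : OG Q) :
    pomCongr hL (pr Q g) = pr Q' (omCongr hL g) := rfl

/-- Similitudes act compatibly. -/
theorem congr_sim (hL : ∀ v, Q (L v) = (c : F) * Q' v) (a : GO Q) :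
    MulAut.congr (pomCongr hL) (sim a) = sim ⟨glCongr L a.1, glCongr_mem_GO hL a.2⟩ := by
  refine MulEquiv.ext fun y => ?_
  obtain ⟨k, rfl⟩ := pr_surjective y
  obtain ⟨k, rfl⟩ := (omCongr hL).surjective k
  show pomCongr hL (sim a ((pomCongr hL).symm (pr Q' (omCongr hL k)))) = _
  rw [← pomCongr_pr, MulEquiv.symm_apply_apply, pomCongr_pr, sim_apply, sim_apply, Semi.aut_pr,
    pomCongr_pr, Semi.aut_pr]
  congr 1
  have h1 := congrArg Subtype.val (simSemi_omegaMap a k)
  have h2 := congrArg Subtype.val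
    (simSemi_omegaMap (⟨glCongr L a.1, glCongr_mem_GO hL a.2⟩ : GO Q') (omCongr hL k))
  refine Subtype.ext (Subtype.ext ?_)
  show (omCongr hL ((simSemi a).omegaMap k)).1.1 = _
  rw [omCongr_val]
  change glCongr L (omegaHom Q ((simSemi a).omegaMap k)).1 = _
  change (omegaHom Q' ((simSemi _).omegaMap (omCongr hL k))).1 = _ at h2
  change _ = (omegaHom Q' ((simSemi _).omegaMap (omCongr hL k))).1
  rw [h2, show (omegaHom Q ((simSemi a).omegaMap k)).1 = _ from h1]
  simp only [Subgroup.coe_mul, Subgroup.coe_inv, map_mul, map_inv]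
  rfl

/-- The image of the proper similitudes is carried to the same. -/
theorem map_GP_congr (hL : ∀ v, Q (L v) = (c : F) * Q' v) :
    ((GP Q).map sim).map (MulAut.congr (pomCongr hL)).toMonoidHom = (GP Q').map sim := by
  ext β
  constructor
  · rintro ⟨_, ⟨a, ha, rfl⟩, rfl⟩
    exact ⟨_, proper_congr_mp hL ha, (congr_sim hL a).symm⟩
  · rintro ⟨a', ha', rfl⟩
    refine ⟨_, ⟨⟨glCongr L.symm a'.1, glCongr_mem_GO (L := L.symm) (c := c⁻¹) (sim_symm hL) a'.2⟩,
      proper_congr_mp (L := L.symm) (c := c⁻¹) (sim_symm hL) ha', rfl⟩, ?_⟩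
    refine (congr_sim hL _).trans (congrArg sim (Subtype.ext ?_))
    show glCongr L (glCongr L.symm a'.1) = a'.1
    rw [← glCongr_symm, MulEquiv.apply_symm_apply]

end CfsgLib.AutPOmega
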