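import Cfsg.Agent.AutPOmega.Similar
import Cfsg.Agent.AutPSp.Similitude

/-!
# Galois descent for similitudes of a quadratic form
-/

set_option autoImplicit false
set_option linter.unusedSectionVars false
set_option linter.style.haveILetI false

namespace CfsgLib.AutPOmega

open Matrix Module CfsgLib.Spinor CfsgLib.Forms CfsgLib.Forms4
open CfsgLib.AutPSL (mapGL twNorm twNorm_succ unitsNorm exists_eq_scalar_mul_map_inv
  exists_div_of_unitsNorm_eq_one)

variable {K F : Type*} [Field K] [Field F] {ι : Type} [Fintype ι] [DecidableEq ι]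

/-- `e` embeds `K` onto the fixed field of `σ`. -/
def IsFixedField (e : K →+* F) (σ : F ≃+* F) : Prop := ∀ x : F, σ x = x ↔ x ∈ Set.range e

variable {e : K →+* F} {σ : F ≃+* F} {Q₀ : QuadraticForm K (ι → K)} {Q : QuadraticForm F (ι → F)}

theorem IsFixedField.apply (he : IsFixedField e σ) (x : K) : σ (e x) = e x := (he _).2 ⟨x, rfl⟩

theorem IsExt.mapGL_map (he : IsFixedField e σ) (g : GL ι K) :
    mapGL σ (Matrix.GeneralLinearGroup.map e g) = Matrix.GeneralLinearGroup.map e g :=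
  Units.ext (Matrix.ext fun _ _ => he.apply _)

/-- A fixed matrix comes from the small field. -/
theorem exists_map_eq (he : IsFixedField e σ) {g : GL ι F} (hg : mapGL σ g = g) :
    ∃ g₀ : GL ι K, Matrix.GeneralLinearGroup.map e g₀ = g := by
  have hent : ∀ i j, ∃ y, e y = g.1 i j := fun i j =>
    (he _).1 (congrArg (fun M : GL ι F => M.1 i j) hg)
  choose A hA using hent
  have hmap : (Matrix.of A).map e = g.1 := Matrix.ext hA
  have hdet : (Matrix.of A).det ≠ 0 := fun h0 => by
    have := e.map_det (Matrix.of A)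
    rw [h0, map_zero, RingHom.mapMatrix_apply, hmap] at this
    exact g.det.ne_zero (by simp [← this])
  exact ⟨Matrix.GeneralLinearGroup.mkOfDetNeZero _ hdet, Units.ext hmap⟩

/-- A similitude over the small field is detected on its vectors. -/
theorem IsExt.hasMult_of_rat (h : IsExt e Q₀ Q) {g : GL ι F} {c : Fˣ}
    (hg : ∀ v : ι → K, Q ((g : Matrix ι ι F) *ᵥ fun i => e (v i)) = (c : F) * e (Q₀ v)) :
    ∀ w, Q ((g : Matrix ι ι F) *ᵥ w) = (c : F) * Q w := by
  have key : Q.comp (Matrix.mulVecLin (g : Matrix ι ι F)) = (c : F) • Q := by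
    refine form_ext (fun i => ?_) fun i j => ?_
    · rw [← map_single_one (e := e)]
      simp only [QuadraticMap.comp_apply, Matrix.mulVecLin_apply, QuadraticMap.smul_apply, smul_eq_mul]
      rw [hg, h]
    · have hs : (Pi.single i 1 + Pi.single j 1 : ι → F) =
          fun k => e ((Pi.single i (1 : K) + Pi.single j 1 : ι → K) k) := by
        rw [← map_single_one (e := e) i, ← map_single_one (e := e) j]; funext k; simp
      rw [hs]
      simp only [QuadraticMap.comp_apply, Matrix.mulVecLin_apply, QuadraticMap.smul_apply, smul_eq_mul]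
      rw [hg, h]
  intro w
  simpa using congrArg (fun q : QuadraticForm F (ι → F) => q w) key

variable [Finite F]

/-- A rational form comes from the small field. -/
theorem exists_isExt_of_rat (he : IsFixedField e σ) (hQ : Rat Q σ) :
    ∃ Q₀ : QuadraticForm K (ι → K), IsExt e Q₀ Q := by
  have hfix : ∀ v : ι → K, (fun i => σ (e (v i))) = fun i => e (v i) := fun v => funext fun i => he.apply _
  have hr : ∀ v : ι → K, ∃ y, e y = Q fun i => e (v i) := fun v =>
    (he _).1 (by rw [← hQ, hfix])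
  choose f hf using hr
  have hadd : ∀ u v : ι → K, (fun i => e ((u + v) i)) = (fun i => e (u i)) + fun i => e (v i) :=
    fun u v => funext fun i => map_add e _ _
  have hsmul : ∀ (t : K) (v : ι → K), (fun i => e ((t • v) i)) = e t • fun i => e (v i) :=
    fun t v => funext fun i => map_mul e _ _
  have hp : ∀ u v : ι → K, e (QuadraticMap.polar f u v) =
      QuadraticMap.polar (⇑Q) (fun i => e (u i)) (fun i => e (v i)) := fun u v => by
    simp only [QuadraticMap.polar, map_sub, hf, hadd]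
  refine ⟨QuadraticMap.ofPolar f (fun t v => e.injective ?_) (fun x x' y => e.injective ?_)
    (fun t x y => e.injective ?_), fun v => (hf v).symm⟩
  · rw [hf, smul_eq_mul, map_mul, map_mul, hsmul, QuadraticMap.map_smul, hf, smul_eq_mul]
  · rw [hp, map_add, hp, hp, hadd, QuadraticMap.polar_add_left]
  · rw [hp, smul_eq_mul, map_mul, hp, hsmul, QuadraticMap.polar_smul_left, smul_eq_mul]

theorem mapGL_map_vec (g : GL ι F) (v : ι → F) :
    (fun i => σ (((g : Matrix ι ι F) *ᵥ v) i)) =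
      ((mapGL σ g : GL ι F) : Matrix ι ι F) *ᵥ fun i => σ (v i) :=
  (twist_mulVec σ g v).symm

/-- A form whose pullback along `h` is multiplied by the field automorphism descends. -/
theorem exists_descent_of_pullback (he : IsFixedField e σ)
    (hnd : (QuadraticMap.polarBilin Q).Nondegenerate) (hv : ∃ v, Q v = 1) {r : ℕ}
    (hr : orderOf σ = r) (hr0 : 0 < r) (h : GL ι F) (c : Fˣ)
    (htw₀ : ∀ v : ι → F, Q ((h : Matrix ι ι F) *ᵥ fun i => σ (v i)) =
      (c : F) * σ (Q ((h : Matrix ι ι F) *ᵥ v))) :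
    ∃ (b : Fˣ) (Q₁ : QuadraticForm K (ι → K)),
      (QuadraticMap.polarBilin Q₁).Nondegenerate ∧
      ∀ v : ι → K, Q ((h : Matrix ι ι F) *ᵥ fun i => e (v i)) = (b : F) * e (Q₁ v) := by
  obtain ⟨w, hw⟩ := hv
  set Q' : QuadraticForm F (ι → F) := Q.comp (Matrix.mulVecLin (h : Matrix ι ι F)) with hQ'
  have hQ'v : ∀ v, Q' v = Q ((h : Matrix ι ι F) *ᵥ v) := fun v => rfl
  have htw : ∀ v : ι → F, Q' (fun i => σ (v i)) = (c : F) * σ (Q' v) := fun v => by
    rw [hQ'v, hQ'v, htw₀]
  set v₁ := ((h⁻¹ : GL ι F) : Matrix ι ι F) *ᵥ w with hv₁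
  have hv1 : Q' v₁ = 1 := by
    rw [hQ'v, hv₁, Matrix.mulVec_mulVec, ← Units.val_mul, mul_inv_cancel, Units.val_one,
      Matrix.one_mulVec, hw]
  have hiter : ∀ k : ℕ, ∀ v : ι → F, Q' (fun i => (σ ^ k : F ≃+* F) (v i)) =
      (unitsNorm σ k c : F) * (σ ^ k : F ≃+* F) (Q' v) := by
    intro k
    induction k with
    | zero => intro v; simp [unitsNorm]
    | succ k ih =>
      intro v
      have e1 : (fun i => (σ ^ (k + 1) : F ≃+* F) (v i)) =
          fun i => (σ ^ k : F ≃+* F) ((fun j => σ (v j)) i) := by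
        funext i; rw [pow_succ]; rfl
      have hN : (unitsNorm σ (k + 1) c : F) = (unitsNorm σ k c : F) * (σ ^ k : F ≃+* F) c := by
        simp [unitsNorm, Finset.prod_range_succ]
      rw [e1, ih, htw, map_mul, hN, pow_succ, RingAut.mul_apply]
      ring
  have hNc : unitsNorm σ r c = 1 := by
    have h1 := hiter r v₁
    rw [← hr, pow_orderOf_eq_one, hr] at h1
    simp only [RingAut.one_apply, hv1, mul_one] at h1
    exact Units.ext (by rw [Units.val_one]; exact h1.symm)
  obtain ⟨b, hb⟩ := exists_div_of_unitsNorm_eq_one hr hr0 hNc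
  set Q'' : QuadraticForm F (ι → F) := (b : F)⁻¹ • Q' with hQ''
  have hrat : Rat Q'' σ := fun v => by
    simp only [hQ'', QuadraticMap.smul_apply, smul_eq_mul, htw, hb, map_mul, map_inv₀]
    have hσb : σ (b : F) ≠ 0 := by simp
    field_simp
  obtain ⟨Q₁, hQ₁⟩ := exists_isExt_of_rat he hrat
  have hval : ∀ v : ι → K, Q ((h : Matrix ι ι F) *ᵥ fun i => e (v i)) = (b : F) * e (Q₁ v) := fun v => by
    rw [← hQ₁ v, hQ'', QuadraticMap.smul_apply, smul_eq_mul, ← mul_assoc, mul_inv_cancel₀ b.ne_zero,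
      one_mul, hQ'v]
  refine ⟨b, Q₁, StdForms.nondegenerate_of_sep Q₁ fun x hx => ?_, hval⟩
  have hp : ∀ y : ι → K, QuadraticMap.polar (⇑Q) ((h : Matrix ι ι F) *ᵥ fun i => e (x i))
      ((h : Matrix ι ι F) *ᵥ fun i => e (y i)) = 0 := fun y => by
    have hadd : (fun i => e ((x + y) i)) = (fun i => e (x i)) + fun i => e (y i) :=
      funext fun i => map_add e _ _
    rw [QuadraticMap.polar, ← Matrix.mulVec_add, ← hadd, hval, hval, hval, ← mul_sub, ← mul_sub,
      ← map_sub, ← map_sub]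
    exact mul_eq_zero_of_right _ (by rw [show Q₁ (x + y) - Q₁ x - Q₁ y = 0 from hx y, map_zero])
  have hzero : (h : Matrix ι ι F) *ᵥ (fun i => e (x i)) = 0 := by
    refine hnd.1 _ fun y => ?_
    obtain ⟨y', rfl⟩ : ∃ y', (h : Matrix ι ι F) *ᵥ y' = y := ⟨((h⁻¹ : GL ι F) : Matrix ι ι F) *ᵥ y, by
      rw [Matrix.mulVec_mulVec, ← Units.val_mul, mul_inv_cancel, Units.val_one, Matrix.one_mulVec]⟩
    rw [← (Pi.basisFun F ι).sum_repr y', Matrix.mulVec_sum, map_sum]
    refine Finset.sum_eq_zero fun i _ => ?_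
    rw [Matrix.mulVec_smul, map_smul, Pi.basisFun_apply, ← map_single_one (e := e)]
    exact smul_eq_zero_of_right _ (hp _)
  have h' := congrArg (fun z => ((h⁻¹ : GL ι F) : Matrix ι ι F) *ᵥ z) hzero
  simp only [Matrix.mulVec_mulVec, Matrix.mulVec_zero] at h'
  rw [← Units.val_mul, inv_mul_cancel, Units.val_one, Matrix.one_mulVec] at h'
  funext i
  exact e.injective (by simpa using congrFun h' i)

/-- A similitude with scalar twisted norm is a twisted coboundary of a map pulling `Q` back to the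
small field, up to scalars. -/
theorem exists_descent (he : IsFixedField e σ) (hQ : Rat Q σ)
    (hnd : (QuadraticMap.polarBilin Q).Nondegenerate) (hv : ∃ v, Q v = 1) {r : ℕ}
    (hr : orderOf σ = r) (hr0 : 0 < r) {a : GL ι F} (ha : a ∈ GO Q) {d : Fˣ}
    (hd : twNorm σ a r = Matrix.GeneralLinearGroup.scalar ι d) :
    ∃ (u : Fˣ) (h : GL ι F) (b : Fˣ) (Q₁ : QuadraticForm K (ι → K)),
      a = Matrix.GeneralLinearGroup.scalar ι u * (h * (mapGL σ h)⁻¹) ∧
      (QuadraticMap.polarBilin Q₁).Nondegenerate ∧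
      ∀ v : ι → K, Q ((h : Matrix ι ι F) *ᵥ fun i => e (v i)) = (b : F) * e (Q₁ v) := by
  obtain ⟨w, hw⟩ := hv
  haveI : Nonempty ι := by
    by_contra hne
    rw [not_nonempty_iff] at hne
    rw [Subsingleton.elim w 0, QuadraticMap.map_zero] at hw
    exact zero_ne_one hw
  obtain ⟨u, h, hah⟩ := exists_eq_scalar_mul_map_inv hr hr0 hd
  have hbG : h * (mapGL σ h)⁻¹ ∈ GO Q := by
    rw [show h * (mapGL σ h)⁻¹ = (Matrix.GeneralLinearGroup.scalar ι u)⁻¹ * a by
      rw [hah, inv_mul_cancel_left]]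
    exact mul_mem (inv_mem (scalar_mem_GO u)) ha
  obtain ⟨c, hc⟩ := hbG
  obtain ⟨b, Q₁, hnd₁, hval⟩ := exists_descent_of_pullback he hnd ⟨w, hw⟩ hr hr0 h c fun v => by
    rw [← hQ, mapGL_map_vec, ← hc, Matrix.mulVec_mulVec, ← Units.val_mul, inv_mul_cancel_right]
  exact ⟨u, h, b, Q₁, hah, hnd₁, hval⟩

/-- If the descended form is similar to `Q₀` itself, the element is a coboundary of a similitude. -/
theorem IsExt.exists_coboundary (he : IsFixedField e σ) (hE : IsExt e Q₀ Q) {h : GL ι F} {b : Fˣ}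
    {Q₁ : QuadraticForm K (ι → K)}
    (hval : ∀ v : ι → K, Q ((h : Matrix ι ι F) *ᵥ fun i => e (v i)) = (b : F) * e (Q₁ v))
    (hsim : Similar Q₁ Q₀) :
    ∃ g : GL ι F, g ∈ GO Q ∧ h * (mapGL σ h)⁻¹ = g * (mapGL σ g)⁻¹ := by
  obtain ⟨L, d, hL⟩ := hsim
  let l : GL ι K := ⟨LinearMap.toMatrix' L.toLinearMap, LinearMap.toMatrix' L.symm.toLinearMap,
    by rw [← LinearMap.toMatrix'_comp]; simp, by rw [← LinearMap.toMatrix'_comp]; simp⟩
  refine ⟨h * Matrix.GeneralLinearGroup.map e l, ⟨b * Units.map (e : K →* F) d,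
    hE.hasMult_of_rat fun v => ?_⟩, ?_⟩
  · rw [Units.val_mul, ← Matrix.mulVec_mulVec,
      show (Matrix.GeneralLinearGroup.map e l : GL ι F).1 = l.1.map e from rfl, map_mulVec_apply, hval,
      show l.1 *ᵥ v = L v from LinearMap.toMatrix'_mulVec _ v, hL, map_mul, Units.val_mul,
      Units.coe_map, MonoidHom.coe_coe, mul_assoc]
  · rw [map_mul, IsExt.mapGL_map he]
    group

end CfsgLib.AutPOmega
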