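import Cfsg.Agent.ClassicalCore.OrthOdd

/-!
# The commutant of the fourth powers of the isometries of a symmetric form

Additive maps commuting with the fourth powers of all isometries of an isotropic space of dimension at
least three are homotheties; only zero is fixed by all these powers.
-/

set_option autoImplicit false
set_option linter.unusedSectionVars false

namespace CfsgLib.AutPOmega

open CfsgLib

variable {K V : Type*} [Field K] [AddCommGroup V] [Module K V] {B : LinearMap.BilinForm K V}

/-- The Eichler transformation of a symmetric bilinear form. -/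
def bilEich (B : LinearMap.BilinForm K V) (e w : V) : V →ₗ[K] V :=
  LinearMap.id + ((B e).smulRight w - (B w).smulRight e - (B e).smulRight ((B w w / 2) • e))

theorem bilEich_apply (e w v : V) :
    bilEich B e w v = v + (B e v • w - B w v • e - B e v • ((B w w / 2) • e)) := rfl

variable (hs : ∀ u v, B u v = B v u) (h2 : (2 : K) ≠ 0)
include hs h2

theorem bilEich_bilEich {e w w' : V} (he : B e e = 0) (hw : B e w = 0) (hw' : B e w' = 0) (v : V) :
    bilEich B e w (bilEich B e w' v) = bilEich B e (w + w') v := by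
  simp only [bilEich_apply, map_add, map_sub, map_smul, LinearMap.add_apply, smul_eq_mul, he, hw',
    hs w e, hw, hs w' w]
  match_scalars <;> (try field_simp) <;> ring

theorem bilEich_zero (e v : V) : bilEich B e 0 v = v := by
  simp [bilEich_apply]

/-- The Eichler transformation as an equivalence. -/
def bilEichEquiv (B : LinearMap.BilinForm K V) (hs : ∀ u v, B u v = B v u) (h2 : (2 : K) ≠ 0)
    {e w : V} (he : B e e = 0) (hw : B e w = 0) : V ≃ₗ[K] V :=
  LinearEquiv.ofLinear (bilEich B e w) (bilEich B e (-w))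
    (LinearMap.ext fun v => by
      rw [LinearMap.comp_apply, bilEich_bilEich hs h2 he hw (by simp [hw]), add_neg_cancel, bilEich_zero hs h2]
      rfl)
    (LinearMap.ext fun v => by
      rw [LinearMap.comp_apply, bilEich_bilEich hs h2 he (by simp [hw]) hw, neg_add_cancel, bilEich_zero hs h2]
      rfl)

theorem bilEich_iso {e w : V} (he : B e e = 0) (hw : B e w = 0) (u v : V) :
    B (bilEich B e w u) (bilEich B e w v) = B u v := by
  simp only [bilEich_apply, map_add, map_sub, map_smul, LinearMap.add_apply, LinearMap.sub_apply,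
    LinearMap.smul_apply, smul_eq_mul, he, hw, hs u e, hs u w, hs w e]
  field_simp
  ring

/-- A map commuting with fourth powers of isometries commutes with Eichler transformations. -/
theorem comm_bilEich {φ : V → V}
    (hφ : ∀ g : V ≃ₗ[K] V, (∀ u v, B (g u) (g v) = B u v) → ∀ v, φ (g (g (g (g v)))) = g (g (g (g (φ v)))))
    {e w : V} (he : B e e = 0) (hw : B e w = 0) (v : V) : φ (bilEich B e w v) = bilEich B e w (φ v) := by
  have h4 : (4 : K) ≠ 0 := by rw [show (4 : K) = 2 * 2 by norm_num]; exact mul_ne_zero h2 h2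
  have hw' : B e ((4 : K)⁻¹ • w) = 0 := by simp [hw]
  have key := hφ (bilEichEquiv B hs h2 he hw') (bilEich_iso hs h2 he hw') v
  have hpow : ∀ v, bilEich B e ((4 : K)⁻¹ • w) (bilEich B e ((4 : K)⁻¹ • w) (bilEich B e ((4 : K)⁻¹ • w)
      (bilEich B e ((4 : K)⁻¹ • w) v))) = bilEich B e w v := fun v => by
    rw [bilEich_bilEich hs h2 he hw' hw', bilEich_bilEich hs h2 he hw' hw',
      bilEich_bilEich hs h2 he (by simp [hw]) (by simp [hw])]
    congr 2
    match_scalars
    field_simp
    ring
  simp only [bilEichEquiv, LinearEquiv.ofLinear_apply, hpow] at key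
  exact key

variable (hnd : ∀ u, (∀ v, B u v = 0) → u = 0) [FiniteDimensional K V] (hdim : 3 ≤ Module.finrank K V)
include hnd hdim

/-- A hyperbolic pair with an anisotropic vector orthogonal to it. -/
theorem exists_pair_aniso [Finite K] :
    ∃ e f w : V, B e e = 0 ∧ B f f = 0 ∧ B e f = 1 ∧ B e w = 0 ∧ B f w = 0 ∧ B w w ≠ 0 := by
  obtain ⟨n, hn0, hnn⟩ := ClassicalCore.exists_isotropic (P := (⊥ : Subgroup (V ≃ₗ[K] V))) hs h2 hnd hdim
    fun g _ x hx => by rw [Subgroup.mem_bot] at hx ⊢; rw [hx, mul_one, mul_inv_cancel]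
  obtain ⟨v, hv⟩ : ∃ v, B n v ≠ 0 := by
    by_contra hc
    push Not at hc
    exact hn0 (hnd n hc)
  set f₀ := (B n v)⁻¹ • v with hf₀
  have hnf₀ : B n f₀ = 1 := by simp [hf₀, hv]
  set f := f₀ - (B f₀ f₀ / 2) • n with hf
  have hnf : B n f = 1 := by simp [hf, hnf₀, hnn]
  have hff : B f f = 0 := by
    simp only [hf, map_sub, map_smul, LinearMap.sub_apply, LinearMap.smul_apply, smul_eq_mul, hnn,
      hs f₀ n, hnf₀]
    field_simp
    ring
  have h1 : B (n + f) (n + f) ≠ 0 := by
    simp only [map_add, LinearMap.add_apply, hnn, hff, hnf, hs f n, zero_add, add_zero]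
    simpa [one_add_one_eq_two] using h2
  have h3 : B (n - f) (n - f) ≠ 0 := by
    simp only [map_sub, LinearMap.sub_apply, hnn, hff, hnf, hs f n, sub_zero, zero_sub]
    simpa [← neg_add', one_add_one_eq_two] using h2
  obtain ⟨w, hw1, hw2, hw⟩ := ClassicalCore.exists_aniso_orth hs h2 hnd hdim h1 h3
    (by simp [hnn, hff, hnf, hs f n])
  simp only [map_add, map_sub, LinearMap.add_apply, LinearMap.sub_apply] at hw1 hw2
  refine ⟨n, f, w, hnn, hff, hnf, ?_, ?_, hw⟩
  · have : (2 : K) * B n w = 0 := by linear_combination hw1 + hw2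
    exact (mul_eq_zero.1 this).resolve_left h2
  · have : (2 : K) * B f w = 0 := by linear_combination hw1 - hw2
    exact (mul_eq_zero.1 this).resolve_left h2

/-- An additive map commuting with the fourth powers of all isometries is a homothety. -/
theorem exists_homothety_of_comm [Finite K] (φ : V →+ V)
    (hφ : ∀ g : V ≃ₗ[K] V, (∀ u v, B (g u) (g v) = B u v) → ∀ v, φ (g (g (g (g v)))) = g (g (g (g (φ v))))) :
    ∃ ν : K, ∀ v, φ v = ν • v := by
  obtain ⟨e, f, w₀, he, hf, hef, hew₀, hfw₀, hw₀⟩ := exists_pair_aniso hs h2 hnd hdim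
  have hfe : B f e = 1 := by rw [hs, hef]
  let p : V → V := fun z => z - B f z • e - B e z • f
  have hpe : ∀ z, B e (p z) = 0 := fun z => by simp [p, he, hef]
  have hpf : ∀ z, B f (p z) = 0 := fun z => by simp [p, hf, hfe]
  have hdec : ∀ z, z = B f z • e + B e z • f + p z := fun z => by simp [p]
  have he0 : e ≠ 0 := fun h => by simp [h] at hef
  have hce := fun {w : V} (hw : B e w = 0) (v : V) => comm_bilEich hs h2 hφ he hw v
  have hcf := fun {w : V} (hw : B f w = 0) (v : V) => comm_bilEich hs h2 hφ hf hw v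
  -- the isotropic axes are preserved
  have axis : ∀ {e f : V}, B e e = 0 → B e f = 1 →
      (∀ {w : V}, B e w = 0 → ∀ v, φ (bilEich B e w v) = bilEich B e w (φ v)) →
      ∀ (s : K) (w : V), B e w = 0 → B f w = 0 →
        B e (φ (s • e)) • w - B w (φ (s • e)) • e - B e (φ (s • e)) • ((B w w / 2) • e) = 0 := by
    intro e f he hef hce s w hew hfw
    have := hce hew (s • e)
    rw [show bilEich B e w (s • e) = s • e by simp [bilEich_apply, he, hs w e, hew], bilEich_apply,
      left_eq_add] at this
    exact this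
  have hae : ∀ s : K, B e (φ (s • e)) = 0 ∧ ∀ w, B e w = 0 → B f w = 0 → B w (φ (s • e)) = 0 := by
    intro s
    have h0 : B e (φ (s • e)) = 0 := by
      have h := congrArg (B w₀) (axis he hef hce s w₀ hew₀ hfw₀)
      simpa [hs w₀ e, hew₀, hw₀] using h
    refine ⟨h0, fun w hw hw' => ?_⟩
    have h := axis he hef hce s w hw hw'
    rw [h0, zero_smul, zero_smul, zero_sub, sub_zero, neg_eq_zero, smul_eq_zero] at h
    exact h.resolve_right he0
  have hf0 : f ≠ 0 := fun h => by simp [h] at hef
  have haf : ∀ s : K, B f (φ (s • f)) = 0 ∧ ∀ w, B e w = 0 → B f w = 0 → B w (φ (s • f)) = 0 := by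
    intro s
    have h0 : B f (φ (s • f)) = 0 := by
      have h := congrArg (B w₀) (axis hf hfe hcf s w₀ hfw₀ hew₀)
      simpa [hs w₀ f, hfw₀, hw₀] using h
    refine ⟨h0, fun w hw hw' => ?_⟩
    have h := axis hf hfe hcf s w hw' hw
    rw [h0, zero_smul, zero_smul, zero_sub, sub_zero, neg_eq_zero, smul_eq_zero] at h
    exact h.resolve_right hf0
  have line : ∀ {z : V}, B e z = 0 → (∀ w, B e w = 0 → B f w = 0 → B w z = 0) → z = B f z • e := by
    intro z h1 h3
    refine sub_eq_zero.1 (hnd _ fun v => ?_)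
    rw [hdec v]
    have h4 : B z (p v) = 0 := by rw [hs]; exact h3 _ (hpe v) (hpf v)
    simp [hs z e, h1, hs z f, he, hef, hpe v, h4]
    ring
  have line' : ∀ {z : V}, B f z = 0 → (∀ w, B e w = 0 → B f w = 0 → B w z = 0) → z = B e z • f := by
    intro z h1 h3
    refine sub_eq_zero.1 (hnd _ fun v => ?_)
    rw [hdec v]
    have h4 : B z (p v) = 0 := by rw [hs]; exact h3 _ (hpe v) (hpf v)
    simp [hs z e, h1, hs z f, hf, hfe, hpf v, h4]
    ring
  obtain ⟨α, hα⟩ : ∃ α : K → K, ∀ s, φ (s • e) = α s • e := ⟨_, fun s => line (hae s).1 (hae s).2⟩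
  obtain ⟨γ, hγ⟩ : ∃ γ : K → K, ∀ s, φ (s • f) = γ s • f := ⟨_, fun s => line' (haf s).1 (haf s).2⟩
  -- the orthogonal complement is preserved
  have hperp : ∀ z, B e z = 0 → B f z = 0 → B e (φ z) = 0 ∧ B f (φ z) = 0 := by
    intro z hz hz'
    have h1 := congrArg (B w₀) (hce hew₀ z)
    have h3 := congrArg (B w₀) (hcf hfw₀ z)
    rw [show bilEich B e w₀ z = z + (-B w₀ z) • e by simp [bilEich_apply, hz], map_add φ, hα] at h1
    rw [show bilEich B f w₀ z = z + (-B w₀ z) • f by simp [bilEich_apply, hz'], map_add φ, hγ] at h3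
    simp [bilEich_apply, hs w₀ e, hew₀, hs w₀ f, hfw₀, hw₀] at h1 h3
    exact ⟨h1, h3⟩
  -- moving `f` into the complement
  have hlin : ∀ (s : K) (w : V), B e w = 0 → B f w = 0 →
      φ (s • w) = γ s • w ∧ α (s * (B w w / 2)) = γ s * (B w w / 2) := by
    intro s w hw hw'
    have hwf : B w f = 0 := by rw [hs, hw']
    have h := hce hw (s • f)
    rw [hγ, show bilEich B e w (s • f) = s • f + (s • w + (-(s * (B w w / 2))) • e) by
        simp [bilEich_apply, hef, hwf]
        module,
      show bilEich B e w (γ s • f) = γ s • f + (γ s • w + (-(γ s * (B w w / 2))) • e) by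
        simp [bilEich_apply, hef, hwf]
        module,
      map_add φ, hγ, add_right_inj, map_add φ, neg_smul, map_neg φ, hα] at h
    obtain ⟨he1, he2⟩ := hperp (s • w) (by simp [hw]) (by simp [hw'])
    have h5 : α (s * (B w w / 2)) = γ s * (B w w / 2) := by
      have := congrArg (B f) h
      simp [he2, hfe, hw'] at this
      first | exact this | exact this.symm | linear_combination (norm := ring1) this
    refine ⟨?_, h5⟩
    rw [h5, neg_smul, add_left_inj] at h
    exact h
  have hγlin : ∀ s, γ s = γ 1 * s := by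
    intro s
    have h1 := (hlin s w₀ hew₀ hfw₀).1
    have h3 := (hlin 1 (s • w₀) (by simp [hew₀]) (by simp [hfw₀])).1
    rw [one_smul, h1, smul_smul] at h3
    have := congrArg (B w₀) h3
    simp only [map_smul, smul_eq_mul] at this
    exact mul_right_cancel₀ hw₀ this
  refine ⟨γ 1, fun v => ?_⟩
  have hαlin : ∀ t, α t = γ 1 * t := fun t => by
    have h := (hlin (t / (B w₀ w₀ / 2)) w₀ hew₀ hfw₀).2
    rw [hγlin, div_mul_cancel₀ _ (div_ne_zero hw₀ h2)] at h
    rw [h]
    field_simp
  have hp := (hlin 1 (p v) (hpe v) (hpf v)).1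
  rw [one_smul] at hp
  conv_lhs => rw [hdec v, map_add φ, map_add φ, hα, hγ, hαlin, hγlin (B e v), hp]
  conv_rhs => rw [hdec v]
  module

/-- Only zero is fixed by the fourth powers of all isometries. -/
theorem eq_zero_of_fixed [Finite K] {z : V}
    (hz : ∀ g : V ≃ₗ[K] V, (∀ u v, B (g u) (g v) = B u v) → g (g (g (g z))) = z) : z = 0 := by
  obtain ⟨e, f, w₀, he, hf, hef, hew₀, hfw₀, hw₀⟩ := exists_pair_aniso hs h2 hnd hdim
  have hφ : ∀ g : V ≃ₗ[K] V, (∀ u v, B (g u) (g v) = B u v) →
      ∀ v, Function.const V z (g (g (g (g v)))) = g (g (g (g (Function.const V z v)))) :=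
    fun g hg _ => (hz g hg).symm
  have fix : ∀ {e f w : V}, B e e = 0 → B e f = 1 → B e w = 0 → B f w = 0 → B w w ≠ 0 →
      B e z = 0 ∧ B w z = 0 := by
    intro e f w he hef hew hfw hw
    have h := comm_bilEich hs h2 hφ he hew (0 : V)
    simp only [bilEich_apply, Function.const_apply] at h
    rw [left_eq_add] at h
    have h1 : B e z = 0 := by simpa [hs w e, hew, hw] using congrArg (B w) h
    refine ⟨h1, ?_⟩
    have h3 := congrArg (B f) h
    simp [h1, hs f e, hef] at h3
    exact h3
  have hfe : B f e = 1 := by rw [hs, hef]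
  obtain ⟨h1, -⟩ := fix he hef hew₀ hfw₀ hw₀
  obtain ⟨h3, h5⟩ := fix hf hfe hfw₀ hew₀ hw₀
  refine hnd z fun v => ?_
  have hdec : v = B f v • e + B e v • f + (v - B f v • e - B e v • f) := by abel
  have hp : B z (v - B f v • e - B e v • f) = 0 := by
    set p := v - B f v • e - B e v • f with hp
    have hep : B e p = 0 := by simp [hp, he, hef]
    have hfp : B f p = 0 := by simp [hp, hf, hfe]
    by_cases hpp : B p p = 0
    · by_cases hpw : B (p + w₀) (p + w₀) = 0
      · have hpw' : B (p - w₀) (p - w₀) ≠ 0 := fun h0 => by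
          simp only [map_add, map_sub, LinearMap.add_apply, LinearMap.sub_apply, hpp, hs w₀ p] at hpw h0
          exact mul_ne_zero h2 hw₀ (by linear_combination hpw + h0)
        have h := (fix he hef (w := p - w₀) (by simp [hep, hew₀]) (by simp [hfp, hfw₀]) hpw').2
        simp [h5] at h
        rw [hs]; exact h
      · have h := (fix he hef (w := p + w₀) (by simp [hep, hew₀]) (by simp [hfp, hfw₀]) hpw).2
        simp [h5] at h
        rw [hs]; exact h
    · rw [hs]; exact (fix he hef hep hfp hpp).2
  rw [hdec, map_add, map_add, map_smul, map_smul, hs z e, h1, hs z f, h3, hp]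
  simp

end CfsgLib.AutPOmega
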