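import Cfsg.Agent.AutPOmega.PlusCount
import Cfsg.Agent.AutPOmega.Balance
import Cfsg.Agent.Forms.TrialityCount
import Cfsg.Agent.Twisted.GraphSym

/-!
# Triality normalises the inner-diagonal automorphisms of `PΩ⁺₈`

On every root element `x_r(t) ↦ x_{σ r}(± t)`, so a torus element is sent to a torus element.
-/

set_option autoImplicit false
set_option linter.unusedSectionVars false
set_option linter.style.haveILetI false
set_option maxHeartbeats 800000

namespace CfsgLib.AutPOmega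

open Matrix Module CfsgLib.Spinor CfsgLib.Forms CfsgLib.Forms4 CfsgLib.StdForms
open CfsgLib.ChevClassical (frameD4 modelD4 modelD4_ok dlt)
open CfsgLib.Twisted (graphD4 graphD4_ok)

universe u

variable {F : Type u} [Field F]

/-- The action of the root element `x_r(t)` of the eight-dimensional model. -/
def rootFun (r : Fin Cfsg.Lie.chevD4.nroots) (t : F) : (Fin 4 ⊕ Fin 4 → F) → (Fin 4 ⊕ Fin 4 → F) :=
  frameD4.eichFun (modelD4.root r).1 ((((modelD4.root r).2.2 : F) * t) • dlt (modelD4.root r).2.1)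

/-- A graph automorphism given on all root elements. -/
def HasRootTau (f : (Fin 4 ⊕ Fin 4 → F) → F) : Prop :=
  ∃ (τ : MulAut (Cfsg.POmega F f)) (R : Fin Cfsg.Lie.chevD4.nroots → F → ↥(Cfsg.Omega F f)),
    (∀ r t v, ((R r t).1.1 : Matrix (Fin 4 ⊕ Fin 4) (Fin 4 ⊕ Fin 4) F) *ᵥ v = rootFun r t v) ∧
    (∀ H : Subgroup (Cfsg.POmega F f), (∀ r t, QuotientGroup.mk' _ (R r t) ∈ H) → H = ⊤) ∧
    ∀ r s : Fin Cfsg.Lie.chevD4.nroots, graphD4.σf r = (s : ℕ) → ∀ t,
      τ (QuotientGroup.mk' _ (R r t)) = QuotientGroup.mk' _ (R s ((graphD4.sgn r : F) * t))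

theorem hasRootTau_frame : HasRootTau (frameD4.Q F) := by
  have h := modelD4_ok
  have hgen : (∃ a : F, a ≠ 0 ∧ a ≠ 1) ∨ ((∀ q, frameD4.mate q ≠ q) ∧ ∀ p q, frameD4.mate p ≠ p →
      ∃ r, frameD4.mate r ≠ r ∧ r ≠ p ∧ r ≠ frameD4.mate p ∧ r ≠ q ∧ r ≠ frameD4.mate q) :=
    Or.inr (by decide)
  obtain ⟨hO, e, he⟩ := TrialityD4.exists_equiv (F := F) hgen
  set α := (graphD4_ok.permutes F).aut with hα
  let R : Fin Cfsg.Lie.chevD4.nroots → F → ↥(Cfsg.Omega F (frameD4.Q F)) := fun r t =>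
    ⟨ChevClassical.rootO h r t, by rw [hO]; exact ChevClassical.rootO_mem h r t⟩
  have hR : ∀ r t, ((e (QuotientGroup.mk' _ (R r t)) : GL Cfsg.Lie.chevD4.Idx F) :
        Matrix Cfsg.Lie.chevD4.Idx Cfsg.Lie.chevD4.Idx F) = Cfsg.Lie.chevD4.x F r t :=
    fun r t => by rw [he]; exact ChevClassical.adjMat_root h r t
  refine ⟨e.trans (α.trans e.symm), R, fun r t v => ?_, fun H hH => ?_, fun r s hrs t => ?_⟩
  · show ChevClassical.app (ChevClassical.rootO h r t) v = _
    rw [ChevClassical.rootO, ChevClassical.app_eichO]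
    rfl
  · refine eq_top_iff.2 fun y _ => ?_
    obtain ⟨⟨g, hg⟩, rfl⟩ := QuotientGroup.mk'_surjective _ y
    have key : ∀ g, g ∈ ChevClassical.rootSub frameD4 F → ∀ hg : g ∈ Cfsg.Omega F (frameD4.Q F),
        QuotientGroup.mk' (Subgroup.center ↥(Cfsg.Omega F (frameD4.Q F))) ⟨g, hg⟩ ∈ H := by
      intro g hg'
      induction hg' using Subgroup.closure_induction with
      | mem x hx =>
        obtain ⟨r, t, rfl⟩ := ChevClassical.exists_rootO h hx
        exact fun _ => hH r t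
      | one =>
        intro hg
        rw [show (⟨1, hg⟩ : ↥(Cfsg.Omega F (frameD4.Q F))) = 1 from rfl, map_one]
        exact H.one_mem
      | mul x y hx hy ihx ihy =>
        intro hg
        have := H.mul_mem (ihx (hO ▸ hx)) (ihy (hO ▸ hy))
        rwa [← map_mul] at this
      | inv x hx ih =>
        intro hg
        have := H.inv_mem (ih (hO ▸ hx))
        rwa [← map_inv] at this
    exact key g (hO ▸ hg) hg
  · show e.symm (α (e _)) = _
    have e1 : α (e (QuotientGroup.mk' _ (R r t))) =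
        e (QuotientGroup.mk' _ (R s ((graphD4.sgn r : F) * t))) := by
      refine Subtype.ext (Units.ext ?_)
      rw [hR, ← hrs]
      exact (graphD4_ok.permutes F).aut_x _ r.2 (hR r t)
    rw [e1, MulEquiv.symm_apply_apply]

theorem hasRootTau_plus : HasRootTau (⇑(plusQ 4 F)) := by
  rw [coe_plusQ, ← TrialityD4.frame_Q_eq]
  exact hasRootTau_frame

variable [Fintype F]

local notation "Q₈" => CfsgLib.StdForms.plusQ 4 F

/-- The root character of a torus element. -/
def rootChar (c : Fˣ) (l : Fin 4 → Fˣ) (r : Fin Cfsg.Lie.chevD4.nroots) : Fˣ :=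
  torusDiag c l (modelD4.root r).1 * torusDiag c l (modelD4.root r).2.1 * c⁻¹

theorem torusDiag_mate (c : Fˣ) (l : Fin 4 → Fˣ) (j : Fin 4 ⊕ Fin 4) :
    torusDiag c l j * torusDiag c l (frameD4.mate j) = c := by
  rcases j with i | i <;> simp [torusDiag, frameD4]

theorem torus_rootFun (c : Fˣ) (l : Fin 4 → Fˣ) (r : Fin Cfsg.Lie.chevD4.nroots) (t : F)
    (x : Fin 4 ⊕ Fin 4 → F) :
    (torus c l).1 *ᵥ rootFun r t x = rootFun r ((rootChar c l r : F) * t) ((torus c l).1 *ᵥ x) := by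
  set p := (modelD4.root r).1 with hp
  set q := (modelD4.root r).2.1 with hq
  have hpm : frameD4.mate p ≠ p := (modelD4_ok.root_ok r).1
  have hqm : frameD4.mate q ≠ q := (by decide : ∀ q, frameD4.mate q ≠ q) q
  have hqp : q ≠ p := (modelD4_ok.root_ok r).2.1
  have h1 : (rootChar c l r : F) * (torusDiag c l (frameD4.mate p) : F) = (torusDiag c l q : F) := by
    rw [← Units.val_mul]; congr 1
    rw [rootChar, ← hp, ← hq]
    calc _ = torusDiag c l q * (torusDiag c l p * torusDiag c l (frameD4.mate p) * c⁻¹) := by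
          simp only [mul_assoc, mul_left_comm, mul_comm]
      _ = _ := by rw [torusDiag_mate, mul_inv_cancel, mul_one]
  have h2 : (rootChar c l r : F) * (torusDiag c l (frameD4.mate q) : F) = (torusDiag c l p : F) := by
    rw [← Units.val_mul]; congr 1
    rw [rootChar, ← hp, ← hq]
    calc _ = torusDiag c l p * (torusDiag c l q * torusDiag c l (frameD4.mate q) * c⁻¹) := by
          simp only [mul_assoc, mul_left_comm, mul_comm]
      _ = _ := by rw [torusDiag_mate, mul_inv_cancel, mul_one]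
  rw [torus_mulVec, torus_mulVec]
  funext j
  simp only [rootFun, ← hp, ← hq, ChevClassical.Frame.eichFun, ChevClassical.Frame.B_smul_left,
    frameD4.B_dlt hqm, ChevClassical.Frame.Q_smul, frameD4.Q_dlt hqm, Pi.add_apply, Pi.sub_apply,
    Pi.smul_apply, smul_eq_mul, mul_zero, zero_mul, add_zero]
  by_cases hjq : j = q <;> by_cases hjp : j = p <;> simp [dlt, Pi.single_apply, hjq, hjp, hqp, hqp.symm]
  all_goals first
    | ring1
    | linear_combination (-(((modelD4.root r).2.2 : F) * t * x (frameD4.mate p))) * h1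
    | linear_combination (((modelD4.root r).2.2 : F) * t * x (frameD4.mate q)) * h2
    | linear_combination (-(((modelD4.root r).2.2 : F) * t * x (frameD4.mate p))) * h1 +
        (((modelD4.root r).2.2 : F) * t * x (frameD4.mate q)) * h2

theorem rootChar_graph (c : Fˣ) (l : Fin 4 → Fˣ) {r s : Fin Cfsg.Lie.chevD4.nroots}
    (h : graphD4.σf r = (s : ℕ)) :
    rootChar (l 0 * l 3 * (l 1)⁻¹ * (l 2)⁻¹)
      ![l 0 * l 3 * c⁻¹, l 0 * (l 2)⁻¹, l 0 * (l 1)⁻¹, 1] s = rootChar c l r := by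
  obtain ⟨r, hr⟩ := r
  obtain ⟨s, hs⟩ := s
  change graphD4.σ.getD r 0 = s at h
  subst h
  have hr' : r < 24 := hr
  refine Units.ext ?_
  interval_cases r <;>
    simp [rootChar, torusDiag, modelD4, ChevClassical.modelRootD4, graphD4] <;> field_simp

/-- An element is the inner automorphism of a root element moved by the torus. -/
theorem sim_torus_root {R : Fin Cfsg.Lie.chevD4.nroots → F → OG Q₈}
    (hR : ∀ r t v, ((R r t).1.1 : Matrix (Fin 4 ⊕ Fin 4) (Fin 4 ⊕ Fin 4) F) *ᵥ v = rootFun r t v)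
    (c : Fˣ) (l : Fin 4 → Fˣ) (r : Fin Cfsg.Lie.chevD4.nroots) (t : F) :
    sim (⟨torus c l, c, hasMult_torus c l⟩ : GO Q₈) (pr Q₈ (R r t)) =
      pr Q₈ (R r ((rootChar c l r : F) * t)) := by
  refine ((sim_induced_iff (⟨torus c l, c, hasMult_torus c l⟩ : GO Q₈)).2 rfl) _ _ ?_
  show (R r ((rootChar c l r : F) * t)).1.1.1 =
    (torus c l).1 * ((R r t).1.1.1).map (RingEquiv.refl F) * ((torus c l)⁻¹ : GL _ F).1
  rw [show ((R r t).1.1.1).map (RingEquiv.refl F) = (R r t).1.1.1 from rfl]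
  refine Matrix.ext_iff_mulVec.2 fun v => ?_
  rw [← Matrix.mulVec_mulVec, ← Matrix.mulVec_mulVec, hR, hR, torus_rootFun, Matrix.mulVec_mulVec,
    ← Units.val_mul, mul_inv_cancel, Units.val_one, Matrix.one_mulVec]

/-- A graph automorphism outside the semisimilarities which normalises the torus. -/
theorem exists_graph_torus :
    ∃ τ : MulAut (Cfsg.POmega F ⇑Q₈), τ ∉ Cfsg.gammaPOmega F ⇑Q₈ ∧
      ∀ c l, ∃ c' l', τ * sim (⟨torus c l, c, hasMult_torus c l⟩ : GO Q₈) * τ⁻¹ =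
        sim (⟨torus c' l', c', hasMult_torus c' l'⟩ : GO Q₈) := by
  obtain ⟨τ, R, hR, hgen, hτ⟩ := hasRootTau_plus (F := F)
  have hτ' : ∀ r s : Fin Cfsg.Lie.chevD4.nroots, graphD4.σf r = (s : ℕ) → ∀ t,
      τ (pr Q₈ (R r t)) = pr Q₈ (R s ((graphD4.sgn r : F) * t)) := hτ
  have C := ctx_plusQ (F := F) (m := 4) le_rfl
  refine ⟨τ, fun hmem => ?_, fun c l => ⟨l 0 * l 3 * (l 1)⁻¹ * (l 2)⁻¹,
    ![l 0 * l 3 * c⁻¹, l 0 * (l 2)⁻¹, l 0 * (l 1)⁻¹, 1], ?_⟩⟩
  · obtain ⟨S, hS⟩ := (mem_gamma_iff C).1 hmem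
    set r18 : Fin Cfsg.Lie.chevD4.nroots := ⟨18, by decide⟩
    set r13 : Fin Cfsg.Lie.chevD4.nroots := ⟨13, by decide⟩
    set r12 : Fin Cfsg.Lie.chevD4.nroots := ⟨12, by decide⟩
    set k := R r18 1 * R r13 1 with hk
    set k' := R r13 1 * R r12 1 with hk'
    have h1 : τ (pr Q₈ k) = pr Q₈ k' := by
      rw [hk, hk', map_mul, map_mul, hτ' r18 r13 rfl, hτ' r13 r12 rfl, map_mul]
      simp [r18, r13, graphD4, Twisted.TableSym.sgn]
    have hkapp : ∀ v, app k v = rootFun r18 1 (rootFun r13 1 v) := fun v => by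
      rw [hk, AutPOmega.app_mul, ← hR, ← hR]
    have hkapp' : ∀ v, app k' v = rootFun r13 1 (rootFun r12 1 v) := fun v => by
      rw [hk', AutPOmega.app_mul, ← hR, ← hR]
    have hsing : ∀ v, Q₈ (app k v - v) = 0 := fun v => by
      rw [hkapp]
      simp [rootFun, r18, r13, ChevClassical.Frame.eichFun, ChevClassical.Frame.B, ChevClassical.Frame.Q,
        frameD4, modelD4, ChevClassical.modelRootD4, Fintype.sum_sum_type, Fin.sum_univ_four, dlt,
        Pi.single_apply, plusQ_apply, Cfsg.quadFormPlus]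
    have hu : app k' (dlt (.inl 0) + dlt (.inr 0)) = dlt (.inl 0) + dlt (.inr 0) := by
      rw [hkapp']
      simp [rootFun, r12, r13, ChevClassical.Frame.eichFun, ChevClassical.Frame.B, ChevClassical.Frame.Q,
        frameD4, modelD4, ChevClassical.modelRootD4, Fintype.sum_sum_type, Fin.sum_univ_four, dlt,
        Pi.single_apply, funext_iff, Fin.forall_fin_succ]
    have hu1 : Q₈ (dlt (.inl 0) + dlt (.inr 0)) = 1 := by
      simp [plusQ_apply, Cfsg.quadFormPlus, Fin.sum_univ_four, dlt]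
    have hv : Q₈ (app k' (dlt (.inr 2)) - dlt (.inr 2)) ≠ 0 := by
      rw [hkapp']
      simp [rootFun, r12, r13, ChevClassical.Frame.eichFun, ChevClassical.Frame.B, ChevClassical.Frame.Q,
        frameD4, modelD4, ChevClassical.modelRootD4, Fintype.sum_sum_type, Fin.sum_univ_four, dlt,
        Pi.single_apply, plusQ_apply, Cfsg.quadFormPlus]
    rw [← hS, S.aut_pr] at h1
    obtain ⟨z, hz, hzk⟩ : ∃ z ∈ Subgroup.center (OG Q₈), S.omegaMap k = k' * z :=
      ⟨_, QuotientGroup.eq.1 h1.symm, (mul_inv_cancel_left _ _).symm⟩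
    obtain ⟨d, -, hd⟩ := C.central_scalar hz
    have key : ∀ w, Q₈ (d • app k' w - w) = 0 := fun w => by
      obtain ⟨x, rfl⟩ := S.fn_surjective w
      have e1 : app (S.omegaMap k) (S.fn x) = d • app k' (S.fn x) :=
        ((congrArg (fun g => app g (S.fn x)) hzk).trans (AutPOmega.app_mul k' z _)).trans
          ((congrArg (app k') (hd _)).trans (AutPOmega.app_smul k' d _))
      rw [← e1, S.app_omegaMap]
      have hs : S.fn (app k x) - S.fn x = S.fn (app k x - x) := by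
        have h3 := S.fn_add (app k x - x) x
        rw [sub_add_cancel] at h3
        exact sub_eq_of_eq_add h3
      rw [hs, Semi.fn, S.quad, hsing, map_zero, mul_zero]
    have hd1 : d = 1 := by
      have h3 := key (dlt (.inl 0) + dlt (.inr 0))
      rw [hu, show ∀ u : Fin 4 ⊕ Fin 4 → F, d • u - u = (d - 1) • u from fun u => by module,
        QuadraticMap.map_smul, hu1, smul_eq_mul, mul_one] at h3
      exact sub_eq_zero.1 (mul_self_eq_zero.1 h3)
    refine hv ?_
    have h4 := key (dlt (.inr 2))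
    rwa [hd1, one_smul] at h4
  · set β := sim (⟨torus c l, c, hasMult_torus c l⟩ : GO Q₈)
    set c' := l 0 * l 3 * (l 1)⁻¹ * (l 2)⁻¹
    set l' : Fin 4 → Fˣ := ![l 0 * l 3 * c⁻¹, l 0 * (l 2)⁻¹, l 0 * (l 1)⁻¹, 1]
    set β' := sim (⟨torus c' l', c', hasMult_torus c' l'⟩ : GO Q₈)
    refine mul_inv_eq_iff_eq_mul.2 (MulEquiv.ext fun y => ?_)
    have htop := hgen (MonoidHom.eqLocus (τ * β).toMonoidHom (β' * τ).toMonoidHom) fun r t => by
      show τ (β (pr Q₈ (R r t))) = β' (τ (pr Q₈ (R r t)))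
      have hs : graphD4.σf r < Cfsg.Lie.chevD4.nroots := (graphD4_ok.permutes F).lt _ r.2
      rw [sim_torus_root hR, hτ' r ⟨_, hs⟩ rfl, hτ' r ⟨_, hs⟩ rfl, sim_torus_root hR,
        rootChar_graph c l (r := r) (s := ⟨_, hs⟩) rfl, mul_left_comm]
    exact DFunLike.congr_fun (MonoidHom.eq_of_eqOn_top (fun y _ => (htop ▸ Subgroup.mem_top y :
      y ∈ MonoidHom.eqLocus (τ * β).toMonoidHom (β' * τ).toMonoidHom))) y

/-- For `PΩ⁺₈` too the proper similitudes are invariant. -/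
theorem invGP_four : InvGP 4 F := by
  haveI : Finite (MulAut (Cfsg.POmega F ⇑Q₈)) := finite_mulAut'
  have C := ctx_plusQ (F := F) (m := 4) le_rfl
  have hev := even_card_plus 4
  set G := (GP Q₈).map sim with hG
  set Γ := Cfsg.gammaPOmega F ⇑Q₈ with hΓ
  suffices hN : Subgroup.normalizer (G : Set (MulAut (Cfsg.POmega F ⇑Q₈))) = ⊤ by
    intro α δ hδ
    have : α ∈ Subgroup.normalizer (G : Set (MulAut (Cfsg.POmega F ⇑Q₈))) := hN ▸ Subgroup.mem_top _
    exact (Subgroup.mem_normalizer_iff.1 this δ).1 hδ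
  obtain ⟨τ, hτΓ, hτT⟩ := exists_graph_torus (F := F)
  have hinn : ∀ k : OG Q₈, inner k ∈ G := fun k => ⟨omegaHom Q₈ k, proper_omega k, sim_omegaHom k⟩
  have hmem : ∀ g : GO Q₈, g ∈ GP Q₈ → ∃ (c : Fˣ) (l : Fin 4 → Fˣ) (k : OG Q₈),
      sim g = inner k * sim (⟨torus c l, c, hasMult_torus c l⟩ : GO Q₈) := by
    intro g hg
    obtain ⟨c, hc, -⟩ := show Proper Q₈ g.1 from hg
    have h1 : HasMult Q₈ (g.1 * (dilate 4 c)⁻¹) 1 := by
      have := hc.mul (hasMult_dilate (m := 4) c).inv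
      rwa [mul_inv_cancel] at this
    set h : ↥(Cfsg.isometryGroup F ⇑Q₈) := ⟨_, h1.mem_isometry⟩ with hh
    have hgh : g.1 = h.1 * torus c fun _ => c := by rw [← dilate_eq_torus, hh, inv_mul_cancel_right]
    set T0 : GO Q₈ := ⟨torus c fun _ => c, c, hasMult_torus _ _⟩ with hT0
    set hGO : GO Q₈ := ⟨h.1, isometry_mem_GO h⟩ with hGO'
    have hT0P : T0 ∈ GP Q₈ := proper_torus le_rfl _ _
    have eg : hGO * T0 = g := Subtype.ext hgh.symm
    have hhp : Proper Q₈ h.1 := ((GP Q₈).mul_mem_cancel_right hT0P).1 (eg.symm ▸ hg : hGO * T0 ∈ GP Q₈)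
    have hh' := (proper_isometry_iff C.exists_value_one h).1 hhp
    obtain ⟨l, hl⟩ : ∃ l : Fin 4 → Fˣ, h * (isoTorus l)⁻¹ ∈ Cfsg.Omega F ⇑Q₈ := by
      by_cases h2 : (2 : F) = 0
      · exact ⟨1, by rw [map_one, inv_one, mul_one]; exact hh'.2 h2⟩
      obtain ⟨d, hd⟩ := FiniteField.exists_nonsquare (F := F) (ringChar_ne_two h2)
      have hd0 : d ≠ 0 := fun h0 => hd ⟨0, by rw [h0, mul_zero]⟩
      obtain ⟨u, w, huw, hq⟩ := isReflProd_mulSingle (0 : Fin 4) (Units.mk0 d hd0)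
      rcases mem_omega_or_mul h2 C.nondeg huw (by rw [hq]; exact hd) (hh'.1 h2) with h' | h'
      · exact ⟨1, by rw [map_one, inv_one, mul_one]; exact h'⟩
      · exact ⟨(Pi.mulSingle 0 (Units.mk0 d hd0))⁻¹, by rw [map_inv, inv_inv]; exact h'⟩
    refine ⟨c, l * fun _ => c, ⟨_, hl⟩, ?_⟩
    rw [← sim_omegaHom, ← map_mul]
    congr 1
    refine Subtype.ext ?_
    show g.1 = h.1 * (torus 1 l)⁻¹ * torus c (l * fun _ => c)
    refine hgh.trans ?_
    rw [show torus c (l * fun _ => c) = torus 1 l * torus c (fun _ => c) by rw [torus_mul, one_mul],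
      ← mul_assoc, inv_mul_cancel_right]
  have hτN : τ ∈ Subgroup.normalizer (G : Set (MulAut (Cfsg.POmega F ⇑Q₈))) := by
    refine Subgroup.mem_normalizer_fintype fun δ hδ => ?_
    obtain ⟨g, hg, rfl⟩ := hδ
    obtain ⟨c, l, k, e⟩ := hmem g hg
    obtain ⟨c', l', e'⟩ := hτT c l
    obtain ⟨k', hk'⟩ := pr_surjective (τ (pr Q₈ k))
    rw [e, show τ * (inner k * sim (⟨torus c l, c, hasMult_torus c l⟩ : GO Q₈)) * τ⁻¹ =
      τ * inner k * τ⁻¹ * (τ * sim (⟨torus c l, c, hasMult_torus c l⟩ : GO Q₈) * τ⁻¹) by group, e',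
      ← conj_mulEquiv, ← hk']
    refine SetLike.mem_coe.2 (G.mul_mem (hinn k') ?_)
    have hT' : (⟨torus c' l', c', hasMult_torus c' l'⟩ : GO Q₈) ∈ GP Q₈ := proper_torus le_rfl _ _
    exact Subgroup.mem_map_of_mem sim hT'
  have hΓN : Γ ≤ Subgroup.normalizer (G : Set (MulAut (Cfsg.POmega F ⇑Q₈))) := by
    intro β hβ
    obtain ⟨S, rfl⟩ := (mem_gamma_iff C).1 hβ
    exact Subgroup.mem_normalizer_fintype fun δ hδ => conj_mem_map_GP S hδ
  have hidx : Γ.index = 3 := by
    have h1 := Γ.index_mul_card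
    rw [card_mulAut_eight, ← hΓ] at h1
    exact Nat.eq_of_mul_eq_mul_right Nat.card_pos h1
  have hrel := Subgroup.relIndex_mul_index hΓN
  rw [hidx] at hrel
  rcases (Nat.dvd_prime Nat.prime_three).1 ⟨_, hrel.symm⟩ with h | h
  · exact absurd (Subgroup.relIndex_eq_one.1 h hτN) hτΓ
  · rw [h] at hrel
    exact Subgroup.index_eq_one.1 (by omega)

theorem invGP {m : ℕ} (hm : 4 ≤ m) : InvGP m F := by
  rcases eq_or_lt_of_le hm with rfl | h
  · exact invGP_four
  · exact invGP_of_five h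

end CfsgLib.AutPOmega
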