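import Cfsg.Agent.AutPOmega.Descent
import Mathlib.Algebra.Polynomial.SpecificDegree
import Mathlib.FieldTheory.IsAlgClosed.AlgebraicClosure
import Mathlib.RingTheory.AdjoinRoot

/-!
# Anisotropic binary forms and extensions of finite fields
-/

set_option autoImplicit false
set_option linter.unusedSectionVars false
set_option linter.style.haveILetI false

namespace CfsgLib.AutPOmega

open Polynomial

universe u

/-- A quadratic over `F` has a root in every quadratic extension. -/
theorem exists_root_of_finrank_two {F : Type*} [Field F] [Finite F] {K : Type*} [Field K] [Algebra F K]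
    (hfin : Module.finrank F K = 2) (a b : F) :
    ∃ t : K, t ^ 2 + algebraMap F K a * t + algebraMap F K b = 0 := by
  classical
  haveI := Fintype.ofFinite F
  haveI : Module.Finite F K := Module.finite_of_finrank_eq_succ hfin
  haveI : Finite K := Module.finite_of_finite F
  haveI := Fintype.ofFinite K
  let Kc := AlgebraicClosure K
  obtain ⟨t, ht⟩ : ∃ t : Kc, (X ^ 2 + C (algebraMap F Kc a) * X + C (algebraMap F Kc b)).IsRoot t := by
    refine IsAlgClosed.exists_root _ ?_
    rw [show (X : Kc[X]) ^ 2 + C (algebraMap F Kc a) * X + C (algebraMap F Kc b) =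
      C 1 * X ^ 2 + C (algebraMap F Kc a) * X + C (algebraMap F Kc b) by rw [map_one, one_mul],
      degree_quadratic one_ne_zero]
    decide
  simp only [IsRoot, eval_add, eval_pow, eval_X, eval_mul, eval_C] at ht
  set φ := FiniteField.frobeniusAlgHom F Kc with hφ
  have hroot : φ t = t ∨ φ t = -algebraMap F Kc a - t := by
    have h := congrArg φ ht
    simp only [map_add, map_pow, map_mul, map_zero, AlgHom.commutes] at h
    have h' : (φ t - t) * (φ t + t + algebraMap F Kc a) = 0 := by linear_combination h - ht
    rcases mul_eq_zero.1 h' with h1 | h1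
    · exact Or.inl (sub_eq_zero.1 h1)
    · exact Or.inr (by linear_combination h1)
  have htt : φ (φ t) = t := by
    rcases hroot with h | h
    · rw [h, h]
    · rw [h, map_sub, map_neg, AlgHom.commutes, h]; ring
  have hpow : t ^ Fintype.card K = t := by
    rw [Module.card_eq_pow_finrank (K := F) (V := K), hfin, pow_two, pow_mul]
    simpa [hφ, FiniteField.coe_frobeniusAlgHom] using htt
  have hmem : t ∈ Set.range (algebraMap K Kc) := by
    by_contra hnot
    have h1 : 1 < Fintype.card K := Fintype.one_lt_card
    set S : Finset Kc := insert t (Finset.univ.image (algebraMap K Kc)) with hS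
    have hcard : S.card = Fintype.card K + 1 := by
      rw [hS, Finset.card_insert_of_notMem (by
        simpa using fun x hx => hnot ⟨x, hx⟩),
        Finset.card_image_of_injective _ (algebraMap K Kc).injective, Finset.card_univ]
    have hle := Polynomial.card_le_degree_of_subset_roots
      (p := (X : Kc[X]) ^ Fintype.card K - X) (Z := S) fun x hx => by
        rw [Finset.mem_val] at hx
        rw [mem_roots (FiniteField.X_pow_card_sub_X_ne_zero Kc h1)]
        simp only [IsRoot, eval_sub, eval_pow, eval_X, sub_eq_zero]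
        rcases Finset.mem_insert.1 hx with rfl | hx
        · exact hpow
        · obtain ⟨y, -, rfl⟩ := Finset.mem_image.1 hx
          rw [← map_pow, FiniteField.pow_card]
    rw [hcard, FiniteField.X_pow_card_sub_X_natDegree_eq Kc h1] at hle
    omega
  obtain ⟨s, hs⟩ := hmem
  refine ⟨s, (algebraMap K Kc).injective ?_⟩
  rw [map_add, map_add, map_pow, map_mul, hs, map_zero, ← IsScalarTower.algebraMap_apply,
    ← IsScalarTower.algebraMap_apply, ht]

/-- An anisotropic binary form gives a quadratic extension. -/
theorem exists_quadratic_extension {F : Type u} [Field F] {a b : F}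
    (hab : ∀ z₁ z₂ : F, z₁ ^ 2 + a * z₁ * z₂ + b * z₂ ^ 2 = 0 → z₁ = 0 ∧ z₂ = 0) :
    ∃ (K : Type u) (_ : Field K) (_ : Algebra F K), Module.finrank F K = 2 := by
  set p : F[X] := C 1 * X ^ 2 + C a * X + C b with hp
  have hdeg : p.natDegree = 2 := natDegree_quadratic one_ne_zero
  have hmon : p.Monic := by
    rw [Monic, leadingCoeff, hdeg, hp]
    simp [coeff_X]
  have hirr : Irreducible p := by
    rw [hmon.irreducible_iff_roots_eq_zero_of_degree_le_three hdeg.ge (by omega),
      Multiset.eq_zero_iff_forall_notMem]
    intro x hx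
    rw [mem_roots hmon.ne_zero] at hx
    simp only [hp, IsRoot, eval_add, eval_mul, eval_C, eval_pow, eval_X] at hx
    exact one_ne_zero (hab x 1 (by linear_combination hx)).2
  haveI := Fact.mk hirr
  refine ⟨AdjoinRoot p, inferInstance, inferInstance, ?_⟩
  rw [(AdjoinRoot.powerBasis hirr.ne_zero).finrank, AdjoinRoot.powerBasis_dim, hdeg]

variable {F : Type*} [Field F]

/-- For `σ` of odd order the roots of a fixed quadratic are fixed. -/
theorem fixed_root {σ : F ≃+* F} (hodd : Odd (orderOf σ)) {a b t : F} (ha : σ a = a) (hb : σ b = b)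
    (ht : t ^ 2 + a * t + b = 0) : σ t = t := by
  have h := congrArg σ ht
  simp only [map_add, map_pow, map_mul, map_zero, ha, hb] at h
  have h' : (σ t - t) * (σ t + t + a) = 0 := by linear_combination h - ht
  rcases mul_eq_zero.1 h' with h1 | h1
  · exact sub_eq_zero.1 h1
  · have h2 : σ (σ t) = t := by
      rw [show σ t = -a - t by linear_combination h1, map_sub, map_neg, ha,
        show σ t = -a - t by linear_combination h1]
      ring
    have hev : ∀ k : ℕ, (σ ^ (2 * k) : F ≃+* F) t = t := fun k => by
      induction k with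
      | zero => rfl
      | succ k ih => rw [show 2 * (k + 1) = 2 * k + 1 + 1 by ring, pow_succ, pow_succ, RingAut.mul_apply,
          RingAut.mul_apply, h2, ih]
    obtain ⟨k, hk⟩ := hodd
    have h3 := pow_orderOf_eq_one σ
    rw [hk, pow_succ'] at h3
    have := congrArg (fun τ : F ≃+* F => τ t) h3
    simp only [RingAut.mul_apply, hev, RingAut.one_apply] at this
    exact this

/-- Anisotropic forms with coefficients in the small field stay so in odd degree. -/
theorem aniso_map {K : Type*} [Field K] {e : K →+* F} {σ : F ≃+* F} (he : IsFixedField e σ)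
    (hodd : Odd (orderOf σ)) {a b : K}
    (hab : ∀ z₁ z₂ : K, z₁ ^ 2 + a * z₁ * z₂ + b * z₂ ^ 2 = 0 → z₁ = 0 ∧ z₂ = 0) :
    ∀ z₁ z₂ : F, z₁ ^ 2 + e a * z₁ * z₂ + e b * z₂ ^ 2 = 0 → z₁ = 0 ∧ z₂ = 0 := by
  intro z₁ z₂ h
  by_cases hz : z₂ = 0
  · exact ⟨by simpa [hz] using h, hz⟩
  · obtain ⟨s, hs⟩ := (he (z₁ / z₂)).1 (fixed_root hodd (he.apply a) (he.apply b) (by
      field_simp
      linear_combination h))
    have h' : s ^ 2 + a * s * 1 + b * 1 ^ 2 = 0 := e.injective (by
      simp only [map_add, map_mul, map_pow, map_one, map_zero, hs, mul_one, one_pow]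
      field_simp
      linear_combination h)
    exact absurd (hab s 1 h').2 one_ne_zero

/-- An involution of the field cannot fix the coefficients of an anisotropic binary form. -/
theorem orderOf_ne_two [Finite F] {σ : F ≃+* F} {a b : F}
    (hab : ∀ z₁ z₂ : F, z₁ ^ 2 + a * z₁ * z₂ + b * z₂ ^ 2 = 0 → z₁ = 0 ∧ z₂ = 0)
    (ha : σ a = a) (hb : σ b = b) : orderOf σ ≠ 2 := by
  intro hσ
  haveI := Fintype.ofFinite F
  let K := CfsgLib.FixedField.fixedSub σ
  haveI : Fintype K := Fintype.ofFinite K
  have h1 := CfsgLib.FixedField.card_pow σ hσ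
  have h2 := Module.card_eq_pow_finrank (K := K) (V := F)
  rw [← Nat.card_eq_fintype_card, ← Nat.card_eq_fintype_card] at h2
  rw [← Nat.card_eq_fintype_card] at h1
  have hfin : Module.finrank K F = 2 :=
    Nat.pow_right_injective (Finite.one_lt_card (α := K)) (h2.symm.trans (by
      first | exact h1.symm | exact h1))
  obtain ⟨t, ht⟩ := exists_root_of_finrank_two hfin (⟨a, ha⟩ : K) ⟨b, hb⟩
  exact one_ne_zero (hab t 1 (by
    rw [one_pow, mul_one, mul_one]; exact ht)).2

end CfsgLib.AutPOmega
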