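import Cfsg.Agent.AutPOmega.Core
import Cfsg.Agent.AutPSL.Involution

/-!
# Spinor classes under extension of scalars
-/

set_option autoImplicit false
set_option linter.unusedSectionVars false
set_option linter.style.haveILetI false

namespace CfsgLib.AutPOmega

open Matrix Module CfsgLib.Spinor CfsgLib.Forms CfsgLib.Forms4

variable {K F : Type*} [Field K] [Field F] {ι : Type} [Fintype ι] [DecidableEq ι] {e : K →+* F}
  {σ : F ≃+* F} {Q₀ : QuadraticForm K (ι → K)} {Q : QuadraticForm F (ι → F)}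

/-- For `σ` of odd order a square of `F` in the small field is a square there. -/
theorem isSquare_of_isSquare_map (he : IsFixedField e σ) (hodd : Odd (orderOf σ)) {x : K}
    (h : IsSquare (e x)) : IsSquare x := by
  obtain ⟨s, hs⟩ := h
  have hσs : σ s * σ s = s * s := by rw [← map_mul, ← hs, he.apply]
  have hfix : σ s = s := by
    rcases mul_self_eq_mul_self_iff.1 hσs with h | h
    · exact h
    · have hiter : ∀ k : ℕ, (σ ^ k : F ≃+* F) s = (-1) ^ k * s := fun k => by
        induction k with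
        | zero => simp
        | succ k ih => rw [pow_succ', RingAut.mul_apply, ih, map_mul, map_pow, map_neg, map_one, h,
            pow_succ]; ring
      have h1 := hiter (orderOf σ)
      rw [pow_orderOf_eq_one, RingAut.one_apply, hodd.neg_one_pow, neg_one_mul] at h1
      rw [h]
      exact h1.symm
  obtain ⟨t, rfl⟩ := (he _).1 hfix
  exact ⟨t, e.injective (by rw [map_mul, ← hs])⟩

/-- For an involutory `σ` every element of the small field is a square in `F`. -/
theorem isSquare_map_of_order_two [Fintype F] (he : IsFixedField e σ) (hσ : orderOf σ = 2) (x : K) :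
    IsSquare (e x) := by
  obtain ⟨p, hp⟩ := CharP.exists F
  obtain ⟨f, hpp, hf⟩ := FiniteField.card F p
  haveI : Fact p.Prime := ⟨hpp⟩
  obtain ⟨-, hcard, hpow⟩ := CfsgLib.AutPSL.involution_eq_pow hf f.pos hσ
  by_cases hx : e x = 0
  · exact ⟨0, by rw [hx, mul_zero]⟩
  by_cases h2 : (2 : F) = 0
  · exact FiniteField.isSquare_of_char_two (by
      by_contra hne
      exact Ring.two_ne_zero hne h2) _
  · rw [FiniteField.isSquare_iff (fun h => h2 (by haveI := ringChar.eq_iff.1 h; exact CharTwo.two_eq_zero)) hx]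
    set q := p ^ ((f : ℕ) / 2) with hq
    have hq0 : 0 < q := pow_pos hpp.pos _
    have h1 : e x ^ (q - 1) = 1 := by
      apply mul_right_cancel₀ hx
      rw [one_mul, ← pow_succ, Nat.sub_add_cancel hq0, ← hpow, he.apply]
    have hodd : Odd q := by
      rcases Nat.even_or_odd q with he' | ho
      · exfalso
        exact h2 ((CfsgLib.Forms4.two_eq_zero_iff_even rfl).2 (by rw [hcard]; exact he'.mul_right q))
      · exact ho
    obtain ⟨k, hk⟩ := hodd
    rw [show Fintype.card F / 2 = (q - 1) * (k + 1) by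
      rw [hcard, hk, Nat.add_sub_cancel, show (2 * k + 1) * (2 * k + 1) = 2 * (2 * k * (k + 1)) + 1 by ring]
      omega, pow_mul, h1, one_pow]

variable [Finite F] [Finite K]

/-- An isometry of determinant one with nonsquare spinor norm. -/
theorem exists_det_one_nonsquare (h2 : (2 : K) ≠ 0) (hQ : (QuadraticMap.polarBilin Q₀).Nondegenerate)
    (hn : 2 ≤ Fintype.card ι) :
    ∃ (w : ↥(Cfsg.isometryGroup K ⇑Q₀)) (u v : ι → K), IsReflProd Q₀ w [u, v] ∧
      ¬ IsSquare (Q₀ u * Q₀ v) := by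
  haveI := Fintype.ofFinite K
  obtain ⟨α, hα⟩ := FiniteField.exists_nonsquare (F := K) (fun h => h2 (by
    haveI := ringChar.eq_iff.1 h; exact CharTwo.two_eq_zero))
  obtain ⟨u, hu⟩ := exists_value h2 hQ hn 1
  obtain ⟨v, hv⟩ := exists_value h2 hQ hn α
  have hu0 : Q₀ u ≠ 0 := by rw [hu]; exact one_ne_zero
  have hv0 : Q₀ v ≠ 0 := by rw [hv]; rintro rfl; exact hα ⟨0, by simp⟩
  refine ⟨reflIso Q₀ u hu0 * reflIso Q₀ v hv0, u, v,
    (IsReflProd.reflIso u hu0).mul (IsReflProd.reflIso v hv0), ?_⟩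
  rwa [hu, hv, one_mul]

theorem det_eq_one_of_pair {k : ↥(Cfsg.isometryGroup F ⇑Q)} {u v : ι → F} (h : IsReflProd Q k [u, v]) :
    (mat Q k).det = 1 := by
  rw [det_isReflProd h]; simp

theorem even_of_det_one (h2 : (2 : F) ≠ 0) {k : ↥(Cfsg.isometryGroup F ⇑Q)} {vs : List (ι → F)}
    (h : IsReflProd Q k vs) (hd : (mat Q k).det = 1) : Even vs.length := by
  rw [det_isReflProd h] at hd
  exact (neg_one_pow_eq_one_iff_even fun h' => h2 (by linear_combination -h')).1 hd

/-- With a nonsquare pair, `Ω` has index two in determinant one. -/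
theorem mem_omega_or_mul (h2 : (2 : F) ≠ 0) (hQ : (QuadraticMap.polarBilin Q).Nondegenerate)
    {k w : ↥(Cfsg.isometryGroup F ⇑Q)} {u v : ι → F} (hw : IsReflProd Q w [u, v])
    (hns : ¬ IsSquare (Q u * Q v)) (hd : (mat Q k).det = 1) :
    k ∈ Cfsg.Omega F ⇑Q ∨ k * w ∈ Cfsg.Omega F ⇑Q := by
  haveI := Fintype.ofFinite F
  obtain ⟨vs, hvs⟩ := exists_isReflProd h2 hQ k
  have hev := even_of_det_one h2 hvs hd
  by_cases hsq : IsSquare (vs.map fun x => Q x).prod
  · exact Or.inl ((mem_omega_iff h2 hQ hvs).2 ⟨hev, hsq⟩)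
  · refine Or.inr ((mem_omega_iff h2 hQ (hvs.mul hw)).2 ⟨?_, ?_⟩)
    · rw [List.length_append]
      simpa [parity_simps] using hev
    · rw [List.map_append, List.prod_append]
      refine isSquare_mul_of_not_isSquare hsq ?_
      simpa using hns

/-- For `σ` of odd order every determinant-one isometry is in `Ω` times the small group. -/
theorem IsExt.exists_omega_mul (hE : IsExt e Q₀ Q) (he : IsFixedField e σ) (hodd : Odd (orderOf σ))
    (h2 : (2 : K) ≠ 0) (hQ₀ : (QuadraticMap.polarBilin Q₀).Nondegenerate) (hn : 2 ≤ Fintype.card ι)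
    {k : ↥(Cfsg.isometryGroup F ⇑Q)} (hd : (mat Q k).det = 1) :
    ∃ k₀ : ↥(Cfsg.isometryGroup K ⇑Q₀), (mat Q₀ k₀).det = 1 ∧ k * hE.isoHom k₀ ∈ Cfsg.Omega F ⇑Q := by
  obtain ⟨w, u, v, hw, hns⟩ := exists_det_one_nonsquare h2 hQ₀ hn
  have hw' := hE.isReflProd hw
  have hns' : ¬ IsSquare (Q (fun i => e (u i)) * Q (fun i => e (v i))) := by
    rw [hE, hE, ← map_mul]
    exact fun h => hns (isSquare_of_isSquare_map he hodd h)
  rcases mem_omega_or_mul (fun h => h2 (e.injective (by rw [map_ofNat, h, map_zero])))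
      (hE.nondegenerate hQ₀) hw' hns' hd with h | h
  · exact ⟨1, by rw [mat_one, Matrix.det_one], by rwa [map_one, mul_one]⟩
  · exact ⟨w, det_eq_one_of_pair hw, h⟩

/-- For an involutory `σ` the small special orthogonal group lies in `Ω`. -/
theorem IsExt.isoHom_mem_omega_of_order_two (hE : IsExt e Q₀ Q) (he : IsFixedField e σ)
    (hσ : orderOf σ = 2) (h2 : (2 : K) ≠ 0) (hQ₀ : (QuadraticMap.polarBilin Q₀).Nondegenerate)
    {k : ↥(Cfsg.isometryGroup K ⇑Q₀)} (hd : (mat Q₀ k).det = 1) : hE.isoHom k ∈ Cfsg.Omega F ⇑Q := by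
  haveI := Fintype.ofFinite F
  obtain ⟨vs, hvs⟩ := exists_isReflProd h2 hQ₀ k
  have hev := even_of_det_one h2 hvs hd
  refine (mem_omega_iff (fun h => h2 (e.injective (by rw [map_ofNat, h, map_zero])))
    (hE.nondegenerate hQ₀) (hE.isReflProd hvs)).2 ⟨by rwa [List.length_map], ?_⟩
  rw [List.map_map, show ((fun x => Q x) ∘ fun (v : ι → K) i => e (v i)) = e ∘ fun v => Q₀ v from
    funext fun v => hE v, ← List.map_map, ← map_list_prod]
  exact isSquare_map_of_order_two he hσ _

end CfsgLib.AutPOmega
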