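import Cfsg.Agent.AutPOmega.Classes
import Cfsg.Agent.AutPOmega.Quadratic
import Cfsg.Agent.AutPOmega.SpinorClass

/-!
# Even dimension: descent, conjugacy and splitting of field automorphism classes
-/

set_option autoImplicit false
set_option linter.unusedSectionVars false
set_option linter.style.haveILetI false

namespace CfsgLib.AutPOmega

open Matrix Module CfsgLib.Spinor CfsgLib.Forms CfsgLib.Forms4
open CfsgLib.AutPSL (mapGL twNorm)

variable {F : Type*} [Field F] [Finite F] {K : Type*} [Field K] [Finite K] {e : K →+* F}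
  {σ : F ≃+* F} {ι κ : Type} [Fintype ι] [DecidableEq ι] [Fintype κ] [DecidableEq κ]

theorem map_mulVec_rect {α β : Type} [Fintype β] (M : Matrix α β K) (v : β → K) :
    M.map e *ᵥ (fun i => e (v i)) = fun i => e ((M *ᵥ v) i) :=
  funext fun i => (e.map_mulVec M v i).symm

/-- Similarity survives extension of scalars. -/
theorem Similar.ext {Q₀ : QuadraticForm K (ι → K)} {X₀ : QuadraticForm K (κ → K)}
    {Q : QuadraticForm F (ι → F)} {X : QuadraticForm F (κ → F)} (hE : IsExt e Q₀ Q) (hX : IsExt e X₀ X)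
    (h : Similar Q₀ X₀) : Similar Q X := by
  obtain ⟨L, c, hL⟩ := h
  set M := LinearMap.toMatrix' L.toLinearMap
  set N := LinearMap.toMatrix' L.symm.toLinearMap
  have hMN : M.map e * N.map e = 1 := by
    rw [← Matrix.map_mul, ← LinearMap.toMatrix'_comp]
    simp
  have hNM : N.map e * M.map e = 1 := by
    rw [← Matrix.map_mul, ← LinearMap.toMatrix'_comp]
    simp
  let L' : (κ → F) ≃ₗ[F] (ι → F) := LinearEquiv.ofLinear (Matrix.toLin' (M.map e)) (Matrix.toLin' (N.map e))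
    (by rw [← Matrix.toLin'_mul, hMN, Matrix.toLin'_one])
    (by rw [← Matrix.toLin'_mul, hNM, Matrix.toLin'_one])
  have hrat : ∀ v : κ → K, Q (L' fun i => e (v i)) = e c * X fun i => e (v i) := fun v => by
    show Q (M.map e *ᵥ _) = _
    rw [map_mulVec_rect, show M *ᵥ v = L v from LinearMap.toMatrix'_mulVec _ v, hE, hL, map_mul, hX]
  have key : Q.comp L'.toLinearMap = e c • X := by
    refine form_ext (fun i => ?_) fun i j => ?_
    · rw [← map_single_one (e := e)]; exact hrat _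
    · have hs : (Pi.single i 1 + Pi.single j 1 : κ → F) =
          fun k => e ((Pi.single i (1 : K) + Pi.single j 1 : κ → K) k) := by
        rw [← map_single_one (e := e) i, ← map_single_one (e := e) j]; funext k; simp
      rw [hs]; exact hrat _
  exact ⟨L', Units.map (e : K →* F) c, fun w => congrArg (fun q : QuadraticForm F (κ → F) => q w) key⟩

variable {Q : QuadraticForm F (ι → F)} {Q₀ : QuadraticForm K (ι → K)}

/-- The form a descended form extends to is similar to the original one. -/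
theorem exists_ext_of_descent {h : GL ι F} {b : Fˣ} {Q₁ : QuadraticForm K (ι → K)}
    (hval : ∀ v : ι → K, Q ((h : Matrix ι ι F) *ᵥ fun i => e (v i)) = (b : F) * e (Q₁ v)) :
    ∃ Q' : QuadraticForm F (ι → F), IsExt e Q₁ Q' ∧ Similar Q Q' := by
  refine ⟨(b : F)⁻¹ • Q.comp (Matrix.mulVecLin (h : Matrix ι ι F)), fun v => ?_, ?_⟩
  · simp [hval]
  · refine ⟨LinearEquiv.ofLinear (Matrix.toLin' h.1) (Matrix.toLin' (h⁻¹ : GL ι F).1)
      (by rw [← Matrix.toLin'_mul, ← Units.val_mul, mul_inv_cancel, Units.val_one, Matrix.toLin'_one])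
      (by rw [← Matrix.toLin'_mul, ← Units.val_mul, inv_mul_cancel, Units.val_one, Matrix.toLin'_one]),
      b, fun v => ?_⟩
    simp

/-- Properness is seen in the bigger field. -/
theorem IsExt.proper_iff_map (hE : IsExt e Q₀ Q) (C : Ctx Q) (C₀ : Ctx Q₀)
    (hev : Even (Fintype.card ι)) {g : GL ι K} (hg : g ∈ GO Q₀) :
    Proper Q (Matrix.GeneralLinearGroup.map e g) ↔ Proper Q₀ g := by
  refine ⟨fun h => ?_, hE.proper_map⟩
  by_contra hn
  obtain ⟨P⟩ := C₀.pairs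
  have hv : Q₀ (P.e + P.f) ≠ 0 := by rw [QuadraticMap.map_add (⇑Q₀), P.qe, P.qf, P.ef]; simp
  have hv' : Q (fun i => e ((P.e + P.f) i)) ≠ 0 := by rw [hE]; exact (map_ne_zero_iff e e.injective).2 hv
  have h1 := hE.proper_map (C₀.proper_mul_reflIso hev hg hn _ hv)
  have hR : Matrix.GeneralLinearGroup.map e (reflIso Q₀ _ hv).1 = (reflIso Q _ hv').1 := by
    refine Units.ext ?_
    show (mat Q₀ (reflIso Q₀ _ hv)).map e = mat Q (reflIso Q _ hv')
    rw [mat_reflIso, mat_reflIso, hE.reflectionMatrix]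
  rw [map_mul, hR] at h1
  have ha : (⟨_, hE.map_mem_GO hg⟩ : GO Q) ∈ GP Q := mem_GP_iff.2 h
  have hb : (⟨_, hE.map_mem_GO hg⟩ : GO Q) * (⟨_, isometry_mem_GO (reflIso Q _ hv')⟩ : GO Q) ∈ GP Q := by
    rw [mem_GP_iff, Subgroup.coe_mul]; exact h1
  exact C.not_proper_reflIso _ hv' (mem_GP_iff.1 ((Subgroup.mul_mem_cancel_left (GP Q) ha).1 hb))

/-- The model of proper similitudes. -/
theorem model_GP (hE : IsExt e Q₀ Q) (he : IsFixedField e σ) (C : Ctx Q) (C₀ : Ctx Q₀)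
    (hev : Even (Fintype.card ι)) : Model hE σ (GP Q) (GP Q₀) where
  fixed := he
  ctx := C
  ctx₀ := C₀
  scalar_mem := fun u => proper_scalar hev u
  mem_iff := fun g₀ => hE.proper_iff_map C C₀ hev g₀.2
  omega_mem := fun k => proper_omega k

/-- A proper element of order `r` over the field automorphism is conjugate to it, provided every
descended form is similar to `Q₀`. -/
theorem IsExt.exists_conj_fld (hE : IsExt e Q₀ Q) (he : IsFixedField e σ) (C : Ctx Q) (C₀ : Ctx Q₀)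
    (hev : Even (Fintype.card ι)) {r : ℕ} (hσ : orderOf σ = r) (hr0 : 0 < r) (hR : Rat Q σ) (a : GO Q)
    (hsim : ∀ (h : GL ι F) (b : Fˣ) (u : Fˣ) (Q₁ : QuadraticForm K (ι → K)),
      a.1 = Matrix.GeneralLinearGroup.scalar ι u * (h * (mapGL σ h)⁻¹) →
      (QuadraticMap.polarBilin Q₁).Nondegenerate →
      (∀ v : ι → K, Q ((h : Matrix ι ι F) *ᵥ fun i => e (v i)) = (b : F) * e (Q₁ v)) → Similar Q₁ Q₀)
    (hpow : (sim a * fld hR) ^ r = 1) :
    ∃ g ∈ GP Q, sim a * fld hR = sim g * fld hR * (sim g)⁻¹ := by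
  obtain ⟨d, hd⟩ := twNorm_scalar_of_pow C hR a hσ hpow
  obtain ⟨u, h, b, Q₁, hah, hnd, hval⟩ := exists_descent he hR C.nondeg C.exists_value_one hσ hr0 a.2 hd
  obtain ⟨g, hg, hgg⟩ := hE.exists_coboundary he hval (hsim h b u Q₁ hah hnd hval)
  obtain ⟨g', hg', hp', hgg'⟩ : ∃ g' : GL ι F, g' ∈ GO Q ∧ Proper Q g' ∧
      h * (mapGL σ h)⁻¹ = g' * (mapGL σ g')⁻¹ := by
    by_cases hp : Proper Q g
    · exact ⟨g, hg, hp, hgg⟩
    obtain ⟨P⟩ := C₀.pairs
    have hv : Q₀ (P.e + P.f) ≠ 0 := by rw [QuadraticMap.map_add (⇑Q₀), P.qe, P.qf, P.ef]; simp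
    set R := Matrix.GeneralLinearGroup.map e (reflIso Q₀ _ hv).1 with hRdef
    have hRG : R ∈ GO Q := hE.map_mem_GO (isometry_mem_GO _)
    haveI := Fintype.ofFinite F
    have hidx := C.index_GP hev
    have hRn : ¬ Proper Q R := by
      rw [hRdef, hE.proper_iff_map C C₀ hev (isometry_mem_GO _)]
      exact C₀.not_proper_reflIso _ hv
    refine ⟨g * R, mul_mem hg hRG, ?_, ?_⟩
    · exact (Subgroup.mul_mem_iff_of_index_two hidx (a := (⟨g, hg⟩ : GO Q))
        (b := (⟨R, hRG⟩ : GO Q))).2 (iff_of_false hp hRn)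
    · rw [hgg, map_mul, hRdef, IsExt.mapGL_map he]
      group
  exact ⟨⟨g', hg'⟩, hp', sim_mul_fld_eq_conj C hR (u := u) (by rw [hah, hgg'])⟩

/-- With odd `r` (or even characteristic) every multiplier is a square times a small one. -/
theorem exists_sq_mul_map (he : IsFixedField e σ) (h : (2 : F) = 0 ∨ Odd (orderOf σ)) (c : Fˣ) :
    ∃ (s : Fˣ) (c₀ : Kˣ), c = s * s * Units.map (e : K →* F) c₀ := by
  haveI := Fintype.ofFinite F
  haveI := Fintype.ofFinite K
  have key : ∀ c₀ : Kˣ, IsSquare ((c : F) * (e c₀)⁻¹) →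
      ∃ (s : Fˣ) (c₁ : Kˣ), c = s * s * Units.map (e : K →* F) c₁ := by
    rintro c₀ ⟨s, hs⟩
    have he0 : e c₀ ≠ 0 := (map_ne_zero_iff e e.injective).2 c₀.ne_zero
    have hs0 : s ≠ 0 := fun h0 => c.ne_zero (by
      rw [h0, mul_zero, mul_eq_zero] at hs
      exact hs.resolve_right (inv_ne_zero he0))
    refine ⟨Units.mk0 s hs0, c₀, Units.ext ?_⟩
    rw [Units.val_mul, Units.val_mul, Units.val_mk0, Units.coe_map, MonoidHom.coe_coe, ← hs,
      inv_mul_cancel_right₀ he0]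
  by_cases h2 : (2 : F) = 0
  · haveI : CharP F 2 := CharTwo.of_one_ne_zero_of_two_eq_zero one_ne_zero h2
    exact key 1 (FiniteField.isSquare_of_char_two (ringChar.eq F 2) _)
  · by_cases hc : IsSquare (c : F)
    · exact key 1 (by simpa using hc)
    · have h2K : (2 : K) ≠ 0 := fun h0 => h2 (by rw [← map_ofNat e 2, h0, map_zero])
      obtain ⟨α, hα⟩ := FiniteField.exists_nonsquare (F := K) (fun h => h2K (by
        haveI := ringChar.eq_iff.1 h; exact CharTwo.two_eq_zero))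
      have hα0 : α ≠ 0 := fun h0 => hα ⟨0, by rw [h0, mul_zero]⟩
      refine key (Units.mk0 α hα0) ?_
      refine isSquare_mul_of_not_isSquare hc fun hsq => hα (isSquare_of_isSquare_map he
        (h.resolve_left h2) ?_)
      rw [Units.val_mk0] at hsq
      have := hsq.inv
      rwa [inv_inv] at this

/-- With odd `r` or in characteristic two the class is one inner class. -/
theorem IsExt.splitClassCount_one (hE : IsExt e Q₀ Q) (he : IsFixedField e σ) (C : Ctx Q) (C₀ : Ctx Q₀)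
    (hev : Even (Fintype.card ι)) {r : ℕ} (hσ : orderOf σ = r) (hr0 : 0 < r)
    (hr : (2 : F) = 0 ∨ Odd r) (hmult : ∀ c₀ : Kˣ, ∃ g : GL ι K, HasMult Q₀ g c₀) :
    Cfsg.splitClassCount ((GP Q).map sim) (Cfsg.Inn (Cfsg.POmega F ⇑Q))
      (fld (hE.rat he.apply)) = 1 := by
  have M := model_GP hE he C C₀ hev
  rw [show fld (hE.rat he.apply) = fld M.rat from rfl, M.splitClassCount_eq hσ hr0, Subgroup.index_eq_one,
    Subgroup.subgroupOf_eq_top]
  intro g hg
  obtain ⟨c, hc, -⟩ := show Proper Q g.1 from hg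
  obtain ⟨s, c₀, hcs⟩ := exists_sq_mul_map he (hσ ▸ hr) c
  obtain ⟨g₀, hg₀, hp₀, hc₀⟩ : ∃ g₀ : GL ι K, g₀ ∈ GO Q₀ ∧ Proper Q₀ g₀ ∧ HasMult Q₀ g₀ c₀ := by
    obtain ⟨g₀, h₀⟩ := hmult c₀
    by_cases hp : Proper Q₀ g₀
    · exact ⟨g₀, ⟨c₀, h₀⟩, hp, h₀⟩
    obtain ⟨P⟩ := C₀.pairs
    have hv : Q₀ (P.e + P.f) ≠ 0 := by rw [QuadraticMap.map_add (⇑Q₀), P.qe, P.qf, P.ef]; simp
    refine ⟨g₀ * (reflIso Q₀ _ hv).1, mul_mem ⟨c₀, h₀⟩ (isometry_mem_GO _),
      C₀.proper_mul_reflIso hev ⟨c₀, h₀⟩ hp _ hv, ?_⟩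
    simpa using h₀.mul (HasMult.isometry (reflIso Q₀ _ hv))
  set Z : GO Q := ⟨_, scalar_mem_GO s⟩ with hZ
  set G₁ : GO Q := hE.goHom ⟨g₀, hg₀⟩ with hG₁
  have h1 : HasMult Q (Z⁻¹ * g * G₁⁻¹).1 1 := by
    have hG : HasMult Q G₁.1 (Units.map (e : K →* F) c₀) := fun v => hE.hasMult hc₀ v
    have := ((HasMult.scalar (Q := Q) s).inv.mul hc).mul hG.inv
    rwa [hcs, inv_mul_cancel_left, mul_inv_cancel] at this
  set k : ↥(Cfsg.isometryGroup F ⇑Q) := ⟨_, h1.mem_isometry⟩ with hk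
  have hkp : Proper Q k.1 := show (Z⁻¹ * g * G₁⁻¹ : GO Q) ∈ GP Q from
    mul_mem (mul_mem (inv_mem (M.scalar_mem s)) hg) (inv_mem ((M.mem_iff _).2 hp₀))
  have hk' := (proper_isometry_iff C.exists_value_one k).1 hkp
  obtain ⟨k₀, hk₀p, hk₀⟩ : ∃ k₀ : ↥(Cfsg.isometryGroup K ⇑Q₀), Proper Q₀ k₀.1 ∧
      k * hE.isoHom k₀ ∈ Cfsg.Omega F ⇑Q := by
    by_cases h2 : (2 : F) = 0
    · exact ⟨1, (GP Q₀).one_mem, by rw [map_one, mul_one]; exact hk'.2 h2⟩
    · have h2K : (2 : K) ≠ 0 := fun h0 => h2 (by rw [← map_ofNat e 2, h0, map_zero])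
      obtain ⟨k₀, hd, hmem⟩ := hE.exists_omega_mul he (hσ ▸ hr.resolve_left h2) h2K C₀.nondeg
        (by have := C.card_ge; omega) (hk'.1 h2)
      exact ⟨k₀, (proper_isometry_iff C₀.exists_value_one k₀).2 ⟨fun _ => hd, fun h => absurd h h2K⟩, hmem⟩
  have hdec : g = Z * (omegaHom Q ⟨_, hk₀⟩ * (hE.goHom ⟨k₀.1, isometry_mem_GO k₀⟩)⁻¹) * G₁ := by
    refine Subtype.ext ?_
    show g.1 = Z.1 * ((k.1 * (hE.isoHom k₀).1) * (Matrix.GeneralLinearGroup.map e k₀.1)⁻¹) * G₁.1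
    rw [show (hE.isoHom k₀).1 = Matrix.GeneralLinearGroup.map e k₀.1 from rfl, mul_inv_cancel_right]
    simp only [hk, Subgroup.coe_mul, Subgroup.coe_inv]
    group
  rw [hdec]
  refine mul_mem (mul_mem (Subgroup.mem_sup_right (Subgroup.subset_closure ⟨s, rfl⟩)) (mul_mem
    (Subgroup.mem_sup_left (Subgroup.mem_sup_left ⟨_, rfl⟩))
    (inv_mem (Subgroup.mem_sup_left (Subgroup.mem_sup_right ⟨_, hk₀p, rfl⟩)))))
    (Subgroup.mem_sup_left (Subgroup.mem_sup_right ⟨_, hp₀, rfl⟩))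

end CfsgLib.AutPOmega
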