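import Cfsg.Agent.AutPOmega.Main

/-!
# `Aut(PΩ(Q))` is the group of semisimilarities
-/

set_option autoImplicit false
set_option linter.unusedSectionVars false
set_option linter.style.haveILetI false

namespace CfsgLib.AutPOmega

open Matrix Module CfsgLib.Spinor CfsgLib.Forms CfsgLib.Forms4

variable {F : Type*} [Field F] [Finite F] {ι : Type} [Fintype ι] [DecidableEq ι]
  {Q : QuadraticForm F (ι → F)} {β : MulAut (Cfsg.POmega F ⇑Q)}

set_option quotPrecheck false in
local notation "B" => QuadraticMap.polar (DFunLike.coe Q)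

/-- A bijective semilinear map with the right effect on `Q` is a semisimilarity. -/
theorem exists_semi_of_fn {σ : F ≃+* F} (c : Fˣ) (φ : (ι → F) → (ι → F))
    (hadd : ∀ u v, φ (u + v) = φ u + φ v) (hsmul : ∀ (t : F) v, φ (t • v) = σ t • φ v)
    (hinj : ∀ v, φ v = 0 → v = 0) (hq : ∀ v, Q (φ v) = (c : F) * σ (Q v)) :
    ∃ S : Semi Q, S.σ = σ ∧ S.c = c ∧ ∀ v, S.fn v = φ v := by
  let L : (ι → F) →ₗ[F] (ι → F) :=
    { toFun := fun v => φ fun i => σ.symm (v i)
      map_add' := fun u v => by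
        rw [← hadd]; congr 1; funext i; simp
      map_smul' := fun t v => by
        have e : (fun i => σ.symm ((t • v) i)) = σ.symm t • fun i => σ.symm (v i) := by
          funext i; simp
        rw [e, hsmul, RingEquiv.apply_symm_apply, RingHom.id_apply] }
  have hL : Function.Injective L := by
    rw [← LinearMap.ker_eq_bot]
    refine LinearMap.ker_eq_bot'.2 fun v hv => ?_
    funext i
    have := congrFun (hinj _ hv) i
    simpa using this
  have hb : Function.Bijective L := ⟨hL, LinearMap.surjective_of_injective hL⟩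
  let M := LinearEquiv.ofBijective L hb
  let g : GL ι F := ⟨LinearMap.toMatrix' M.toLinearMap, LinearMap.toMatrix' M.symm.toLinearMap,
    by rw [← LinearMap.toMatrix'_comp, LinearEquiv.comp_coe, LinearEquiv.symm_trans_self]; simp,
    by rw [← LinearMap.toMatrix'_comp, LinearEquiv.comp_coe, LinearEquiv.self_trans_symm]; simp⟩
  have hg : ∀ v : ι → F, (g : Matrix ι ι F) *ᵥ (fun i => σ (v i)) = φ v := fun v => by
    show LinearMap.toMatrix' M.toLinearMap *ᵥ _ = _
    rw [← Matrix.toLin'_apply, Matrix.toLin'_toMatrix']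
    show φ (fun i => σ.symm (σ (v i))) = φ v
    simp
  exact ⟨⟨g, σ, c, fun v => by rw [hg, hq]⟩, rfl, rfl, hg⟩

/-- The elements fixing every singular point are central. -/
theorem Ctx.center_of_fix (C : Ctx Q) {k : OG Q}
    (h : ∀ x, x ≠ 0 → Q x = 0 → k ∈ stab Q x) : k ∈ Subgroup.center (OG Q) := by
  obtain ⟨P⟩ := C.pairs
  let N : Subgroup (OG Q) := ⨅ (x : ι → F) (_ : x ≠ 0) (_ : Q x = 0), stab Q x
  have hN : ∀ {g}, g ∈ N ↔ ∀ x, x ≠ 0 → Q x = 0 → g ∈ stab Q x := by
    simp [N, Subgroup.mem_iInf]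
  haveI : N.Normal := ⟨fun n hn g => hN.2 fun x hx0 hx => by
    rw [← app_app_inv g x, conj_mem_stab_iff]
    exact hN.1 hn _ (app_ne_zero _ hx0) (by rw [quad_app, hx])⟩
  rcases TwoPairs.normal_le_center_or_eq_top C.nondeg C.five P.toTwoPairs N with hc | hc
  · exact hc (hN.2 h)
  · exfalso
    have hf0 : P.f ≠ 0 := fun h => one_ne_zero (α := F) (by
      rw [← P.ef, h, QuadraticMap.polar_zero_right])
    obtain ⟨g, t, ht, hg⟩ := C.exists_move P.e_ne_zero P.qe hf0 P.qf
    obtain ⟨s, -, hs⟩ := hN.1 (hc ▸ Subgroup.mem_top g) P.e P.e_ne_zero P.qe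
    rw [hg] at hs
    have := congrArg (B P.e) hs
    simp [QuadraticMap.polar_smul_right, P.ef, P.ee, ht] at this

/-- An automorphism fixing all singular points is trivial. -/
theorem Ctx.eq_one_of_sends_self (p : ℕ) [Fact p.Prime] [CharP F p] (C : Ctx Q)
    (h : ∀ x, x ≠ 0 → Q x = 0 → Sends β x x) : β = 1 := by
  refine MulEquiv.ext fun y => ?_
  obtain ⟨k, rfl⟩ := pr_surjective y
  rw [MulAut.one_apply]
  obtain ⟨k', hk'⟩ := pr_surjective (β (pr Q k))
  rw [← hk']
  refine QuotientGroup.eq.2 (C.center_of_fix fun x hx0 hx => ?_)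
  have hkx0 := app_ne_zero k hx0
  have hkx : Q (app k x) = 0 := by rw [quad_app, hx]
  have e : β * inner k * β⁻¹ = inner k' := MulEquiv.ext fun z => by
    simp only [MulAut.mul_apply, MulAut.conj_apply, map_mul, map_inv, MulAut.apply_inv_self, hk']
  have h1 : Sends (inner k') x (app k x) := e ▸
    (((h x hx0 hx).symm C).mul (C.sends_inner k x)).mul (h _ hkx0 hkx)
  obtain ⟨t, ht⟩ := Sends.unique p C hkx0 hkx h1 (C.sends_inner k' x)
  have ht0 : t ≠ 0 := fun h0 => app_ne_zero k' hx0 (by rw [ht, h0, zero_smul])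
  refine ⟨t⁻¹, inv_ne_zero ht0, app_injective k' ?_⟩
  rw [← app_mul, mul_inv_cancel_left, app_smul, ht, inv_smul_smul₀ ht0]

theorem Semi.fn_zero' (S : Semi Q) : S.fn 0 = 0 := by
  simpa only [map_zero, zero_smul] using S.fn_smul 0 0

theorem Semi.fn_ne_zero (S : Semi Q) {v : ι → F} (hv : v ≠ 0) : S.fn v ≠ 0 := fun h =>
  hv (S.fn_injective (h.trans S.fn_zero'.symm))

theorem Semi.ptPres (C : Ctx Q) (S : Semi Q) : PtPres S.aut := fun x hx0 hx =>
  ⟨S.fn x, S.fn_ne_zero hx0, by rw [fn, S.quad, hx, map_zero, mul_zero], S.sends C x⟩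

theorem Semi.ptPres_inv (C : Ctx Q) (S : Semi Q) : PtPres S.aut⁻¹ := fun y hy0 hy => by
  obtain ⟨x, rfl⟩ := S.fn_surjective y
  refine ⟨x, fun h => hy0 (by rw [h, S.fn_zero']), ?_, (S.sends C x).symm C⟩
  rw [fn, S.quad, mul_eq_zero, map_eq_zero] at hy
  exact hy.resolve_left S.c.ne_zero

theorem Ctx.ptPres_inner (C : Ctx Q) (k : OG Q) : PtPres (inner k) := fun x hx0 hx =>
  ⟨app k x, app_ne_zero k hx0, by rw [quad_app, hx], C.sends_inner k x⟩

/-- An automorphism fixing `e`, `f` and the root group of `e` fixes all singular points. -/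
theorem ThreePairs.sends_self_of_fix (p : ℕ) [Fact p.Prime] [CharP F p] (C : Ctx Q)
    (hT : PtPres β) (P : ThreePairs Q) (he : Sends β P.e P.e) (hf : Sends β P.f P.f)
    (hroot : ∀ v, β (pr Q (P.rootE C v)) = pr Q (P.rootE C v)) {x : ι → F} (hx0 : x ≠ 0)
    (hx : Q x = 0) : Sends β x x := by
  have hfar : ∀ a, P.InW a → Sends β ((-Q a) • P.e + P.f + a) ((-Q a) • P.e + P.f + a) := by
    intro a ha
    have hEf : app (P.rootE C a) P.f = (-Q a) • P.e + P.f + a := by
      have := P.app_eichG_f C ha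
      simpa only [ThreePairs.rootE, P.proj_of_inW ha] using this
    rw [← hEf]
    have e : inner (P.rootE C a) * β * (inner (P.rootE C a))⁻¹ = β := by
      rw [mul_inv_eq_iff_eq_mul]
      exact MulEquiv.ext fun z => by
        simp only [MulAut.mul_apply, MulAut.conj_apply, map_mul, map_inv, hroot]
    have := (((C.sends_inner (P.rootE C a) P.f).symm C).mul hf).mul (C.sends_inner (P.rootE C a) P.f)
    rwa [← mul_assoc, e] at this
  have hnear : ∀ y, Q y = 0 → B P.e y ≠ 0 → Sends β y y := by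
    intro y hy hne
    set μ := B P.e y with hμ
    have hr : P.InW (μ⁻¹ • P.proj y) := P.inW_smul (P.inW_proj y) _
    have hd := P.decomp y
    have hq := P.quad_decomp (B P.f y) μ (P.inW_proj y)
    rw [hμ, ← hd, hy, ← hμ] at hq
    have ey : y = μ • ((-Q (μ⁻¹ • P.proj y)) • P.e + P.f + μ⁻¹ • P.proj y) := by
      conv_lhs => rw [hd, ← hμ]
      rw [QuadraticMap.map_smul, eq_neg_of_add_eq_zero_right hq.symm, smul_add, smul_add, smul_smul,
        smul_smul, mul_inv_cancel₀ hne, one_smul, smul_eq_mul]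
      congr 3
      field_simp
    rw [ey]
    refine sends_smul_right hne ?_
    rw [Sends, stab_smul hne]
    exact hfar _ hr
  by_cases hex : B P.e x ≠ 0
  · exact hnear x hx hex
  push Not at hex
  set r := P.proj x with hr
  have hrW : P.InW r := P.inW_proj x
  have hd := P.decomp x
  rw [hex, zero_smul, add_zero, ← hr] at hd
  by_cases hr0 : r = 0
  · rw [hr0, add_zero] at hd
    have hne : B P.f x ≠ 0 := fun h => hx0 (by rw [hd, h, zero_smul])
    rw [hd, Sends, stab_smul hne]
    exact he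
  obtain ⟨x', hx'0, hx', hs⟩ := hT x hx0 hx
  have hex' : B P.e x' = 0 :=
    C.perp_of_sends p P.e_ne_zero P.qe P.e_ne_zero P.qe hx0 hx hx'0 hx' he hs hex
  set r' := P.proj x' with hr'
  have hr'W : P.InW r' := P.inW_proj x'
  have hd' := P.decomp x'
  rw [hex', zero_smul, add_zero, ← hr'] at hd'
  set l := B P.f x
  set l' := B P.f x'
  have key : ∀ a, P.InW a → B a r = -l → B a r' = -l' := by
    intro a ha hal
    set y := (-Q a) • P.e + P.f + a with hy
    have hyq : Q y = 0 := by
      have := P.quad_decomp (-Q a) 1 ha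
      rwa [one_smul, mul_one, neg_add_cancel] at this
    have hey : B P.e y = 1 := by
      simp [hy, QuadraticMap.polar_add_right, QuadraticMap.polar_smul_right, P.ee, P.ef, ha.1]
    have hy0 : y ≠ 0 := fun h => by
      rw [h, QuadraticMap.polar_zero_right] at hey; exact zero_ne_one hey
    have hyv : ∀ (m : F) z, P.InW z → B y (m • P.e + z) = m + B a z := by
      intro m z hz
      simp [hy, QuadraticMap.polar_add_left, QuadraticMap.polar_add_right,
        QuadraticMap.polar_smul_left, QuadraticMap.polar_smul_right, P.ee, P.fe, hz.1, hz.2,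
        QuadraticMap.polar_comm (⇑Q) a P.e, ha.1]
    have h := C.perp_of_sends p hy0 hyq hy0 hyq hx0 hx hx'0 hx' (hfar a ha) hs (by
      rw [hd, hyv _ _ hrW, hal, add_neg_cancel])
    rw [hd', hyv _ _ hr'W] at h
    exact eq_neg_of_add_eq_zero_right h
  obtain ⟨w, hw, hwr⟩ : ∃ w, P.InW w ∧ B w r = 1 := by
    by_contra hc
    push Not at hc
    refine hr0 (P.eq_zero_of_inW C hrW fun w hw => ?_)
    by_contra hne
    refine hc ((B w r)⁻¹ • w) (P.inW_smul hw _) ?_
    rw [QuadraticMap.polar_smul_left, smul_eq_mul, inv_mul_cancel₀ hne]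
  set t := B w r'
  have lin : ∀ a, P.InW a → B a r' = (B a r + l) * t - l' := by
    intro a ha
    have := key (a + (-(B a r + l)) • w) (P.inW_add ha (P.inW_smul hw _))
      (by rw [QuadraticMap.polar_add_left, QuadraticMap.polar_smul_left, hwr, smul_eq_mul]; ring)
    rw [QuadraticMap.polar_add_left, QuadraticMap.polar_smul_left, smul_eq_mul] at this
    linear_combination this
  have hl : l' = l * t := by
    have := lin 0 P.inW_zero
    rw [QuadraticMap.polar_zero_left, QuadraticMap.polar_zero_left] at this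
    linear_combination this
  have hrr : r' + (-t) • r = 0 := P.eq_zero_of_inW C (P.inW_add hr'W (P.inW_smul hrW _))
    fun a ha => by
      rw [QuadraticMap.polar_add_right, QuadraticMap.polar_smul_right, lin a ha, hl, smul_eq_mul]
      ring
  have ex : x' = t • x := by
    rw [hd', hd, hl, mul_comm, mul_smul, smul_add]
    congr 1
    rw [eq_neg_of_add_eq_zero_left hrr, neg_smul, neg_neg]
  have ht : t ≠ 0 := fun h => hx'0 (by rw [ex, h, zero_smul])
  rwa [ex, Sends, stab_smul ht] at hs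

/-- An automorphism fixing the points `e`, `f` is induced by a semisimilarity. -/
theorem ThreePairs.exists_semi (p : ℕ) [Fact p.Prime] [CharP F p] (C : Ctx Q)
    (hT : PtPres β) (P : ThreePairs Q) (he : Sends β P.e P.e) (hf : Sends β P.f P.f) :
    ∃ S : Semi Q, S.aut = β := by
  obtain ⟨D⟩ := P.exists_rootData p C he hf
  obtain ⟨σ, hσ⟩ := D.semilinear p hT
  obtain ⟨c, hc⟩ := D.quad_fn p hT hσ
  let φ : (ι → F) → (ι → F) := fun v =>
    ((c : F) * σ (B P.f v)) • P.e + σ (B P.e v) • P.f + D.fn v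
  have hφ : ∀ (l m : F) z, P.InW z →
      φ (l • P.e + m • P.f + z) = ((c : F) * σ l) • P.e + σ m • P.f + D.fn z := by
    intro l m z hz
    have e1 : B P.f (l • P.e + m • P.f + z) = l := by
      simp [QuadraticMap.polar_add_right, QuadraticMap.polar_smul_right, P.fe, P.ff, hz.2]
    have e2 : B P.e (l • P.e + m • P.f + z) = m := by
      simp [QuadraticMap.polar_add_right, QuadraticMap.polar_smul_right, P.ee, P.ef, hz.1]
    have e3 : P.proj (l • P.e + m • P.f + z) = z := by
      rw [P.proj_add, P.proj_add, P.proj_smul, P.proj_smul, P.proj_e, P.proj_f, P.proj_of_inW hz]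
      simp
    show (_ * σ (B P.f _)) • P.e + σ (B P.e _) • P.f + D.fn _ = _
    rw [e1, e2, ← D.map_proj p (_ + z), e3]
  have hq : ∀ v, Q (φ v) = (c : F) * σ (Q v) := by
    intro v
    rw [P.quad_decomp _ _ (D.inW v), hc]
    conv_rhs => rw [P.decomp v, P.quad_decomp _ _ (P.inW_proj v), map_add, map_mul]
    ring
  obtain ⟨S, hSσ, -, hS⟩ := exists_semi_of_fn (Q := Q) c φ
    (fun u v => by
      simp only [φ, QuadraticMap.polar_add_right, map_add, mul_add, add_smul, D.map_add p]; abel)
    (fun t v => by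
      simp only [φ, QuadraticMap.polar_smul_right, smul_eq_mul, map_mul, hσ]; module)
    (fun v hv => by
      have h1 := congrArg (B P.f) hv
      have h2 := congrArg (B P.e) hv
      simp only [φ, QuadraticMap.polar_add_right, QuadraticMap.polar_smul_right, P.fe, P.ff, P.ee,
        P.ef, (D.inW v).1, (D.inW v).2, QuadraticMap.polar_zero_right, smul_eq_mul, mul_one,
        mul_zero, add_zero, zero_add, mul_eq_zero, map_eq_zero, Units.ne_zero, false_or] at h1 h2
      simp only [φ, h1, h2, map_zero, mul_zero, zero_smul, add_zero, zero_add] at hv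
      rw [P.decomp v, h1, h2, D.proj_eq_zero p hv]
      simp) hq
  have hfe : S.fn P.e = (c : F) • P.e := by
    rw [hS]
    have := hφ 1 0 0 P.inW_zero
    simpa [D.map_zero p] using this
  have hff : S.fn P.f = P.f := by
    rw [hS]
    have := hφ 0 1 0 P.inW_zero
    simpa [D.map_zero p] using this
  have hse : Sends S.aut P.e P.e := by
    have := S.sends C P.e
    rwa [hfe, Sends, stab_smul c.ne_zero] at this
  have hsf : Sends S.aut P.f P.f := by
    have := S.sends C P.f
    rwa [hff] at this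
  have hpol : ∀ u v, P.InW u → P.InW v → B (D.fn u) (D.fn v) = (c : F) * σ (B u v) := by
    intro u v hu hv
    simp only [QuadraticMap.polar, map_sub, mul_sub]
    rw [← D.map_add p, hc, hc, hc, P.proj_of_inW hu, P.proj_of_inW hv,
      P.proj_of_inW (P.inW_add hu hv)]
  have hroot : ∀ v, S.aut (pr Q (P.rootE C v)) = β (pr Q (P.rootE C v)) := by
    intro v
    rw [S.aut_pr, D.spec]
    congr 1
    refine ext_app fun w => ?_
    obtain ⟨x, rfl⟩ := S.fn_surjective w
    rw [S.app_omegaMap, hS, hS, P.decomp x, P.app_rootE C v _ _ (P.inW_proj x),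
      hφ _ _ _ (P.inW_add (P.inW_proj x) (P.inW_smul (P.inW_proj v) _)),
      hφ _ _ _ (P.inW_proj x), P.app_rootE C (D.fn v) _ _ (D.inW _), P.proj_of_inW (D.inW v),
      D.map_add p, hσ, D.map_proj p v, map_sub, map_sub, map_mul]
    congr 3
    rw [← D.map_proj p v, hpol _ _ (P.inW_proj v) (P.inW_proj x), hc, P.proj_of_inW (P.inW_proj v)]
    ring
  refine ⟨S, ?_⟩
  have h1 : S.aut⁻¹ * β = 1 := C.eq_one_of_sends_self p fun x hx0 hx =>
    P.sends_self_of_fix p C ((Semi.ptPres_inv C S).mul hT) (Sends.mul he (hse.symm C)) (Sends.mul hf (hsf.symm C))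
      (fun v => by rw [MulAut.mul_apply, ← hroot, MulAut.inv_apply_self]) hx0 hx
  exact inv_mul_eq_one.1 h1

/-- An automorphism permuting the singular points is induced by a semisimilarity. -/
theorem Ctx.exists_semi_of_ptPres (C : Ctx Q) {β : MulAut (Cfsg.POmega F ⇑Q)} (hT : PtPres β) :
    ∃ S : Semi Q, S.aut = β := by
  obtain ⟨p, hp⟩ := CharP.exists F
  haveI : Fact p.Prime := ⟨CharP.char_is_prime F p⟩
  obtain ⟨P⟩ := C.pairs
  have hf0 : P.f ≠ 0 := fun h => one_ne_zero (α := F) (by
    rw [← P.ef, h, QuadraticMap.polar_zero_right])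
  obtain ⟨x, hx0, hx, hsx⟩ := hT _ P.e_ne_zero P.qe
  obtain ⟨y, hy0, hy, hsy⟩ := hT _ hf0 P.qf
  have hxy : B x y ≠ 0 := fun h => one_ne_zero (α := F) (P.ef ▸
    C.perp_of_sends p hx0 hx P.e_ne_zero P.qe hy0 hy hf0 P.qf (hsx.symm C) (hsy.symm C) h)
  obtain ⟨g, α, hα, hg⟩ := C.exists_move hx0 hx P.e_ne_zero P.qe
  set μ := B P.e (app g y) with hμ
  have hμ0 : μ ≠ 0 := fun h => hxy (by
    have := polar_app g x y
    rw [hg, QuadraticMap.polar_smul_left, ← hμ, h, smul_zero] at this
    exact this.symm)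
  set y2 := μ⁻¹ • app g y with hy2
  have hy2q : Q y2 = 0 := by rw [hy2, QuadraticMap.map_smul, quad_app, hy, smul_zero]
  have hy2e : B P.e y2 = 1 := by
    rw [hy2, QuadraticMap.polar_smul_right, smul_eq_mul, ← hμ, inv_mul_cancel₀ hμ0]
  have hd := P.decomp y2
  rw [hy2e, one_smul] at hd
  have hq := P.quad_decomp (B P.f y2) 1 (P.inW_proj y2)
  rw [one_smul, ← hd, hy2q, mul_one] at hq
  rw [eq_neg_of_add_eq_zero_left hq.symm] at hd
  set E := C.eichG P.e (P.proj y2) P.qe (P.inW_proj y2).1 with hE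
  have hEf : app E P.f = y2 := by rw [hE, P.app_eichG_f C (P.inW_proj y2)]; exact hd.symm
  have hEe : app E P.e = P.e := by rw [hE, C.app_eichG, eich_mulVec_left P.qe (P.inW_proj y2).1]
  set k := E⁻¹ * g with hk
  have hke : app k x = α • P.e := by
    rw [hk, app_mul, hg, app_smul]
    conv_lhs => rw [← hEe, app_inv_app]
  have hkf : app k y = μ • P.f := by
    rw [hk, app_mul, ← app_inv_app E P.f, hEf, hy2, app_smul, smul_smul, mul_inv_cancel₀ hμ0,
      one_smul]
  have h1 : Sends (inner k * β) P.e P.e := by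
    have := hsx.mul (C.sends_inner k x)
    rwa [hke, Sends, stab_smul hα] at this
  have h2 : Sends (inner k * β) P.f P.f := by
    have := hsy.mul (C.sends_inner k y)
    rwa [hkf, Sends, stab_smul hμ0] at this
  obtain ⟨S, hS⟩ := P.exists_semi p C ((C.ptPres_inner k).mul hT) h1 h2
  obtain ⟨T, -, -, hT'⟩ := S.exists_inner_mul k⁻¹
  refine ⟨T, ?_⟩
  rw [hT', hS, ← mul_assoc, inner, inner, ← map_mul, ← map_mul, inv_mul_cancel, map_one, map_one,
    one_mul]

/-- Every automorphism of `PΩ(Q)` is induced by a semisimilarity. -/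
theorem Ctx.exists_semi (C : Ctx Q) (hT : NoTriality Q) (β : MulAut (Cfsg.POmega F ⇑Q)) :
    ∃ S : Semi Q, S.aut = β := by
  obtain ⟨p, hp⟩ := CharP.exists F
  haveI : Fact p.Prime := ⟨CharP.char_is_prime F p⟩
  exact C.exists_semi_of_ptPres (C.ptPres p hT β)

theorem Ctx.gamma_eq_top (C : Ctx Q) (hT : NoTriality Q) : Cfsg.gammaPOmega F ⇑Q = ⊤ :=
  eq_top_iff.2 fun β _ => by
    obtain ⟨S, rfl⟩ := C.exists_semi hT β
    exact S.aut_mem_gamma

/-- Every automorphism is induced by a semisimilarity, in the wording of the statements. -/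
theorem Ctx.exists_induced (C : Ctx Q) (hT : NoTriality Q) (β : MulAut (Cfsg.POmega F ⇑Q)) :
    ∃ (g : GL ι F) (σ : F ≃+* F), Cfsg.IsSemisimilarityPair (⇑Q) g σ ∧
      Cfsg.IsInducedBySemilinearPOmega (⇑Q) g σ β := by
  obtain ⟨S, rfl⟩ := C.exists_semi hT β
  exact ⟨S.g, S.σ, ⟨S.c, S.quad⟩, S.isInduced⟩

end CfsgLib.AutPOmega
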