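import Cfsg.Agent.AutPOmega.Final
import Cfsg.Agent.AutPSL.Descent

/-!
# The group of semisimilarities and its action on `PΩ(Q)`

`Semi Q` composes, the automorphism it induces is unique and trivial only for scalars;
`sim` is the action of the similitude group, `fld` that of a field automorphism fixing the form.
-/

set_option autoImplicit false
set_option linter.unusedSectionVars false
set_option linter.style.haveILetI false

namespace CfsgLib.AutPOmega

open Matrix Module CfsgLib.Spinor CfsgLib.Forms CfsgLib.Forms4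
open CfsgLib.AutPSL (mapGL mapGL_one_apply mapGL_mul_apply)

variable {F : Type*} [Field F] [Finite F] {ι : Type} [Fintype ι] [DecidableEq ι]
  {Q : QuadraticForm F (ι → F)}

set_option quotPrecheck false in
local notation "B" => QuadraticMap.polar (DFunLike.coe Q)

theorem mapGL_val (σ : F ≃+* F) (g : GL ι F) :
    ((mapGL σ g : GL ι F) : Matrix ι ι F) = (g : Matrix ι ι F).map σ := rfl

theorem twist_mulVec (σ : F ≃+* F) (g : GL ι F) (v : ι → F) :
    ((mapGL σ g : GL ι F) : Matrix ι ι F) *ᵥ (fun i => σ (v i)) =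
      fun i => σ (((g : Matrix ι ι F) *ᵥ v) i) := by
  funext i
  exact ((σ : F →+* F).map_mulVec (g : Matrix ι ι F) v i).symm

namespace Semi

/-- The induced automorphism determines itself. -/
theorem eq_aut_of_induced (S : Semi Q) {β : MulAut (Cfsg.POmega F ⇑Q)}
    (h : Cfsg.IsInducedBySemilinearPOmega (⇑Q) S.g S.σ β) : β = S.aut := by
  refine MulEquiv.ext fun y => ?_
  obtain ⟨k, rfl⟩ := pr_surjective y
  rw [S.aut_pr]
  exact h k (S.omegaMap k) rfl

theorem induced_iff (S : Semi Q) {β : MulAut (Cfsg.POmega F ⇑Q)} :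
    Cfsg.IsInducedBySemilinearPOmega (⇑Q) S.g S.σ β ↔ β = S.aut :=
  ⟨S.eq_aut_of_induced, fun h => h ▸ S.isInduced⟩

theorem aut_congr {S T : Semi Q} (hg : S.g = T.g) (hσ : S.σ = T.σ) : S.aut = T.aut :=
  T.eq_aut_of_induced (hσ ▸ hg ▸ S.isInduced)

/-- The identity. -/
protected def one (Q : QuadraticForm F (ι → F)) : Semi Q := ⟨1, 1, 1, fun v => by simp⟩

theorem one_aut : (Semi.one Q).aut = 1 := by
  refine (Semi.eq_aut_of_induced _ fun s s' e => ?_).symm
  have e1 : (s.1.1 : Matrix ι ι F).map (1 : F ≃+* F) = (s.1.1 : Matrix ι ι F) := rfl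
  change (s'.1.1 : Matrix ι ι F) = (1 : GL ι F).1 * _ * ((1 : GL ι F)⁻¹).1 at e
  rw [inv_one, Units.val_one, one_mul, mul_one] at e
  replace e := e.trans e1
  rw [MulAut.one_apply, Subtype.ext (Subtype.ext (Units.ext e)) (a1 := s') (a2 := s)]

/-- Composition. -/
protected def mul (S T : Semi Q) : Semi Q where
  g := S.g * CfsgLib.AutPSL.mapGL S.σ T.g
  σ := S.σ * T.σ
  c := S.c * Units.map (S.σ : F →* F) T.c
  quad := fun v => by
    have e : (fun i => (S.σ * T.σ) (v i)) = fun i => S.σ (T.σ (v i)) := rfl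
    rw [e, Units.val_mul, ← Matrix.mulVec_mulVec, twist_mulVec, S.quad, T.quad, map_mul, Units.val_mul,
      mul_assoc]
    rfl

theorem mul_g (S T : Semi Q) : (S.mul T).g = S.g * CfsgLib.AutPSL.mapGL S.σ T.g := rfl

theorem mul_σ (S T : Semi Q) : (S.mul T).σ = S.σ * T.σ := rfl

theorem fn_mul (S T : Semi Q) (v : ι → F) : (S.mul T).fn v = S.fn (T.fn v) := by
  have e : (fun i => (S.σ * T.σ) (v i)) = fun i => S.σ (T.σ (v i)) := rfl
  rw [fn, mul_g, mul_σ, e, Units.val_mul, ← Matrix.mulVec_mulVec, twist_mulVec]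
  rfl

theorem mul_aut (S T : Semi Q) : (S.mul T).aut = S.aut * T.aut := by
  refine MulEquiv.ext fun y => ?_
  obtain ⟨k, rfl⟩ := pr_surjective y
  rw [MulAut.mul_apply, T.aut_pr, S.aut_pr, Semi.aut_pr]
  congr 1
  refine ext_app fun v => ?_
  obtain ⟨w, rfl⟩ := (S.mul T).fn_surjective v
  rw [app_omegaMap, fn_mul, fn_mul, app_omegaMap, app_omegaMap]

theorem fn_add (S : Semi Q) (u v : ι → F) : S.fn (u + v) = S.fn u + S.fn v := by
  rw [fn, fn, fn, ← Matrix.mulVec_add]
  congr 1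
  funext i
  simp

theorem fn_zero (S : Semi Q) : S.fn 0 = 0 := by
  have := S.fn_add 0 0
  rwa [add_zero, left_eq_add] at this

/-- A semisimilarity acting trivially is scalar and linear. -/
theorem eq_scalar_of_aut_eq_one (C : Ctx Q) (S : Semi Q) (h : S.aut = 1) :
    S.σ = 1 ∧ ∃ u : Fˣ, (S.g : Matrix ι ι F) = (u : F) • (1 : Matrix ι ι F) := by
  obtain ⟨p, hp⟩ := CharP.exists F
  haveI : Fact p.Prime := ⟨CharP.char_is_prime F p⟩
  obtain ⟨P⟩ := C.pairs
  have hpt : ∀ x, x ≠ 0 → Q x = 0 → ∃ t : F, S.fn x = t • x := fun x hx0 hx => by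
    have h1 : Sends (1 : MulAut (Cfsg.POmega F ⇑Q)) x x := tr_one (C.center_le_stab x)
    exact Sends.unique p C hx0 hx h1 (h ▸ S.sends C x)
  -- two perpendicular independent singular vectors share their scalar
  have hpair : ∀ x y, x ≠ 0 → Q x = 0 → y ≠ 0 → Q y = 0 → B x y = 0 → y ∉ F ∙ x →
      ∀ tx ty : F, S.fn x = tx • x → S.fn y = ty • y → ∀ s : F, S.σ s * ty = s * tx := by
    intro x y hx0 hx hy0 hy hxy hind tx ty hfx hfy s
    have hsum0 : x + s • y ≠ 0 := by
      intro h0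
      by_cases hs : s = 0
      · rw [hs, zero_smul, add_zero] at h0; exact hx0 h0
      · exact hind (Submodule.mem_span_singleton.2 ⟨-s⁻¹, by
          rw [eq_neg_of_add_eq_zero_left h0, smul_neg, smul_smul, neg_mul, inv_mul_cancel₀ hs,
            neg_one_smul, neg_neg]⟩)
    have hsumq : Q (x + s • y) = 0 := by
      rw [QuadraticMap.map_add (⇑Q), QuadraticMap.map_smul, QuadraticMap.polar_smul_right, hx, hy,
        hxy]
      simp
    obtain ⟨t, ht⟩ := hpt _ hsum0 hsumq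
    rw [S.fn_add, fn_smul, hfx, hfy, smul_add, smul_smul, smul_smul] at ht
    have h0 : (tx - t) • x + (S.σ s * ty - t * s) • y = 0 := by
      linear_combination (norm := module) ht
    have hy' : S.σ s * ty - t * s = 0 := by
      by_contra hne
      exact hind (Submodule.mem_span_singleton.2 ⟨-(tx - t) / (S.σ s * ty - t * s), by
        rw [div_eq_inv_mul, mul_smul, inv_smul_eq_iff₀ hne, neg_smul]
        exact neg_eq_of_add_eq_zero_right h0⟩)
    rw [hy', zero_smul, add_zero, smul_eq_zero] at h0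
    rw [sub_eq_zero.1 (h0.resolve_right hx0)]
    linear_combination hy'
  have ha0 : P.a ≠ 0 := fun h0 => one_ne_zero (α := F) (by
    rw [← P.ab, h0, QuadraticMap.polar_zero_left])
  have hf0 : P.f ≠ 0 := fun h0 => one_ne_zero (α := F) (by
    rw [← P.ef, h0, QuadraticMap.polar_zero_right])
  obtain ⟨t, hte⟩ := hpt P.e P.e_ne_zero P.qe
  have ht : t ≠ 0 := fun h0 => P.e_ne_zero (S.fn_injective (by rw [hte, h0, zero_smul, S.fn_zero]))
  have hindW : ∀ x y, y ≠ 0 → B P.e y = 0 → B P.e x ≠ 0 → y ∉ F ∙ x := by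
    intro x y hy0 hey hex hmem
    obtain ⟨s, rfl⟩ := Submodule.mem_span_singleton.1 hmem
    rw [QuadraticMap.polar_smul_right, smul_eq_mul, mul_eq_zero] at hey
    exact hy0 (by rw [hey.resolve_right hex, zero_smul])
  have hindE : ∀ y, P.InW y → y ≠ 0 → y ∉ F ∙ P.e := by
    intro y hy hy0 hmem
    obtain ⟨s, rfl⟩ := Submodule.mem_span_singleton.1 hmem
    have := hy.2
    rw [QuadraticMap.polar_smul_right, P.fe, smul_eq_mul, mul_one] at this
    exact hy0 (by rw [this, zero_smul])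
  obtain ⟨ta, hta⟩ := hpt P.a ha0 P.qa
  have key := hpair P.e P.a P.e_ne_zero P.qe ha0 P.qa P.ea (hindE _ P.inW_a ha0) t ta hte hta
  have hta' : ta = t := by simpa using key 1
  subst hta'
  have hσ : S.σ = 1 := RingEquiv.ext fun s => mul_right_cancel₀ ht (key s)
  have hW : ∀ y, P.InW y → Q y = 0 → S.fn y = ta • y := by
    intro y hy hq
    by_cases hy0 : y = 0
    · rw [hy0, S.fn_zero, smul_zero]
    obtain ⟨ty, hty⟩ := hpt y hy0 hq
    have := hpair P.e y P.e_ne_zero P.qe hy0 hq hy.1 (hindE y hy hy0) ta ty hte hty 1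
    rw [hty]
    simp only [map_one, one_mul] at this
    rw [this]
  have hf : S.fn P.f = ta • P.f := by
    obtain ⟨tf, htf⟩ := hpt P.f hf0 P.qf
    have := hpair P.f P.a hf0 P.qf ha0 P.qa P.fa
      (hindW _ _ ha0 P.ea (by rw [P.ef]; exact one_ne_zero)) tf ta htf hta 1
    simp only [map_one, one_mul] at this
    rw [htf, this]
  have hlin : ∀ v, S.fn v = ta • v := by
    intro v
    obtain ⟨z₁, z₂, z₃, ⟨h1, q1⟩, ⟨h2, q2⟩, ⟨h3, q3⟩, e⟩ :=
      P.exists_three_singular (P.inW_proj v)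
    have hd := P.decomp v
    rw [e] at hd
    rw [hd, S.fn_add, S.fn_add, S.fn_add, S.fn_add, fn_smul, fn_smul, hte, hf, hW _ h1 q1, hW _ h2 q2,
      hW _ h3 q3, hσ, RingAut.one_apply, RingAut.one_apply]
    module
  refine ⟨hσ, Units.mk0 ta ht, Matrix.ext_iff_mulVec.2 fun v => ?_⟩
  have h1 := hlin v
  rw [fn, hσ] at h1
  rw [Matrix.smul_mulVec, Matrix.one_mulVec]
  exact h1

end Semi

/-- The similitude group. -/
abbrev GO (Q : QuadraticForm F (ι → F)) : Subgroup (GL ι F) := Cfsg.Geo.quadSimilarityGroup (F := F) ⇑Q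

theorem mem_GO_iff {g : GL ι F} :
    g ∈ GO Q ↔ ∃ c : Fˣ, ∀ v, Q ((g : Matrix ι ι F) *ᵥ v) = (c : F) * Q v := Iff.rfl

theorem scalar_mem_GO (u : Fˣ) : Matrix.GeneralLinearGroup.scalar ι u ∈ GO Q :=
  ⟨u * u, fun v => by
    rw [show ((Matrix.GeneralLinearGroup.scalar ι u : GL ι F) : Matrix ι ι F) *ᵥ v = (u : F) • v from
      funext fun i => by simp [Matrix.mulVec_diagonal], QuadraticMap.map_smul, smul_eq_mul,
      Units.val_mul]⟩

theorem isometry_mem_GO (k : ↥(Cfsg.isometryGroup F ⇑Q)) : k.1 ∈ GO Q :=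
  ⟨1, fun v => by rw [Units.val_one, one_mul]; exact quad_mulVec Q k v⟩

/-- A similitude as a semisimilarity. -/
noncomputable def simSemi (g : GO Q) : Semi Q where
  g := g.1
  σ := 1
  c := Classical.choose g.2
  quad := fun v => Classical.choose_spec g.2 v

theorem simSemi_g (g : GO Q) : (simSemi g).g = g.1 := rfl

/-- The action of the similitude group. -/
noncomputable def sim : GO Q →* MulAut (Cfsg.POmega F ⇑Q) where
  toFun g := (simSemi g).aut
  map_one' := (Semi.aut_congr (S := simSemi (1 : GO Q)) (T := Semi.one Q) rfl rfl).trans Semi.one_aut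
  map_mul' g h := by
    rw [← Semi.mul_aut]
    refine Semi.aut_congr ?_ (mul_one _).symm
    show g.1 * h.1 = g.1 * mapGL 1 h.1
    rw [mapGL_one_apply]

theorem sim_apply (g : GO Q) : sim g = (simSemi g).aut := rfl

theorem sim_induced_iff (g : GO Q) {β : MulAut (Cfsg.POmega F ⇑Q)} :
    Cfsg.IsInducedBySemilinearPOmega (⇑Q) g.1 (RingEquiv.refl F) β ↔ β = sim g :=
  (simSemi g).induced_iff

theorem sim_eq_one_iff (C : Ctx Q) {g : GO Q} :
    sim g = 1 ↔ ∃ u : Fˣ, g.1 = Matrix.GeneralLinearGroup.scalar ι u := by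
  constructor
  · intro h
    obtain ⟨-, u, hu⟩ := (simSemi g).eq_scalar_of_aut_eq_one C h
    refine ⟨u, Units.ext (hu.trans ?_)⟩
    ext i j
    by_cases hij : i = j <;> simp [hij]
  · rintro ⟨u, hu⟩
    refine MulEquiv.ext fun y => ?_
    obtain ⟨k, rfl⟩ := pr_surjective y
    rw [sim_apply, Semi.aut_pr, MulAut.one_apply]
    congr 1
    refine ext_app fun v => ?_
    obtain ⟨w, rfl⟩ := (simSemi g).fn_surjective v
    rw [Semi.app_omegaMap]
    have hs : ∀ x : ι → F, (simSemi g).fn x = (u : F) • x := fun x => by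
      show (g.1 : Matrix ι ι F) *ᵥ x = _
      rw [hu]
      funext i
      simp [Matrix.mulVec_diagonal]
    rw [hs, hs, app_smul]

theorem sim_eq_sim_iff (C : Ctx Q) {g h : GO Q} :
    sim g = sim h ↔ ∃ u : Fˣ, g.1 = Matrix.GeneralLinearGroup.scalar ι u * h.1 := by
  have : sim g = sim h ↔ sim (g * h⁻¹) = 1 := by
    rw [map_mul, map_inv, mul_inv_eq_one]
  rw [this, sim_eq_one_iff C]
  simp only [Subgroup.coe_mul, Subgroup.coe_inv, mul_inv_eq_iff_eq_mul]

/-- An element of `Ω` acts by its inner automorphism. -/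
theorem sim_omega (k : OG Q) : sim ⟨k.1.1, isometry_mem_GO k.1⟩ = inner k := by
  refine ((sim_induced_iff _).1 fun s s' e => ?_).symm
  show inner k (pr Q s) = pr Q s'
  rw [inner_pr]
  congr 1
  exact Subtype.ext (Subtype.ext (Units.ext e.symm))

/-- Semisimilarities normalise the similitudes. -/
theorem Semi.mapGL_mem_GO (S : Semi Q) (a : GO Q) : S.mapGL a.1 ∈ GO Q := by
  obtain ⟨c, hc⟩ := a.2
  refine ⟨Units.map (S.σ : F →* F) c, fun v => ?_⟩
  obtain ⟨w, rfl⟩ := S.fn_surjective v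
  rw [S.mapGL_mulVec, Semi.fn, Semi.fn, S.quad, S.quad, hc, map_mul]
  simp only [Units.coe_map, MonoidHom.coe_coe]
  ring

theorem Semi.aut_mul_sim (S : Semi Q) (a : GO Q) :
    S.aut * sim a = sim ⟨S.mapGL a.1, S.mapGL_mem_GO a⟩ * S.aut := by
  rw [sim_apply, sim_apply, ← Semi.mul_aut, ← Semi.mul_aut]
  refine Semi.aut_congr ?_ ((mul_one _).trans (one_mul _).symm)
  show S.g * AutPSL.mapGL S.σ a.1 = S.mapGL a.1 * AutPSL.mapGL 1 S.g
  rw [mapGL_one_apply]
  exact (inv_mul_cancel_right _ S.g).symm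

/-- The form has coefficients fixed by `σ`. -/
def Rat (Q : QuadraticForm F (ι → F)) (σ : F ≃+* F) : Prop :=
  ∀ v : ι → F, Q (fun i => σ (v i)) = σ (Q v)

/-- A field automorphism as a semisimilarity. -/
def Rat.semi {σ : F ≃+* F} (h : Rat Q σ) : Semi Q :=
  ⟨1, σ, 1, fun v => by simp only [Units.val_one, Matrix.one_mulVec, one_mul]; exact h v⟩

theorem Rat.one : Rat Q (1 : F ≃+* F) := fun _ => rfl

theorem Rat.mul {σ τ : F ≃+* F} (h : Rat Q σ) (h' : Rat Q τ) : Rat Q (σ * τ) := fun v =>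
  (h fun i => τ (v i)).trans (congrArg σ (h' v))

theorem Rat.pow {σ : F ≃+* F} (h : Rat Q σ) : ∀ k : ℕ, Rat Q (σ ^ k)
  | 0 => Rat.one
  | k + 1 => pow_succ σ k ▸ (Rat.pow h k).mul h

theorem Rat.mapGL_mem {σ : F ≃+* F} (h : Rat Q σ) {a : GL ι F} (ha : a ∈ GO Q) : mapGL σ a ∈ GO Q := by
  have := h.semi.mapGL_mem_GO ⟨a, ha⟩
  have e : h.semi.mapGL a = mapGL σ a := by
    show 1 * mapGL σ a * 1⁻¹ = mapGL σ a
    rw [one_mul, inv_one, mul_one]
  rwa [e] at this

/-- The standard field automorphism. -/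
noncomputable def fld {σ : F ≃+* F} (h : Rat Q σ) : MulAut (Cfsg.POmega F ⇑Q) := h.semi.aut

theorem fld_mul {σ τ : F ≃+* F} (h : Rat Q σ) (h' : Rat Q τ) : fld (h.mul h') = fld h * fld h' := by
  rw [fld, fld, fld, ← Semi.mul_aut]
  exact Semi.aut_congr (by show (1 : GL ι F) = 1 * mapGL σ 1; rw [map_one, mul_one]) rfl

theorem fld_one : fld (Rat.one (Q := Q)) = 1 :=
  (Semi.aut_congr (T := Semi.one Q) rfl rfl).trans Semi.one_aut

theorem fld_congr {σ τ : F ≃+* F} (h : Rat Q σ) (h' : Rat Q τ) (e : σ = τ) : fld h = fld h' :=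
  Semi.aut_congr rfl e

theorem fld_pow {σ : F ≃+* F} (h : Rat Q σ) : ∀ k : ℕ, fld h ^ k = fld (h.pow k)
  | 0 => by rw [pow_zero, fld_congr (h.pow 0) Rat.one (pow_zero σ), fld_one]
  | k + 1 => by
    rw [pow_succ, fld_pow h k, ← fld_mul]
    exact fld_congr _ _ (pow_succ σ k).symm

theorem fld_mul_sim {σ : F ≃+* F} (h : Rat Q σ) (a : GO Q) :
    fld h * sim a = sim ⟨mapGL σ a.1, h.mapGL_mem a.2⟩ * fld h := by
  rw [fld, Semi.aut_mul_sim]
  congr 2
  exact Subtype.ext (by show 1 * mapGL σ a.1 * 1⁻¹ = mapGL σ a.1; rw [one_mul, inv_one, mul_one])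

theorem fld_induced_iff {σ : F ≃+* F} (h : Rat Q σ) {β : MulAut (Cfsg.POmega F ⇑Q)} :
    Cfsg.IsFieldAutPOmegaOf (⇑Q) σ β ↔ β = fld h := by
  rw [fld, ← Semi.induced_iff]
  refine forall_congr' fun s => forall_congr' fun s' => ?_
  simp [Rat.semi]

/-- Every semisimilarity automorphism of a rational form is a similitude times a field automorphism. -/
theorem Semi.aut_eq_sim_mul_fld (S : Semi Q) (h : Rat Q S.σ) :
    ∃ a : GO Q, S.aut = sim a * fld h := by
  have ha : S.g ∈ GO Q := ⟨S.c, fun v => by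
    have := S.quad fun i => S.σ.symm (v i)
    simp only [RingEquiv.apply_symm_apply] at this
    rw [this]
    congr 1
    have h1 := h fun i => S.σ.symm (v i)
    simp only [RingEquiv.apply_symm_apply] at h1
    exact h1.symm⟩
  refine ⟨⟨S.g, ha⟩, ?_⟩
  rw [sim_apply, fld, ← Semi.mul_aut]
  refine Semi.aut_congr ?_ (one_mul _).symm
  show S.g = S.g * AutPSL.mapGL 1 1
  rw [map_one, mul_one]

/-- Only scalars and the identity act trivially. -/
theorem eq_one_of_sim_mul_fld (C : Ctx Q) {a : GO Q} {σ : F ≃+* F} (h : Rat Q σ)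
    (e : sim a * fld h = 1) : σ = 1 ∧ sim a = 1 := by
  have e' := e
  rw [sim_apply, fld, ← Semi.mul_aut] at e'
  obtain ⟨hσ, -⟩ := Semi.eq_scalar_of_aut_eq_one C _ e'
  have hσ' : σ = 1 := by simpa [Semi.mul_σ, simSemi, Rat.semi] using hσ
  refine ⟨hσ', ?_⟩
  subst hσ'
  rwa [fld_one, mul_one] at e

theorem orderOf_fld (C : Ctx Q) {σ : F ≃+* F} (h : Rat Q σ) : orderOf (fld h) = orderOf σ := by
  refine orderOf_eq_orderOf_iff.2 fun n => ?_
  rw [fld_pow]
  constructor
  · intro e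
    exact (eq_one_of_sim_mul_fld C (a := 1) (h.pow n) (by rw [map_one, one_mul, e])).1
  · intro e
    rw [fld_congr (h.pow n) Rat.one e, fld_one]

theorem pgoAut_eq : Cfsg.pgoAut F ⇑Q = (sim (Q := Q)).range := by
  refine le_antisymm ((Subgroup.closure_le _).2 ?_) ?_
  · rintro β ⟨g, hg, hβ⟩
    exact ⟨⟨g, hg⟩, ((sim_induced_iff _).1 hβ).symm⟩
  · rintro _ ⟨g, rfl⟩
    exact Subgroup.subset_closure ⟨g.1, g.2, (sim_induced_iff g).2 rfl⟩

end CfsgLib.AutPOmega
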