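import Cfsg.Agent.AutPOmega.Even

/-!
# Inner classes in the class of an involutory field automorphism, odd characteristic
-/

set_option autoImplicit false
set_option linter.unusedSectionVars false
set_option linter.style.haveILetI false

namespace CfsgLib.AutPOmega

open Matrix Module CfsgLib.Spinor CfsgLib.Forms CfsgLib.Forms4
open CfsgLib.AutPSL (mapGL twNorm)

variable {F : Type*} [Field F] [Finite F] {ι : Type} [Fintype ι] [DecidableEq ι]
  {Q : QuadraticForm F (ι → F)}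

/-- The scalars as similitudes. -/
def scalarGO (Q : QuadraticForm F (ι → F)) : Fˣ →* GO Q where
  toFun u := ⟨Matrix.GeneralLinearGroup.scalar ι u, scalar_mem_GO u⟩
  map_one' := Subtype.ext (map_one _)
  map_mul' u v := Subtype.ext (map_mul _ u v)

theorem scalarGO_val (u : Fˣ) : (scalarGO Q u).1 = Matrix.GeneralLinearGroup.scalar ι u := rfl

theorem closure_scalar : Subgroup.closure (Set.range fun u : Fˣ =>
    (⟨Matrix.GeneralLinearGroup.scalar ι u, scalar_mem_GO u⟩ : GO Q)) = (scalarGO Q).range := by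
  rw [show (fun u : Fˣ => (⟨Matrix.GeneralLinearGroup.scalar ι u, scalar_mem_GO u⟩ : GO Q)) =
    ⇑(scalarGO Q) from rfl, ← MonoidHom.coe_range, Subgroup.closure_eq]

/-- `Ω` times the scalars, as a set. -/
theorem mem_omega_sup_scalar {g : GO Q} (hg : g ∈ (omegaHom Q).range ⊔ (scalarGO Q).range) :
    ∃ (u : Fˣ) (k : OG Q), g = scalarGO Q u * omegaHom Q k := by
  haveI : (scalarGO Q).range.Normal := ⟨fun n ⟨u, hu⟩ g => ⟨u, by
    rw [← hu]
    refine Subtype.ext ?_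
    rw [Subgroup.coe_mul, Subgroup.coe_mul, Subgroup.coe_inv, scalarGO_val, ← (scalar_commute u g.1).eq,
      mul_inv_cancel_right]⟩⟩
  obtain ⟨_, ⟨k, rfl⟩, _, ⟨u, rfl⟩, e⟩ := Subgroup.mem_sup_of_normal_right.1 hg
  refine ⟨u, k, e.symm.trans (Subtype.ext ?_)⟩
  rw [Subgroup.coe_mul, Subgroup.coe_mul, scalarGO_val, (scalar_commute u _).eq]

variable {K : Type*} [Field K] [Finite K] {e : K →+* F} {σ : F ≃+* F} {Q₀ : QuadraticForm K (ι → K)}

/-- The class of an involutory field automorphism is two or four inner classes. -/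
theorem IsExt.splitClassCount_two (hE : IsExt e Q₀ Q) (he : IsFixedField e σ) (C : Ctx Q) (C₀ : Ctx Q₀)
    (hev : Even (Fintype.card ι)) (hσ : orderOf σ = 2) (h2 : (2 : K) ≠ 0)
    (hneg : ∀ u : Fˣ, u * u = 1 → ∀ k : ↥(Cfsg.isometryGroup F ⇑Q),
      k.1 = Matrix.GeneralLinearGroup.scalar ι u → k ∈ Cfsg.Omega F ⇑Q)
    (hn : ∃ (n : GL ι F) (d : Fˣ), HasMult Q n d ∧ Proper Q n ∧ ¬ IsSquare (d : F))
    {g₀ : GL ι K} {c₀ : Kˣ} (hc₀ : HasMult Q₀ g₀ c₀) (hp₀ : Proper Q₀ g₀) (hns₀ : ¬ IsSquare (c₀ : K))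
    {s : Fˣ} (hs : s * s = Units.map (e : K →* F) c₀) {k : ↥(Cfsg.isometryGroup F ⇑Q)}
    (hk : k.1 = (Matrix.GeneralLinearGroup.scalar ι s)⁻¹ * Matrix.GeneralLinearGroup.map e g₀) :
    (k ∈ Cfsg.Omega F ⇑Q → Cfsg.splitClassCount ((GP Q).map sim) (Cfsg.Inn (Cfsg.POmega F ⇑Q))
      (fld (hE.rat he.apply)) = 4) ∧
    (k ∉ Cfsg.Omega F ⇑Q → Cfsg.splitClassCount ((GP Q).map sim) (Cfsg.Inn (Cfsg.POmega F ⇑Q))
      (fld (hE.rat he.apply)) = 2) := by
  haveI := Fintype.ofFinite F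
  have h2F : (2 : F) ≠ 0 := fun h => h2 (e.injective (by rw [map_ofNat, h, map_zero]))
  have hv := C.exists_value_one
  have M := model_GP hE he C C₀ hev
  rw [show fld (hE.rat he.apply) = fld M.rat from rfl, M.splitClassCount_eq hσ two_pos, closure_scalar]
  set U : Subgroup (GO Q) := (omegaHom Q).range ⊔ (scalarGO Q).range with hU
  set H : Subgroup (GO Q) := (omegaHom Q).range ⊔ (GP Q₀).map hE.goHom ⊔ (scalarGO Q).range with hH
  have hUH : U ≤ H := sup_le (le_sup_left.trans le_sup_left) le_sup_right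
  have hiso : ∀ h : ↥(Cfsg.isometryGroup F ⇑Q),
      (⟨h.1, isometry_mem_GO h⟩ : GO Q) ∈ U ↔ h ∈ Cfsg.Omega F ⇑Q := fun h => by
    refine ⟨fun hU' => ?_, fun hΩ => Subgroup.mem_sup_left ⟨⟨h, hΩ⟩, rfl⟩⟩
    obtain ⟨u, w, e'⟩ := mem_omega_sup_scalar hU'
    have e' : h.1 = Matrix.GeneralLinearGroup.scalar ι u * w.1.1 := congrArg Subtype.val e'
    have hu : u * u = 1 := by
      have h1 := (HasMult.scalar (Q := Q) u).mul (HasMult.isometry w.1)
      rw [← e', mul_one] at h1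
      exact h1.unique hv (HasMult.isometry h)
    have hz : HasMult Q (Matrix.GeneralLinearGroup.scalar ι u) 1 := hu ▸ HasMult.scalar u
    rw [show h = ⟨_, hz.mem_isometry⟩ * w.1 from Subtype.ext e']
    exact mul_mem (hneg u hu _ rfl) w.2
  obtain ⟨w, u₁, v₁, hw, hwns⟩ := exists_det_one_nonsquare h2F C.nondeg (by have := C.card_ge; omega)
  have hwΩ : w ∉ Cfsg.Omega F ⇑Q := fun h => hwns (by
    simpa using ((mem_omega_iff h2F C.nondeg hw).1 h).2)
  have hwP : Proper Q w.1 :=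
    (proper_isometry_iff hv w).2 ⟨fun _ => det_eq_one_of_pair hw, fun h => absurd h h2F⟩
  set W : GO Q := ⟨w.1, isometry_mem_GO w⟩ with hW
  -- elements with square multiplier
  have hsq : ∀ g : GO Q, g ∈ GP Q → ∀ (c t : Fˣ), HasMult Q g.1 c → t * t = c →
      g ∈ U ∨ g * W ∈ U := by
    intro g hg c t hc ht
    have h1 : HasMult Q ((Matrix.GeneralLinearGroup.scalar ι t)⁻¹ * g.1) 1 := by
      have := (HasMult.scalar (Q := Q) t).inv.mul hc
      rwa [ht, inv_mul_cancel] at this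
    set h : ↥(Cfsg.isometryGroup F ⇑Q) := ⟨_, h1.mem_isometry⟩ with hh
    have hgh : g = scalarGO Q t * ⟨h.1, isometry_mem_GO h⟩ := Subtype.ext (mul_inv_cancel_left _ _).symm
    have hhp : Proper Q h.1 := by
      have := (GP Q).mul_mem_cancel_left (y := (⟨h.1, isometry_mem_GO h⟩ : GO Q)) (M.scalar_mem t)
      exact this.1 (hgh ▸ hg)
    rcases mem_omega_or_mul h2F C.nondeg hw hwns (((proper_isometry_iff hv h).1 hhp).1 h2F) with h' | h'
    · exact Or.inl (hgh ▸ mul_mem (Subgroup.mem_sup_right ⟨t, rfl⟩) ((hiso h).2 h'))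
    · refine Or.inr ?_
      rw [hgh, mul_assoc]
      exact mul_mem (Subgroup.mem_sup_right ⟨t, rfl⟩) ((hiso (h * w)).2 h')
  -- the small group
  set G₁ : GO Q := hE.goHom ⟨g₀, c₀, hc₀⟩ with hG₁
  have hG₁k : G₁ = scalarGO Q s * ⟨k.1, isometry_mem_GO k⟩ := Subtype.ext (by
    show Matrix.GeneralLinearGroup.map e g₀ = Matrix.GeneralLinearGroup.scalar ι s * k.1
    rw [hk, mul_inv_cancel_left])
  have hG₁H : G₁ ∈ H := Subgroup.mem_sup_left (Subgroup.mem_sup_right ⟨_, hp₀, rfl⟩)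
  have hsmall : ∀ g : GO Q₀, g ∈ GP Q₀ → ∀ (c d : Kˣ), HasMult Q₀ g.1 c → d * d = c →
      hE.goHom g ∈ U := by
    intro g hg c d hc hd
    have h1 : HasMult Q₀ ((Matrix.GeneralLinearGroup.scalar ι d)⁻¹ * g.1) 1 := by
      have := (HasMult.scalar (Q := Q₀) d).inv.mul hc
      rwa [hd, inv_mul_cancel] at this
    set h : ↥(Cfsg.isometryGroup K ⇑Q₀) := ⟨_, h1.mem_isometry⟩ with hh
    have hgh : g = scalarGO Q₀ d * ⟨h.1, isometry_mem_GO h⟩ := Subtype.ext (mul_inv_cancel_left _ _).symm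
    have hhp : Proper Q₀ h.1 :=
      ((GP Q₀).mul_mem_cancel_left (y := (⟨h.1, isometry_mem_GO h⟩ : GO Q₀))
        (x := scalarGO Q₀ d) (proper_scalar hev d)).1 (hgh ▸ hg)
    rw [hgh, map_mul]
    refine mul_mem (Subgroup.mem_sup_right ⟨Units.map (e : K →* F) d, Subtype.ext ?_⟩)
      ((hiso (hE.isoHom h)).2 (hE.isoHom_mem_omega_of_order_two he hσ h2 C₀.nondeg
        (((proper_isometry_iff C₀.exists_value_one h).1 hhp).1 h2)))
    show Matrix.GeneralLinearGroup.scalar ι (Units.map (e : K →* F) d) =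
      Matrix.GeneralLinearGroup.map e (Matrix.GeneralLinearGroup.scalar ι d)
    refine Units.ext ?_
    ext i j
    by_cases hij : i = j <;> simp [hij]
  have hHle : ∀ X : Subgroup (GO Q), U ≤ X → G₁ ∈ X → H ≤ X := by
    intro X hX hG
    refine sup_le (sup_le (le_sup_left.trans hX) ?_) (le_sup_right.trans hX)
    rintro _ ⟨g, hg, rfl⟩
    obtain ⟨c, hc, -⟩ := show Proper Q₀ g.1 from hg
    haveI := Fintype.ofFinite K
    by_cases hcs : IsSquare (c : K)
    · obtain ⟨d, hd⟩ := hcs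
      have hd0 : d ≠ 0 := fun h0 => c.ne_zero (by rw [hd, h0, mul_zero])
      exact hX (hsmall g hg c (Units.mk0 d hd0) hc (Units.ext hd.symm))
    · have hns' : ¬ IsSquare ((c₀⁻¹ : Kˣ) : K) := fun h => hns₀ (by simpa using h.inv)
      obtain ⟨d, hd⟩ := isSquare_mul_of_not_isSquare hcs hns'
      have hd0 : d ≠ 0 := fun h0 => by
        rw [h0, mul_zero] at hd; exact mul_ne_zero c.ne_zero (c₀⁻¹).ne_zero hd
      have h := hsmall (g * (⟨g₀, c₀, hc₀⟩ : GO Q₀)⁻¹)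
        (mul_mem hg (inv_mem (show (⟨g₀, c₀, hc₀⟩ : GO Q₀) ∈ GP Q₀ from hp₀))) (c * c₀⁻¹)
        (Units.mk0 d hd0) (hc.mul hc₀.inv) (Units.ext (by simpa using hd.symm))
      rw [map_mul, map_inv] at h
      simpa [hG₁] using mul_mem (hX h) hG
  -- the square multiplier subgroup
  let S : Subgroup ↥(GP Q) :=
    { carrier := {g | ∃ c t : Fˣ, HasMult Q g.1.1 c ∧ t * t = c}
      one_mem' := ⟨1, 1, HasMult.one, mul_one 1⟩
      mul_mem' := by
        rintro a b ⟨c, t, hc, ht⟩ ⟨c', t', hc', ht'⟩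
        exact ⟨c * c', t * t', hc.mul hc', by rw [mul_mul_mul_comm, ht, ht']⟩
      inv_mem' := by
        rintro a ⟨c, t, hc, ht⟩
        exact ⟨c⁻¹, t⁻¹, hc.inv, by rw [← mul_inv, ht]⟩ }
  have hS : S.index = 2 := by
    haveI := Fintype.ofFinite F
    obtain ⟨n, d, hnd, hnp, hdns⟩ := hn
    refine Subgroup.index_eq_two_iff.2 ⟨⟨⟨n, d, hnd⟩, hnp⟩, fun b => ?_⟩
    obtain ⟨c, hc, -⟩ := show Proper Q b.1.1 from b.2
    have hbn : HasMult Q (b.1.1 * n) (c * d) := hc.mul hnd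
    by_cases hcs : IsSquare (c : F)
    · refine Or.inr ⟨?_, ?_⟩
      · obtain ⟨t, ht⟩ := hcs
        have ht0 : t ≠ 0 := fun h0 => c.ne_zero (by rw [ht, h0, mul_zero])
        exact ⟨c, Units.mk0 t ht0, hc, Units.ext ht.symm⟩
      · rintro ⟨c', t, hc', ht⟩
        rw [hc'.unique hv hbn] at ht
        refine hdns ?_
        have e1 : (d : F) = (c : F)⁻¹ * ((t : F) * t) := by
          rw [← Units.val_mul, ht, Units.val_mul, inv_mul_cancel_left₀ c.ne_zero]
        rw [e1]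
        exact hcs.inv.mul ⟨_, rfl⟩
    · refine Or.inl ⟨?_, ?_⟩
      · obtain ⟨t, ht⟩ := isSquare_mul_of_not_isSquare hcs hdns
        have ht0 : t ≠ 0 := fun h0 => mul_ne_zero c.ne_zero d.ne_zero (by rw [ht, h0, mul_zero])
        exact ⟨c * d, Units.mk0 t ht0, hbn, Units.ext (by simpa using ht.symm)⟩
      · rintro ⟨c', t, hc', ht⟩
        exact hcs ⟨t, by rw [← hc'.unique hv hc, ← ht]; rfl⟩
  have hUS : U.subgroupOf (GP Q) ≤ S := by
    intro g hg
    obtain ⟨u, x, e'⟩ := mem_omega_sup_scalar (Subgroup.mem_subgroupOf.1 hg)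
    refine ⟨u * u, u, ?_, rfl⟩
    rw [e']
    show HasMult Q (Matrix.GeneralLinearGroup.scalar ι u * x.1.1) (u * u)
    simpa using (HasMult.scalar (Q := Q) u).mul (HasMult.isometry x.1)
  constructor
  · intro hkΩ
    have hG₁U : G₁ ∈ U := hG₁k ▸ mul_mem (Subgroup.mem_sup_right ⟨s, rfl⟩) ((hiso k).2 hkΩ)
    rw [le_antisymm (hHle U le_rfl hG₁U) hUH, ← Subgroup.relIndex_mul_index hUS, hS]
    suffices h : (U.subgroupOf (GP Q)).relIndex S = 2 by rw [h]
    refine Subgroup.index_eq_two_iff.2 ⟨⟨⟨W, hwP⟩, 1, 1, HasMult.isometry w, mul_one 1⟩, fun b => ?_⟩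
    obtain ⟨c, t, hc, ht⟩ := b.2
    rcases hsq b.1.1 b.1.2 c t hc ht with h | h
    · exact Or.inr ⟨h, fun h' => hwΩ ((hiso w).1 ((U.mul_mem_cancel_left h).1 h'))⟩
    · exact Or.inl ⟨h, fun h' => hwΩ ((hiso w).1 ((U.mul_mem_cancel_left h').1 h))⟩
  · intro hkΩ
    suffices h : H.subgroupOf (GP Q) = S by rw [h, hS]
    refine le_antisymm ?_ ?_
    · intro g hg
      have hle : H ≤ S.map (GP Q).subtype := hHle _ ?_ ?_
      · obtain ⟨g', hg', e'⟩ := hle (Subgroup.mem_subgroupOf.1 hg)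
        rwa [Subtype.ext e'] at hg'
      · intro x hx
        have hxP : x ∈ GP Q := (sup_le (by rintro _ ⟨a, rfl⟩; exact proper_omega a)
          (by rintro _ ⟨u, rfl⟩; exact proper_scalar hev u) : U ≤ GP Q) hx
        exact ⟨⟨x, hxP⟩, hUS (Subgroup.mem_subgroupOf.2 hx), rfl⟩
      · exact ⟨⟨G₁, (M.mem_iff _).2 hp₀⟩, ⟨Units.map (e : K →* F) c₀, s, fun v => hE.hasMult hc₀ v, hs⟩, rfl⟩
    · rintro g ⟨c, t, hc, ht⟩
      rw [Subgroup.mem_subgroupOf]
      have hWH : W ∈ H := by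
        have hkd : (mat Q k).det = 1 := by
          refine ((proper_isometry_iff hv k).1 ?_).1 h2F
          exact ((GP Q).mul_mem_cancel_left (y := (⟨k.1, isometry_mem_GO k⟩ : GO Q))
            (x := scalarGO Q s) (M.scalar_mem s)).1 (hG₁k ▸ (M.mem_iff _).2 hp₀)
        have h1 := (hiso (k * w)).2 ((mem_omega_or_mul h2F C.nondeg hw hwns hkd).resolve_left hkΩ)
        have h3 : (⟨k.1, isometry_mem_GO k⟩ : GO Q) ∈ H :=
          (H.mul_mem_cancel_left (hUH (Subgroup.mem_sup_right ⟨s, rfl⟩))).1 (hG₁k ▸ hG₁H)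
        exact (H.mul_mem_cancel_left h3).1 (hUH h1)
      rcases hsq g.1 g.2 c t hc ht with h | h
      · exact hUH h
      · exact (H.mul_mem_cancel_right hWH).1 (hUH h)

end CfsgLib.AutPOmega
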