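import Cfsg.Agent.AutPOmega.Balance
import Cfsg.Agent.LocalEven50.Basic

/-!
# A criterion for a trivial odd core of the centraliser of an involutory similitude

The two hypotheses concern only the isometries commuting with the similitude: normal subgroups of odd
order modulo signs are trivial, and a semisimilarity commuting with all fourth powers squares to a scalar.
-/

set_option autoImplicit false
set_option linter.unusedSectionVars false
set_option linter.style.haveILetI false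

namespace CfsgLib.AutPOmega

open Matrix Module CfsgLib.Spinor CfsgLib.Forms CfsgLib.Forms4
open CfsgLib.LocalEven50 (le_pPrimeCore pPrimeCore_coprime pPrimeCore_normal)

variable {F : Type*} [Field F] [Finite F] {ι : Type} [Fintype ι] [DecidableEq ι]
  {Q : QuadraticForm F (ι → F)}

/-- The odd core is invariant under automorphisms. -/
theorem pPrimeCore_map_le {G : Type*} [Group G] [Finite G] {p : ℕ} (e : G ≃* G) :
    (Cfsg.pPrimeCore p G).map e.toMonoidHom ≤ Cfsg.pPrimeCore p G :=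
  le_pPrimeCore ((pPrimeCore_normal p).map _ e.surjective)
    (by rw [Subgroup.card_map_of_injective e.injective]; exact pPrimeCore_coprime p)

/-- An isometry as a similitude. -/
def isoGO (Q : QuadraticForm F (ι → F)) : ↥(Cfsg.isometryGroup F ⇑Q) →* GO Q :=
  (Cfsg.isometryGroup F ⇑Q).subtype.codRestrict _ isometry_mem_GO

theorem isoGO_val (k : ↥(Cfsg.isometryGroup F ⇑Q)) : (isoGO Q k).1 = k.1 := rfl

/-- The isometries commuting with `a`. -/
def isoCent (a : GO Q) : Subgroup ↥(Cfsg.isometryGroup F ⇑Q) :=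
  (Subgroup.centralizer {a.1}).comap (Cfsg.isometryGroup F ⇑Q).subtype

theorem mem_isoCent {a : GO Q} {k : ↥(Cfsg.isometryGroup F ⇑Q)} :
    k ∈ isoCent a ↔ k.1 * a.1 = a.1 * k.1 := Subgroup.mem_centralizer_singleton_iff

theorem sim_isoGO_mem_centralizer {a : GO Q} {k : ↥(Cfsg.isometryGroup F ⇑Q)} (hk : k ∈ isoCent a) :
    sim (isoGO Q k) ∈ Subgroup.centralizer {sim a} := by
  rw [Subgroup.mem_centralizer_singleton_iff, ← map_mul, ← map_mul]
  exact congrArg sim (Subtype.ext (mem_isoCent.1 hk))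

/-- The square of a lift of a centralising inner automorphism commutes with `a`. -/
theorem Ctx.mul_self_mem_isoCent (C : Ctx Q) {a : GO Q} {k : ↥(Cfsg.isometryGroup F ⇑Q)}
    (h : sim (isoGO Q k) * sim a = sim a * sim (isoGO Q k)) : k * k ∈ isoCent a := by
  rw [← map_mul, ← map_mul, sim_eq_sim_iff C] at h
  obtain ⟨z, hz⟩ := h
  rw [Subgroup.coe_mul, Subgroup.coe_mul, isoGO_val] at hz
  obtain ⟨c, hc⟩ := a.2
  have hc : HasMult Q a.1 c := hc
  have hzz : z * z = 1 := by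
    have h1 : HasMult Q (k.1 * a.1) (z * z * (c * 1)) :=
      hz ▸ (HasMult.scalar z).mul (hc.mul (HasMult.isometry k))
    have h2 := h1.unique C.exists_value_one ((HasMult.isometry k).mul hc)
    rwa [mul_one, one_mul, mul_eq_right] at h2
  rw [mem_isoCent, Subgroup.coe_mul]
  calc k.1 * k.1 * a.1 = k.1 * (Matrix.GeneralLinearGroup.scalar ι z * (a.1 * k.1)) := by
        rw [mul_assoc, hz]
    _ = Matrix.GeneralLinearGroup.scalar ι z * (k.1 * a.1) * k.1 := by
        rw [← mul_assoc, ← (scalar_commute z k.1).eq]; simp only [mul_assoc]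
    _ = Matrix.GeneralLinearGroup.scalar ι (z * z) * (a.1 * (k.1 * k.1)) := by
        rw [hz, map_mul]; simp only [mul_assoc]
    _ = a.1 * (k.1 * k.1) := by rw [hzz, map_one, one_mul]

/-- An element of odd order squaring to one is trivial. -/
theorem eq_one_of_sq_odd {X : Type*} [Group X] {β : X} {W : Subgroup X} (hβ : β ∈ W)
    (hW : (Nat.card W).Coprime 2) (h : β * β = 1) : β = 1 :=
  orderOf_eq_one_iff.1 (Nat.eq_one_of_dvd_coprimes hW (Subgroup.orderOf_dvd_natCard W hβ)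
    (orderOf_dvd_of_pow_eq_one (by rw [pow_two, h])))

/-- The centraliser of an involutory similitude automorphism has no odd core. -/
theorem Ctx.core_sim_eq_bot (C : Ctx Q) (a : GO Q)
    (hex : ∀ β : MulAut (Cfsg.POmega F ⇑Q), β * sim a = sim a * β → ∃ S : Semi Q, S.aut = β)
    (hP : ∀ P : Subgroup ↥(Cfsg.isometryGroup F ⇑Q), P ≤ isoCent a →
      (∀ g ∈ isoCent a, ∀ y ∈ P, g * y * g⁻¹ ∈ P) →
      (∀ y ∈ P, ∃ n : ℕ, Odd n ∧ ((∀ v, mat Q (y ^ n) *ᵥ v = v) ∨ ∀ v, mat Q (y ^ n) *ᵥ v = -v)) →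
      ∀ y ∈ P, y * y = 1)
    (hS : ∀ S : Semi Q, (∀ h ∈ isoCent a, ∀ v, S.fn (mat Q (h * h * (h * h)) *ᵥ v) =
        mat Q (h * h * (h * h)) *ᵥ S.fn v) →
      S.σ = 1 ∧ ∃ u : Fˣ, S.g * S.g = Matrix.GeneralLinearGroup.scalar ι u)
    (A : Subgroup (MulAut (Cfsg.POmega F ⇑Q))) (hinn : ∀ k, MulAut.conj k ∈ A) :
    Cfsg.pPrimeCore 2 ↥(A ⊓ Subgroup.centralizer {sim a}) = ⊥ := by
  classical
  haveI := finite_mulAut' (T := Cfsg.POmega F ⇑Q)
  haveI : Fact (Nat.Prime 2) := ⟨Nat.prime_two⟩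
  haveI := C.nonempty
  set L : Subgroup (MulAut (Cfsg.POmega F ⇑Q)) :=
    (MulAut.conj (G := Cfsg.POmega F ⇑Q)).range ⊓ Subgroup.centralizer {sim a} with hLdef
  have hconj : ∀ g ∈ Subgroup.centralizer {sim a}, ∀ l ∈ L, g * l * g⁻¹ ∈ L := by
    rintro g hg l ⟨⟨k, rfl⟩, hl⟩
    exact Subgroup.mem_inf.2 ⟨⟨g k, conj_mulEquiv g k⟩, mul_mem (mul_mem hg hl) (inv_mem hg)⟩
  set N := (Cfsg.pPrimeCore 2 ↥L).map L.subtype with hN
  have hNc : (Nat.card N).Coprime 2 := by
    rw [hN, Subgroup.card_map_of_injective L.subtype_injective]; exact pPrimeCore_coprime 2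
  have hNconj : ∀ g ∈ Subgroup.centralizer {sim a}, ∀ n ∈ N, g * n * g⁻¹ ∈ N := by
    rintro g hg _ ⟨n, hn, rfl⟩
    let e : ↥L ≃* ↥L :=
      { toFun := fun l => ⟨g * l.1 * g⁻¹, hconj g hg l.1 l.2⟩
        invFun := fun l => ⟨g⁻¹ * l.1 * g, by simpa using hconj g⁻¹ (inv_mem hg) l.1 l.2⟩
        left_inv := fun l => Subtype.ext (by simp [mul_assoc])
        right_inv := fun l => Subtype.ext (by simp [mul_assoc])
        map_mul' := fun l l' => Subtype.ext (by simp [mul_assoc]) }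
    exact ⟨e n, pPrimeCore_map_le e ⟨n, hn, rfl⟩, rfl⟩
  -- the centralised inner automorphisms have no odd core
  have hNbot : N = ⊥ := by
    set θ := (sim (Q := Q)).comp (isoGO Q) with hθ
    have hPsq := hP (isoCent a ⊓ N.comap θ) inf_le_left
      (fun g hg y hy => Subgroup.mem_inf.2 ⟨mul_mem (mul_mem hg hy.1) (inv_mem hg), by
        rw [Subgroup.mem_comap, map_mul, map_mul, map_inv]
        exact hNconj _ (sim_isoGO_mem_centralizer hg) _ hy.2⟩)
      fun y hy => by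
        have hodd : Odd (orderOf (θ y)) := by
          rw [← Nat.coprime_two_right]
          exact hNc.coprime_dvd_left (Subgroup.orderOf_dvd_natCard N hy.2)
        refine ⟨orderOf (θ y), hodd, ?_⟩
        have h1 : sim (isoGO Q (y ^ orderOf (θ y))) = 1 := by
          show θ _ = 1
          rw [map_pow, pow_orderOf_eq_one]
        obtain ⟨u, hu⟩ := (sim_eq_one_iff C).1 h1
        rw [isoGO_val] at hu
        have huu : u * u = 1 := ((hu ▸ HasMult.scalar u).unique C.exists_value_one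
          (HasMult.isometry (y ^ orderOf (θ y))))
        have hv : ∀ v, mat Q (y ^ orderOf (θ y)) *ᵥ v = (u : F) • v := fun v => by
          show ((y ^ orderOf (θ y)).1 : GL ι F).1 *ᵥ v = _
          rw [hu, scalar_mulVec]
        rcases mul_self_eq_one_iff.1 (by simpa using congrArg Units.val huu : (u : F) * u = 1) with h | h
        · exact Or.inl fun v => by rw [hv, h, one_smul]
        · exact Or.inr fun v => by rw [hv, h, neg_one_smul]
    refine eq_bot_iff.2 fun β hβ => Subgroup.mem_bot.2 (eq_one_of_sq_odd hβ hNc ?_)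
    obtain ⟨⟨_, ⟨t, rfl⟩, hcent⟩, hn, rfl⟩ := hβ
    obtain ⟨k, rfl⟩ := pr_surjective t
    have hsim : θ k.1 = inner k := sim_omegaHom k
    have hmemN : inner k ∈ N := ⟨_, hn, rfl⟩
    have hk2 : k.1 * k.1 ∈ isoCent a := C.mul_self_mem_isoCent
      (show θ k.1 * sim a = sim a * θ k.1 by rw [hsim]; exact Subgroup.mem_centralizer_singleton_iff.1 hcent)
    have hodd : Odd (orderOf (inner k)) := by
      rw [← Nat.coprime_two_right]
      exact hNc.coprime_dvd_left (Subgroup.orderOf_dvd_natCard N hmemN)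
    obtain ⟨j, hj⟩ := hodd
    have hpw : θ ((k.1 * k.1) ^ (j + 1)) = inner k := by
      rw [map_pow, map_mul, hsim, ← pow_two, ← pow_mul, show 2 * (j + 1) = 2 * j + 1 + 1 by ring, ← hj,
        pow_succ, pow_orderOf_eq_one, one_mul]
    have hy := hPsq ((k.1 * k.1) ^ (j + 1)) (Subgroup.mem_inf.2 ⟨pow_mem hk2 _, by rw [Subgroup.mem_comap, hpw]; exact hmemN⟩)
    show inner k * inner k = 1
    rw [← hpw, ← map_mul, hy, map_one]
  -- hence the odd core centralises them
  set W := (Cfsg.pPrimeCore 2 ↥(A ⊓ Subgroup.centralizer {sim a})).map (Subgroup.subtype _) with hW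
  have hWc : (Nat.card W).Coprime 2 := by
    rw [hW, Subgroup.card_map_of_injective (Subgroup.subtype_injective _)]; exact pPrimeCore_coprime 2
  have hLA : ∀ l ∈ L, l ∈ A ⊓ Subgroup.centralizer {sim a} := by
    rintro l ⟨⟨k, rfl⟩, hl⟩; exact ⟨hinn k, hl⟩
  have hWn : ∀ g ∈ A ⊓ Subgroup.centralizer {sim a}, ∀ w ∈ W, g * w * g⁻¹ ∈ W := by
    rintro g hg _ ⟨w, hw, rfl⟩
    exact ⟨⟨g, hg⟩ * w * ⟨g, hg⟩⁻¹, (pPrimeCore_normal 2).conj_mem w hw _, rfl⟩
  have hWL : ∀ z ∈ W, z ∈ L → z = 1 := by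
    intro z hz hzL
    have hle : (W ⊓ L).subgroupOf L ≤ Cfsg.pPrimeCore 2 ↥L := by
      refine le_pPrimeCore ⟨fun n hn g => ?_⟩ ?_
      · have hn' := Subgroup.mem_subgroupOf.1 hn
        exact Subgroup.mem_subgroupOf.2 (Subgroup.mem_inf.2 ⟨hWn _ (hLA _ g.2) _ hn'.1, mul_mem (mul_mem g.2 n.2) (inv_mem g.2)⟩)
      · rw [Nat.card_congr (Subgroup.subgroupOfEquivOfLe inf_le_right).toEquiv]
        exact hWc.coprime_dvd_left (Subgroup.card_dvd_of_le inf_le_left)
    have h1 : z ∈ N := ⟨⟨z, hzL⟩, hle (Subgroup.mem_subgroupOf.2 ⟨hz, hzL⟩), rfl⟩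
    rwa [hNbot, Subgroup.mem_bot] at h1
  refine (Subgroup.map_eq_bot_iff_of_injective _ (Subgroup.subtype_injective _)).1 (eq_bot_iff.2 fun β hβ => ?_)
  refine Subgroup.mem_bot.2 (eq_one_of_sq_odd hβ hWc ?_)
  obtain ⟨w, -, hwβ⟩ := id hβ
  have hβC : β ∈ A ⊓ Subgroup.centralizer {sim a} := hwβ ▸ w.2
  have hcomm : ∀ l ∈ L, β * l = l * β := by
    intro l hl
    have h1 : β * l * β⁻¹ * l⁻¹ ∈ W := by
      rw [show β * l * β⁻¹ * l⁻¹ = β * (l * β⁻¹ * l⁻¹) by group]
      exact mul_mem hβ (hWn l (hLA l hl) _ (inv_mem hβ))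
    have h3 := hWL _ h1 (mul_mem (hconj β hβC.2 l hl) (inv_mem hl))
    rw [mul_inv_eq_one, mul_inv_eq_iff_eq_mul] at h3
    exact h3
  obtain ⟨S, rfl⟩ := hex β (Subgroup.mem_centralizer_singleton_iff.1 hβC.2)
  obtain ⟨hσ, u, hu⟩ := hS S fun h hh v => by
    set k : OG Q := ⟨h * h, C.mul_self_mem_omega h⟩ with hk
    have hkL : inner k ∈ L := ⟨⟨pr Q k, rfl⟩, by
      rw [← sim_omegaHom k]
      exact sim_isoGO_mem_centralizer (mul_mem hh hh)⟩
    have hfix : S.aut (pr Q k) = pr Q k := C.conj_injective (by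
      rw [conj_mulEquiv, hcomm _ hkL, mul_inv_cancel_right])
    rw [S.aut_pr] at hfix
    obtain ⟨r, hr, hrv⟩ := C.app_of_mem_center (QuotientGroup.eq.1 hfix)
    have hk' : ∀ v, app k v = r • app (S.omegaMap k) v := fun v => by
      rw [show k = S.omegaMap k * ((S.omegaMap k)⁻¹ * k) by rw [mul_inv_cancel_left], app_mul, hrv,
        app_smul, mul_inv_cancel_left]
    show S.fn (app (k * k) v) = app (k * k) (S.fn v)
    rw [← S.app_omegaMap (k * k) v, map_mul, app_mul, app_mul, hk', hk', app_smul, smul_smul, hr, one_smul]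
  rw [← Semi.mul_aut, Semi.aut_congr (T := simSemi (⟨_, scalar_mem_GO u⟩ : GO Q)) ?_ ?_,
    ← sim_apply, sim_scalar C]
  · rw [Semi.mul_g, hσ, CfsgLib.AutPSL.mapGL_one_apply, hu]
    rfl
  · rw [Semi.mul_σ, hσ, one_mul]
    rfl

end CfsgLib.AutPOmega
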