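import Cfsg.Agent.AutPOmega.InvolutionSplit
import Mathlib.Algebra.QuadraticAlgebra.Basic
import Mathlib.LinearAlgebra.FiniteDimensional.Basic

/-!
# Self-adjoint square roots of a non-square scalar: the hypotheses of the core criterion

For `a² = d` with `d` a non-square and `a` self-adjoint, the space is a space over `F(√d)` carrying a
symmetric form whose isometries are the isometries of `Q` commuting with `a`.
-/

set_option autoImplicit false
set_option linter.unusedSectionVars false
set_option linter.style.haveILetI false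

namespace CfsgLib.AutPOmega

open Matrix Module CfsgLib.Spinor CfsgLib.Forms CfsgLib.Forms4

/-- Normal subgroups of odd order modulo signs, seen through a representation onto the isometries. -/
theorem sign_of_rep {K V G : Type*} [Field K] [Finite K] [AddCommGroup V] [Module K V]
    [FiniteDimensional K V] [Group G] {β : LinearMap.BilinForm K V} (hs : ∀ u v, β u v = β v u)
    (h2 : (2 : K) ≠ 0) (hnd : ∀ u, (∀ v, β u v = 0) → u = 0) (hdim : 3 ≤ finrank K V)
    (ρ : G →* (V ≃ₗ[K] V)) (hiso : ∀ x u v, β (ρ x u) (ρ x v) = β u v)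
    (hsurj : ∀ g : V ≃ₗ[K] V, (∀ u v, β (g u) (g v) = β u v) → ∃ x, ρ x = g)
    (P : Subgroup G) (hn : ∀ g, ∀ x ∈ P, g * x * g⁻¹ ∈ P)
    (hodd : ∀ x ∈ P, ∃ n : ℕ, Odd n ∧ ((∀ v, ρ (x ^ n) v = v) ∨ ∀ v, ρ (x ^ n) v = -v))
    {x : G} (hx : x ∈ P) : (∀ v, ρ x v = v) ∨ ∀ v, ρ x v = -v := by
  refine ClassicalCore.orth_odd_normal_trivial (P := P.map ρ) hs h2 hnd hdim ?_ ?_ ?_ ⟨x, hx, rfl⟩
  · rintro g hg _ ⟨k, hk, rfl⟩
    obtain ⟨k', rfl⟩ := hsurj g hg
    exact ⟨k' * k * k'⁻¹, hn k' k hk, by rw [map_mul, map_mul, map_inv]⟩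
  · rintro _ ⟨k, hk, rfl⟩
    obtain ⟨n, hn', h⟩ := hodd k hk
    exact ⟨n, hn', by rw [← map_pow]; exact h⟩
  · rintro _ ⟨k, -, rfl⟩ u v
    exact hiso k u v

variable {F : Type*} [Field F] [Finite F] {ι : Type} [Fintype ι] [DecidableEq ι]
  {Q : QuadraticForm F (ι → F)}

set_option quotPrecheck false in
local notation "B" => QuadraticMap.polar (DFunLike.coe Q)

theorem polar_mulVec_mult {g : GL ι F} {c : Fˣ} (hg : HasMult Q g c) (u v : ι → F) :
    B (g.1 *ᵥ u) (g.1 *ᵥ v) = (c : F) * B u v := by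
  simp only [QuadraticMap.polar, ← Matrix.mulVec_add]
  rw [hg, hg, hg]
  ring

/-- A similitude squaring to the non-square scalar that is its multiplier. -/
structure InvField (Q : QuadraticForm F (ι → F)) where
  /-- the similitude -/
  a : GO Q
  /-- its square -/
  d : Fˣ
  two : (2 : F) ≠ 0
  nondeg : (QuadraticMap.polarBilin Q).Nondegenerate
  nonsquare : ¬ IsSquare (d : F)
  sq : ∀ v, a.1.1 *ᵥ (a.1.1 *ᵥ v) = (d : F) • v
  mult : HasMult Q a.1 d

namespace InvField

variable (D : InvField Q)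

instance fact_nonsquare : Fact (∀ r : F, r ^ 2 ≠ (D.d : F) + 0 * r) :=
  ⟨fun r h => D.nonsquare ⟨r, by rw [← pow_two, h, zero_mul, add_zero]⟩⟩

/-- The action of the similitude. -/
abbrev A : (ι → F) →ₗ[F] (ι → F) := Matrix.mulVecLin D.a.1.1

theorem A_A (v : ι → F) : D.A (D.A v) = (D.d : F) • v := D.sq v

/-- The quadratic extension. -/
abbrev Ext : Type _ := QuadraticAlgebra F (D.d : F) 0

instance finite_ext : Finite D.Ext := Finite.of_equiv _ (QuadraticAlgebra.equivProd (D.d : F) 0).symm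

/-- The extension acting through `a`. -/
def act : D.Ext →ₐ[F] Module.End F (ι → F) :=
  QuadraticAlgebra.lift ⟨D.A, LinearMap.ext fun v => by
    rw [Module.End.mul_apply, A_A]; simp⟩

theorem act_apply (z : D.Ext) (v : ι → F) : D.act z v = z.re • v + z.im • D.A v := by
  simp [act]

/-- The space over the extension. -/
@[reducible] def module : Module D.Ext (ι → F) := Module.compHom _ D.act.toRingHom

/-- `β(u,v) = B(u,v) + B(au,v)/√d`. -/
def pairing (u v : ι → F) : D.Ext := ⟨B u v, B (D.A u) v / (D.d : F)⟩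

theorem polar_A_left (u v : ι → F) : B (D.A u) v = B u (D.A v) := by
  have h := polar_mulVec_mult D.mult u (D.A v)
  rw [show D.a.1.1 *ᵥ D.A v = (D.d : F) • v from D.sq v, QuadraticMap.polar_smul_right, smul_eq_mul] at h
  exact mul_left_cancel₀ D.d.ne_zero h

theorem pairing_symm (u v : ι → F) : D.pairing u v = D.pairing v u := by
  have h1 : B u v = B v u := QuadraticMap.polar_comm _ _ _
  have h2 : B (D.A u) v = B (D.A v) u := by rw [polar_A_left, QuadraticMap.polar_comm]
  ext
  · exact h1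
  · show B (D.A u) v / (D.d : F) = B (D.A v) u / (D.d : F)
    rw [h2]

theorem pairing_add_left (u u' v : ι → F) : D.pairing (u + u') v = D.pairing u v + D.pairing u' v := by
  ext <;> simp [pairing, QuadraticMap.polar_add_left, add_div, Matrix.mulVec_add]

theorem pairing_act_left (z : D.Ext) (u v : ι → F) :
    D.pairing (D.act z u) v = z * D.pairing u v := by
  have hd : (D.d : F) ≠ 0 := D.d.ne_zero
  ext
  · simp only [act_apply, pairing, QuadraticAlgebra.re_mul, QuadraticMap.polar_add_left,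
      QuadraticMap.polar_smul_left, smul_eq_mul]
    field_simp
  · simp only [act_apply, pairing, QuadraticAlgebra.im_mul, map_add, map_smul, A_A,
      QuadraticMap.polar_add_left, QuadraticMap.polar_smul_left, smul_eq_mul]
    field_simp
    ring

/-- The symmetric form over the extension. -/
def form : letI := D.module; LinearMap.BilinForm D.Ext (ι → F) :=
  letI := D.module
  LinearMap.mk₂ D.Ext D.pairing D.pairing_add_left D.pairing_act_left
    (fun u v v' => by rw [D.pairing_symm u, D.pairing_add_left, D.pairing_symm v, D.pairing_symm v'])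
    (fun z u v => by
      rw [D.pairing_symm u, D.pairing_symm u v]
      exact D.pairing_act_left z v u)

theorem finrank_ext : letI := D.module; 2 * finrank D.Ext (ι → F) = Fintype.card ι := by
  letI := D.module
  haveI : IsScalarTower F D.Ext (ι → F) := ⟨fun s z v => by
    show D.act (s • z) v = s • D.act z v
    rw [map_smul]; rfl⟩
  haveI : Module.Finite D.Ext (ι → F) := Module.Finite.of_restrictScalars_finite F _ _
  have h := finrank_mul_finrank F D.Ext (ι → F)
  rwa [QuadraticAlgebra.finrank_eq_two, finrank_fintype_fun_eq_card] at h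

end InvField

/-- The core criterion in the field case. -/
theorem InvField.core_eq_bot (C : Ctx Q) (D : InvField Q) (hcard : 6 ≤ Fintype.card ι)
    (hex : ∀ β : MulAut (Cfsg.POmega F ⇑Q), β * sim D.a = sim D.a * β → ∃ S : Semi Q, S.aut = β)
    (A : Subgroup (MulAut (Cfsg.POmega F ⇑Q))) (hinn : ∀ k, MulAut.conj k ∈ A) :
    Cfsg.pPrimeCore 2 ↥(A ⊓ Subgroup.centralizer {sim D.a}) = ⊥ := by
  letI := D.module
  haveI : Module.Finite D.Ext (ι → F) := Module.Finite.of_finite
  have hdim : 3 ≤ finrank D.Ext (ι → F) := by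
    have : 2 * finrank D.Ext (ι → F) = Fintype.card ι := D.finrank_ext
    omega
  have h2 : (2 : D.Ext) ≠ 0 := fun h => D.two (by
    have e := congrArg QuadraticAlgebra.re h
    rwa [show (2 : D.Ext).re = (2 : F) from rfl] at e)
  have hs : ∀ u v, D.form u v = D.form v u := D.pairing_symm
  have hnd : ∀ u, (∀ v, D.form u v = 0) → u = 0 := fun u h =>
    D.nondeg.1 u fun v => congrArg QuadraticAlgebra.re (h v)
  have hsmul : ∀ (z : D.Ext) (v : ι → F), z • v = z.re • v + z.im • D.A v := D.act_apply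
  have hω : ∀ v : ι → F, (⟨0, 1⟩ : D.Ext) • v = D.A v := fun v => by rw [hsmul]; simp
  have hF : ∀ (t : F) (v : ι → F), (⟨t, 0⟩ : D.Ext) • v = t • v := fun t v => by rw [hsmul]; simp
  -- isometries over the extension commute with `a`
  have ext_iso : ∀ g : (ι → F) ≃ₗ[D.Ext] (ι → F), (∀ u v, D.form (g u) (g v) = D.form u v) →
      ∃ k ∈ isoCent D.a, ∀ v, mat Q k *ᵥ v = g v := by
    intro g hg
    let L : (ι → F) ≃ₗ[F] (ι → F) :=
      { g.toAddEquiv with
        map_smul' := fun t v => by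
          show g (t • v) = t • g v
          rw [← hF, g.map_smul, hF] }
    have hL : ∀ v, Q (L v) = Q v := fun v => by
      rw [quad_eq_half_polar D.two (L v), quad_eq_half_polar D.two v]
      exact congrArg (· / 2) (congrArg QuadraticAlgebra.re (hg v v))
    refine ⟨isoOfEquiv L hL, mem_isoCent.2 (Units.ext (Matrix.ext_iff_mulVec.2 fun v => ?_)),
      mat_isoOfEquiv L hL⟩
    rw [Units.val_mul, Units.val_mul, ← Matrix.mulVec_mulVec, ← Matrix.mulVec_mulVec]
    show mat Q (isoOfEquiv L hL) *ᵥ D.A v = D.A (mat Q (isoOfEquiv L hL) *ᵥ v)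
    rw [mat_isoOfEquiv, mat_isoOfEquiv]
    show g (D.A v) = D.A (g v)
    rw [← hω, g.map_smul, hω]
  have hlin : ∀ k ∈ isoCent D.a, ∀ (z : D.Ext) (v : ι → F), mat Q k *ᵥ (z • v) = z • (mat Q k *ᵥ v) := by
    intro k hk z v
    rw [hsmul, hsmul, Matrix.mulVec_add, Matrix.mulVec_smul, Matrix.mulVec_smul]
    congr 2
    show k.1.1 *ᵥ (D.a.1.1 *ᵥ v) = D.a.1.1 *ᵥ (k.1.1 *ᵥ v)
    rw [Matrix.mulVec_mulVec, Matrix.mulVec_mulVec, ← Units.val_mul, ← Units.val_mul, mem_isoCent.1 hk]
  let res : ↥(isoCent D.a) →* ((ι → F) ≃ₗ[D.Ext] (ι → F)) :=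
    { toFun := fun k =>
        { toFun := fun v => mat Q k.1 *ᵥ v
          invFun := fun v => mat Q k.1⁻¹ *ᵥ v
          map_add' := Matrix.mulVec_add _
          map_smul' := hlin k.1 k.2
          left_inv := fun v => by
            show mat Q k.1⁻¹ *ᵥ (mat Q k.1 *ᵥ v) = v
            rw [Matrix.mulVec_mulVec, ← mat_mul, inv_mul_cancel, mat_one, Matrix.one_mulVec]
          right_inv := fun v => by
            show mat Q k.1 *ᵥ (mat Q k.1⁻¹ *ᵥ v) = v
            rw [Matrix.mulVec_mulVec, ← mat_mul, mul_inv_cancel, mat_one, Matrix.one_mulVec] }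
      map_one' := LinearEquiv.ext fun v => Matrix.one_mulVec v
      map_mul' := fun k l => LinearEquiv.ext fun v => (Matrix.mulVec_mulVec v (mat Q k.1) (mat Q l.1)).symm }
  have res_iso : ∀ k u v, D.form (res k u) (res k v) = D.form u v := fun k u v => by
    show D.pairing (mat Q k.1 *ᵥ u) (mat Q k.1 *ᵥ v) = D.pairing u v
    have hA : D.A (mat Q k.1 *ᵥ u) = mat Q k.1 *ᵥ D.A u := by
      show D.a.1.1 *ᵥ (k.1.1.1 *ᵥ u) = k.1.1.1 *ᵥ (D.a.1.1 *ᵥ u)
      rw [Matrix.mulVec_mulVec, Matrix.mulVec_mulVec, ← Units.val_mul, ← Units.val_mul, mem_isoCent.1 k.2]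
    simp only [pairing, hA, polar_mulVec]
  refine C.core_sim_eq_bot D.a hex (fun P hP hn hodd y hy => ?_) (fun S hS => ?_) A hinn
  · have h := sign_of_rep hs h2 hnd hdim res res_iso
      (fun g hg => by
        obtain ⟨k', hk', hkg⟩ := ext_iso g hg
        exact ⟨⟨k', hk'⟩, LinearEquiv.ext hkg⟩)
      (P.subgroupOf (isoCent D.a))
      (fun g x hx => Subgroup.mem_subgroupOf.2 (hn g.1 g.2 _ (Subgroup.mem_subgroupOf.1 hx)))
      (fun k hk => hodd k.1 (Subgroup.mem_subgroupOf.1 hk))
      (x := ⟨y, hP hy⟩) (Subgroup.mem_subgroupOf.2 hy)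
    refine mat_ext Q (Matrix.ext_iff_mulVec.2 fun v => ?_)
    rw [mat_mul, mat_one, Matrix.one_mulVec, ← Matrix.mulVec_mulVec]
    rcases h with h | h
    · have e : ∀ u, mat Q y *ᵥ u = u := h
      rw [e, e]
    · have e : ∀ u, mat Q y *ᵥ u = -u := h
      rw [e, e, neg_neg]
  let φ : (ι → F) →+ (ι → F) := { toFun := S.fn, map_zero' := S.fn_zero, map_add' := S.fn_add }
  obtain ⟨ν, hν⟩ := exists_homothety_of_comm hs h2 hnd hdim φ fun g hg v => by
    obtain ⟨k, hk, hkg⟩ := ext_iso g hg
    have h := hS k hk v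
    simp only [mat_mul, ← Matrix.mulVec_mulVec, hkg] at h
    exact h
  change ∀ v, S.fn v = ν • v at hν
  haveI := C.nonempty
  obtain ⟨w, hw⟩ := C.exists_value_one
  have hw0 : w ≠ 0 := fun h => one_ne_zero (α := F) (by rw [← hw, h, QuadraticMap.map_zero])
  have hν0 : ν ≠ 0 := fun h => S.fn_ne_zero hw0 (by rw [hν, h, zero_smul])
  have hσ : S.σ = 1 := RingEquiv.ext fun t => by
    have h := S.fn_smul t w
    rw [hν, hν, ← hF, ← hF, smul_smul, smul_smul] at h
    have h1 := smul_left_injective D.Ext hw0 h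
    rw [mul_comm] at h1
    exact (congrArg QuadraticAlgebra.re (mul_right_cancel₀ hν0 h1)).symm
  have hfn : ∀ v, S.fn v = ν.re • v + ν.im • D.A v := fun v => (hν v).trans (hsmul ν v)
  have hcross : ν.re * ν.im = 0 := by
    by_contra hne
    have key : ∀ v, ν.re * ν.im * B v (D.A v) =
        ((S.c : F) - ν.re * ν.re - ν.im * ν.im * (D.d : F)) * Q v := fun v => by
      have h : Q (S.fn v) = (S.c : F) * Q v := by rw [Semi.fn, S.quad, hσ, RingAut.one_apply]
      rw [hfn, QuadraticMap.map_add (⇑Q), QuadraticMap.map_smul, QuadraticMap.map_smul,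
        QuadraticMap.polar_smul_left, QuadraticMap.polar_smul_right,
        show Q (D.A v) = (D.d : F) * Q v from D.mult v] at h
      simp only [smul_eq_mul] at h
      linear_combination h
    set κ := ((S.c : F) - ν.re * ν.re - ν.im * ν.im * (D.d : F)) / (ν.re * ν.im) with hκ
    have hκ' : ∀ v, B v (D.A v) = κ * Q v := fun v => by
      rw [hκ, div_mul_eq_mul_div, eq_div_iff hne, ← key, mul_comm]
    have hA : ∀ v, D.A v = (κ / 2) • v := fun v => by
      refine sub_eq_zero.1 (D.nondeg.1 _ fun u => ?_)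
      have h := hκ' (v + u)
      rw [map_add, QuadraticMap.polar_add_left, QuadraticMap.polar_add_right,
        QuadraticMap.polar_add_right, hκ' v, hκ' u, QuadraticMap.map_add (⇑Q),
        ← D.polar_A_left v u, QuadraticMap.polar_comm _ u (D.A v)] at h
      show B (D.A v - (κ / 2) • v) u = 0
      rw [QuadraticMap.polar_sub_left, QuadraticMap.polar_smul_left, smul_eq_mul]
      have h2' : (2 : F) ≠ 0 := D.two
      field_simp
      linear_combination h
    refine D.nonsquare ⟨κ / 2, ?_⟩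
    have h := D.A_A w
    rw [hA w, map_smul, hA w, smul_smul] at h
    exact (smul_left_injective F hw0 h).symm
  set u := ν.re * ν.re + ν.im * ν.im * (D.d : F) with hu
  have hu0 : u ≠ 0 := fun h0 => hν0 (by
    rw [hu] at h0
    rcases mul_eq_zero.1 hcross with h | h <;> rw [h] at h0 <;> simp at h0
    · exact QuadraticAlgebra.ext h h0
    · exact QuadraticAlgebra.ext h0 h)
  refine ⟨hσ, Units.mk0 u hu0, Units.ext (Matrix.ext_iff_mulVec.2 fun v => ?_)⟩
  have hg : ∀ z, S.g.1 *ᵥ z = ν.re • z + ν.im • D.A z := fun z => by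
    rw [← hfn, Semi.fn, hσ]; rfl
  rw [Units.val_mul, ← Matrix.mulVec_mulVec, hg, hg, scalar_mulVec, Units.val_mk0, map_add, map_smul,
    map_smul, A_A, hu]
  match_scalars
  · ring
  · linear_combination (2 : F) * hcross

end CfsgLib.AutPOmega
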