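import Cfsg.Agent.AutPOmega.InvolutionNonsplit
import Cfsg.Agent.AutPOmega.Index
import Mathlib.RingTheory.Norm.Transitivity
import Mathlib.Algebra.QuadraticAlgebra.NormDeterminant
import Mathlib.LinearAlgebra.Projection

/-!
# Improper involutory similitude automorphisms have centralisers without odd core
-/

set_option autoImplicit false
set_option linter.unusedSectionVars false
set_option linter.style.haveILetI false

namespace CfsgLib.AutPOmega

open Matrix Module CfsgLib.Spinor CfsgLib.Forms CfsgLib.Forms4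

/-- The determinant and the eigenspaces of a linear involution. -/
theorem det_of_involution {F V : Type*} [Field F] [AddCommGroup V] [Module F V] [FiniteDimensional F V]
    (h2 : (2 : F) ≠ 0) (A : V →ₗ[F] V) (hA : ∀ v, A (A v) = v) :
    LinearMap.det A = (-1) ^ finrank F ↥(LinearMap.ker (A + LinearMap.id)) ∧
      finrank F ↥(LinearMap.ker (A - LinearMap.id)) + finrank F ↥(LinearMap.ker (A + LinearMap.id)) =
        finrank F V := by
  set P := LinearMap.ker (A - LinearMap.id)
  set M := LinearMap.ker (A + LinearMap.id)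
  have hP : ∀ {v}, v ∈ P ↔ A v = v := fun {v} => by simp [P, sub_eq_zero]
  have hM : ∀ {v}, v ∈ M ↔ A v = -v := fun {v} => by simp [M, add_eq_zero_iff_eq_neg]
  have hc : IsCompl P M := by
    refine ⟨disjoint_iff.2 (eq_bot_iff.2 fun v hv => ?_), codisjoint_iff.2 (eq_top_iff.2 fun v _ => ?_)⟩
    · have h : v = -v := (hP.1 hv.1).symm.trans (hM.1 hv.2)
      rw [eq_neg_iff_add_eq_zero, ← two_smul F v, smul_eq_zero] at h
      exact (Submodule.mem_bot F).2 (h.resolve_left h2)
    · refine Submodule.mem_sup.2 ⟨(2 : F)⁻¹ • (v + A v), hP.2 ?_, (2 : F)⁻¹ • (v - A v), hM.2 ?_, ?_⟩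
      · rw [map_smul, map_add, hA, add_comm]
      · rw [map_smul, map_sub, hA, ← smul_neg, neg_sub]
      · match_scalars <;> field_simp <;> ring
  refine ⟨?_, Submodule.finrank_add_eq_of_isCompl hc⟩
  set e := Submodule.prodEquivOfIsCompl P M hc
  have hconj : A = (e : ↥P × ↥M →ₗ[F] V) ∘ₗ (LinearMap.id.prodMap ((-1 : F) • LinearMap.id)) ∘ₗ
      (e.symm : V →ₗ[F] ↥P × ↥M) := by
    ext v
    obtain ⟨⟨u, w⟩, rfl⟩ := e.surjective v
    simp [e, hP.1 u.2, hM.1 w.2]
  rw [hconj, LinearMap.det_conj, LinearMap.det_prodMap, LinearMap.det_smul, LinearMap.det_id,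
    LinearMap.det_id, one_mul, mul_one]

/-- The determinant of a square root of a non-square. -/
theorem det_of_sq_nonsquare {F V : Type*} [Field F] [Finite F] [AddCommGroup V] [Module F V]
    [FiniteDimensional F V] (d : F) (hd : ¬ IsSquare d) (A : V →ₗ[F] V) (hA : ∀ v, A (A v) = d • v) :
    LinearMap.det A = (-d) ^ (finrank F V / 2) := by
  haveI : Fact (∀ r : F, r ^ 2 ≠ d + 0 * r) :=
    ⟨fun r h => hd ⟨r, by rw [← pow_two, h, zero_mul, add_zero]⟩⟩
  let act : QuadraticAlgebra F d 0 →ₐ[F] Module.End F V :=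
    QuadraticAlgebra.lift ⟨A, LinearMap.ext fun v => by rw [Module.End.mul_apply, hA]; simp⟩
  letI : Module (QuadraticAlgebra F d 0) V := Module.compHom _ act.toRingHom
  have hact : ∀ (z : QuadraticAlgebra F d 0) (v : V), z • v = z.re • v + z.im • A v := fun z v => by
    show act z v = _
    simp [act]
  haveI : IsScalarTower F (QuadraticAlgebra F d 0) V := ⟨fun s z v => by
    rw [hact, hact, QuadraticAlgebra.re_smul, QuadraticAlgebra.im_smul, smul_add, smul_assoc, smul_assoc]⟩
  haveI : Module.Finite (QuadraticAlgebra F d 0) V := Module.Finite.of_restrictScalars_finite F _ _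
  set w : QuadraticAlgebra F d 0 := ⟨0, 1⟩
  have hres : A = (w • (LinearMap.id : V →ₗ[QuadraticAlgebra F d 0] V)).restrictScalars F := by
    ext v
    rw [LinearMap.restrictScalars_apply, LinearMap.smul_apply, LinearMap.id_apply, hact]
    simp [w]
  have hn : finrank F V = 2 * finrank (QuadraticAlgebra F d 0) V := by
    rw [← finrank_mul_finrank F (QuadraticAlgebra F d 0) V, QuadraticAlgebra.finrank_eq_two]
  have hnorm : Algebra.norm F w = -d := by
    rw [Algebra.norm_apply, show Algebra.lmul F (QuadraticAlgebra F d 0) w =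
      DistribSMul.toLinearMap F (QuadraticAlgebra F d 0) w from rfl,
      QuadraticAlgebra.det_toLinearMap_eq_norm]
    simp [w, QuadraticAlgebra.norm]
  rw [hres, LinearMap.det_restrictScalars, LinearMap.det_smul, LinearMap.det_id, mul_one, map_pow,
    hnorm, hn, Nat.mul_div_cancel_left _ two_pos]

variable {F : Type*} [Field F] [Finite F] {ι : Type} [Fintype ι] [DecidableEq ι]
  {Q : QuadraticForm F (ι → F)}

theorem proper_of_det (h2 : (2 : F) ≠ 0) {g : GL ι F} {c : Fˣ} (hg : HasMult Q g c)
    (hd : (g : Matrix ι ι F).det = (c : F) ^ (Fintype.card ι / 2)) : Proper Q g :=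
  ⟨c, hg, fun _ => hd, fun h => absurd h h2⟩

/-- An improper similitude inducing an involution: the centraliser has no odd core. -/
theorem Ctx.core_improper (C : Ctx Q) (hev : Even (Fintype.card ι)) (h2 : (2 : F) ≠ 0) (a : GO Q)
    (ha : a ∉ GP Q) (hpow : sim a ^ 2 = 1)
    (hex : ∀ β : MulAut (Cfsg.POmega F ⇑Q), β * sim a = sim a * β → ∃ S : Semi Q, S.aut = β)
    (A : Subgroup (MulAut (Cfsg.POmega F ⇑Q))) (hinn : ∀ k, MulAut.conj k ∈ A) :
    Cfsg.pPrimeCore 2 ↥(A ⊓ Subgroup.centralizer {sim a}) = ⊥ := by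
  haveI := C.nonempty
  rw [pow_two, ← map_mul, sim_eq_one_iff C] at hpow
  obtain ⟨d, hd⟩ := hpow
  rw [Subgroup.coe_mul] at hd
  obtain ⟨c, hc⟩ := a.2
  have hc : HasMult Q a.1 c := hc
  have hcd : c * c = d * d :=
    (hd ▸ hc.mul hc : HasMult Q (Matrix.GeneralLinearGroup.scalar ι d) (c * c)).unique
      C.exists_value_one (HasMult.scalar d)
  have hsq : ∀ v, a.1.1 *ᵥ (a.1.1 *ᵥ v) = (d : F) • v := fun v => by
    rw [Matrix.mulVec_mulVec, ← Units.val_mul, hd, scalar_mulVec]
  by_cases hs : IsSquare (d : F)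
  · obtain ⟨s, hs⟩ := hs
    have hs0 : s ≠ 0 := fun h => d.ne_zero (by rw [hs, h, mul_zero])
    set u := Units.mk0 s hs0 with hu
    set a' : GO Q := scalarGO Q u⁻¹ * a with ha'
    have hsim : sim a' = sim a := by
      rw [ha', map_mul, show sim (scalarGO Q u⁻¹) = 1 from sim_scalar C _, one_mul]
    have haP : a' ∉ GP Q := fun h => ha ((Subgroup.mul_mem_cancel_left _ (proper_scalar hev u⁻¹)).1 h)
    have hav : ∀ v, a'.1.1 *ᵥ v = s⁻¹ • (a.1.1 *ᵥ v) := fun v => by
      rw [ha', Subgroup.coe_mul, scalarGO_val, Units.val_mul, ← Matrix.mulVec_mulVec, scalar_mulVec,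
        Units.val_inv_eq_inv_val, hu, Units.val_mk0]
    have hA2 : ∀ v, a'.1.1 *ᵥ (a'.1.1 *ᵥ v) = v := fun v => by
      rw [hav, hav, Matrix.mulVec_smul, hsq, smul_smul, smul_smul, hs, mul_assoc, ← mul_assoc s⁻¹ s,
        inv_mul_cancel₀ hs0, one_mul, inv_mul_cancel₀ hs0, one_smul]
    obtain ⟨hdet, hsum⟩ := det_of_involution h2 (Matrix.mulVecLin a'.1.1) hA2
    rw [show LinearMap.det (Matrix.mulVecLin a'.1.1) = a'.1.1.det by
      rw [← Matrix.toLin'_apply', LinearMap.det_toLin']] at hdet
    rw [finrank_fintype_fun_eq_card] at hsum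
    set np := finrank F ↥(LinearMap.ker (Matrix.mulVecLin a'.1.1 - LinearMap.id))
    set nm := finrank F ↥(LinearMap.ker (Matrix.mulVecLin a'.1.1 + LinearMap.id))
    obtain ⟨c', hc'⟩ := a'.2
    have hc' : HasMult Q a'.1 c' := hc'
    have hc1 : c' * c' = 1 := by
      have h1 : a'.1 * a'.1 = 1 := Units.ext (Matrix.ext_iff_mulVec.2 fun v => by
        rw [Units.val_mul, ← Matrix.mulVec_mulVec, hA2, Units.val_one, Matrix.one_mulVec])
      exact (h1 ▸ hc'.mul hc').unique C.exists_value_one HasMult.one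
    rcases mul_self_eq_one_iff.1 (by simpa using congrArg Units.val hc1 : (c' : F) * c' = 1) with h | h
    · let D : InvIso Q := ⟨a', h2, C.nondeg, hA2, fun v => by rw [hc' v, h, one_mul]⟩
      have hm : nm = finrank F ↥D.negInv.plus := by
        refine LinearEquiv.finrank_eq (LinearEquiv.ofEq _ _ (Submodule.ext fun v => ?_))
        rw [D.mem_negInv_plus, LinearMap.mem_ker, LinearMap.add_apply, add_eq_zero_iff_eq_neg]
        rfl
      have hp : np = finrank F ↥D.plus := rfl
      have hodd : Odd nm := by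
        rw [← Nat.not_even_iff_odd]
        intro he
        exact haP (proper_of_det h2 hc' (by rw [hdet, he.neg_one_pow, h, one_pow]))
      have hodd' : Odd np := by
        obtain ⟨i, hi⟩ := hev; obtain ⟨j, hj⟩ := hodd; exact ⟨i - j - 1, by omega⟩
      have h8 := C.card_ge
      have hcases : ∀ {x : ℕ}, Odd x → x ≤ 1 ∨ 3 ≤ x := fun ⟨j, hj⟩ => by omega
      rw [← hsim] at hex ⊢
      by_cases hge : 3 ≤ np
      · exact D.core_eq_bot C (hp ▸ hge) (hm ▸ hcases hodd) hex A hinn
      · have hsim' : sim D.negInv.a = sim a' := by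
          rw [sim_eq_sim_iff C]
          refine ⟨-1, Units.ext (Matrix.ext_iff_mulVec.2 fun v => ?_)⟩
          rw [Units.val_mul, ← Matrix.mulVec_mulVec, scalar_mulVec, Units.val_neg, Units.val_one,
            neg_one_smul]
          exact D.negInv_A v
        rw [← hsim'] at hex ⊢
        refine D.negInv.core_eq_bot C (by omega) ?_ hex A hinn
        have he : D.negInv.negInv.plus = D.plus := by
          ext v
          rw [D.negInv.mem_negInv_plus, D.negInv_A, D.mem_plus, neg_inj]
        rw [he, ← hp]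
        exact hcases hodd'
    · exfalso
      have hiso : ∀ {ε : F}, ε * ε = 1 → ∀ (W : Submodule F (ι → F)),
          (∀ v ∈ W, a'.1.1 *ᵥ v = ε • v) → 2 * finrank F W ≤ Fintype.card ι := by
        intro ε hε W hW
        have hle : W ≤ perp Q W := fun v hv w hw => by
          show QuadraticMap.polar (⇑Q) w v = 0
          have e := polar_mulVec_mult hc' w v
          rw [hW w hw, hW v hv, QuadraticMap.polar_smul_left, QuadraticMap.polar_smul_right, h,
            smul_eq_mul, smul_eq_mul, ← mul_assoc, hε, one_mul, neg_one_mul, eq_neg_iff_add_eq_zero,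
            ← two_mul] at e
          exact (mul_eq_zero.1 e).resolve_left h2
        have h3 := Submodule.finrank_mono hle
        rw [finrank_perp C.nondeg] at h3
        omega
      have h3 : 2 * np ≤ Fintype.card ι := hiso (ε := 1) (one_mul 1) _ fun v hv => by
        rw [one_smul]; simpa [sub_eq_zero] using hv
      have h4 : 2 * nm ≤ Fintype.card ι := hiso (ε := -1) (by ring) _ fun v hv => by
        rw [neg_one_smul]; simpa [add_eq_zero_iff_eq_neg] using hv
      exact haP (proper_of_det h2 hc' (by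
        rw [hdet, h, show Fintype.card ι / 2 = nm by omega]))
  · have hdetA : (a.1.1).det = (-(d : F)) ^ (Fintype.card ι / 2) := by
      rw [← LinearMap.det_toLin', det_of_sq_nonsquare (d : F) hs (Matrix.toLin' a.1.1)
        (fun v => by rw [Matrix.toLin'_apply, Matrix.toLin'_apply, hsq]), finrank_fintype_fun_eq_card]
    rcases eq_or_eq_neg_of_sq_eq_sq (c : F) (d : F)
      (by rw [pow_two, pow_two, ← Units.val_mul, ← Units.val_mul, hcd]) with h | h
    · exact InvField.core_eq_bot C ⟨a, d, h2, C.nondeg, hs, hsq, Units.ext h ▸ hc⟩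
        (by have := C.card_ge; omega) hex A hinn
    · exact absurd (proper_of_det h2 hc (by rw [hdetA, h])) ha

end CfsgLib.AutPOmega
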