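import Cfsg.Agent.AutPOmega.InvolutionCore
import Cfsg.Agent.AutPOmega.EichlerComm

/-!
# Involutory isometries: the two hypotheses of the core criterion

For an involutory isometry `a` with eigenspaces `V₊`, `V₋`, `dim V₊ ≥ 3`, restriction to either
eigenspace reduces both hypotheses to statements about the orthogonal group of that eigenspace.
-/

set_option autoImplicit false
set_option linter.unusedSectionVars false
set_option linter.style.haveILetI false

namespace CfsgLib.AutPOmega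

open Matrix Module CfsgLib.Spinor CfsgLib.Forms CfsgLib.Forms4

variable {F : Type*} [Field F] [Finite F] {ι : Type} [Fintype ι] [DecidableEq ι]
  {Q : QuadraticForm F (ι → F)}

set_option quotPrecheck false in
local notation "B" => QuadraticMap.polar (DFunLike.coe Q)

theorem quad_eq_half_polar (h2 : (2 : F) ≠ 0) (v : ι → F) : Q v = B v v / 2 := by
  rw [polar_self', mul_div_cancel_left₀ _ h2]

/-- An isometry from a linear equivalence. -/
def isoOfEquiv (L : (ι → F) ≃ₗ[F] (ι → F)) (hL : ∀ v, Q (L v) = Q v) : ↥(Cfsg.isometryGroup F ⇑Q) :=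
  ⟨⟨LinearMap.toMatrix' L.toLinearMap, LinearMap.toMatrix' L.symm.toLinearMap,
      by rw [← LinearMap.toMatrix'_comp]; simp, by rw [← LinearMap.toMatrix'_comp]; simp⟩,
    fun v _ => by
      show Q (LinearMap.toMatrix' L.toLinearMap *ᵥ v) = Q v
      rw [LinearMap.toMatrix'_mulVec]; exact hL v⟩

theorem mat_isoOfEquiv (L : (ι → F) ≃ₗ[F] (ι → F)) (hL : ∀ v, Q (L v) = Q v) (v : ι → F) :
    mat Q (isoOfEquiv L hL) *ᵥ v = L v := LinearMap.toMatrix'_mulVec _ v

/-- An involutory isometry in odd characteristic. -/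
structure InvIso (Q : QuadraticForm F (ι → F)) where
  /-- the similitude -/
  a : GO Q
  two : (2 : F) ≠ 0
  nondeg : (QuadraticMap.polarBilin Q).Nondegenerate
  sq : ∀ v, a.1.1 *ᵥ (a.1.1 *ᵥ v) = v
  quad : ∀ v, Q (a.1.1 *ᵥ v) = Q v

namespace InvIso

variable (D : InvIso Q)

/-- The action of the involution. -/
abbrev A : (ι → F) →ₗ[F] (ι → F) := Matrix.mulVecLin D.a.1.1

/-- The fixed space. -/
def plus : Submodule F (ι → F) := LinearMap.ker (D.A - LinearMap.id)

theorem mem_plus {v : ι → F} : v ∈ D.plus ↔ D.A v = v := by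
  rw [plus, LinearMap.mem_ker, LinearMap.sub_apply, LinearMap.id_apply, sub_eq_zero]

/-- The negative of the involution. -/
def negInv : InvIso Q where
  a := ⟨-D.a.1, 1, fun v => by
    rw [Units.val_one, one_mul, Units.val_neg, Matrix.neg_mulVec, QuadraticMap.map_neg]
    exact D.quad v⟩
  two := D.two
  nondeg := D.nondeg
  sq := fun v => by
    show (-D.a.1 : GL ι F).1 *ᵥ ((-D.a.1 : GL ι F).1 *ᵥ v) = v
    rw [Units.val_neg, Matrix.neg_mulVec, Matrix.neg_mulVec, Matrix.mulVec_neg, neg_neg]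
    exact D.sq v
  quad := fun v => by
    show Q ((-D.a.1 : GL ι F).1 *ᵥ v) = Q v
    simp [Matrix.neg_mulVec, QuadraticMap.map_neg, D.quad]

theorem negInv_A (v : ι → F) : D.negInv.A v = -D.A v := by
  show (-D.a.1 : GL ι F).1 *ᵥ v = -(D.a.1.1 *ᵥ v)
  simp [Matrix.neg_mulVec]

theorem mem_negInv_plus {v : ι → F} : v ∈ D.negInv.plus ↔ D.A v = -v := by
  rw [mem_plus, negInv_A, neg_eq_iff_eq_neg]

theorem isoCent_negInv : isoCent D.negInv.a = isoCent D.a := by
  ext k
  rw [mem_isoCent, mem_isoCent]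
  show k.1 * -D.a.1 = -D.a.1 * k.1 ↔ _
  rw [mul_neg, neg_mul, neg_inj]

/-- The projection to the fixed space. -/
def proj : (ι → F) →ₗ[F] ↥D.plus :=
  ((2 : F)⁻¹ • (LinearMap.id + D.A)).codRestrict D.plus fun v => D.mem_plus.2 (by
    show D.A ((2 : F)⁻¹ • (v + D.A v)) = (2 : F)⁻¹ • (v + D.A v)
    rw [map_smul, map_add]
    show (2 : F)⁻¹ • (D.A v + D.a.1.1 *ᵥ (D.a.1.1 *ᵥ v)) = _
    rw [D.sq, add_comm])

theorem proj_coe (v : ι → F) : (D.proj v : ι → F) = (2 : F)⁻¹ • (v + D.A v) := rfl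

theorem proj_of_mem {v : ι → F} (hv : v ∈ D.plus) : (D.proj v : ι → F) = v := by
  rw [proj_coe, D.mem_plus.1 hv, ← two_smul F v, smul_smul, inv_mul_cancel₀ D.two, one_smul]

theorem proj_of_neg {v : ι → F} (hv : v ∈ D.negInv.plus) : D.proj v = 0 := by
  apply Subtype.ext
  rw [proj_coe, D.mem_negInv_plus.1 hv, add_neg_cancel, smul_zero]
  rfl

theorem decomp (v : ι → F) : (D.proj v : ι → F) + (D.negInv.proj v : ι → F) = v := by
  have := D.two
  rw [proj_coe, proj_coe, negInv_A]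
  match_scalars <;> field_simp <;> ring

theorem sub_proj_mem (v : ι → F) : v - (D.proj v : ι → F) ∈ D.negInv.plus := by
  nth_rw 1 [← D.decomp v]
  rw [add_sub_cancel_left]
  exact (D.negInv.proj v).2

theorem polar_A (u v : ι → F) : B (D.A u) (D.A v) = B u v := by
  simp only [QuadraticMap.polar, ← map_add]
  show Q (D.a.1.1 *ᵥ (u + v)) - Q (D.a.1.1 *ᵥ u) - Q (D.a.1.1 *ᵥ v) = _
  rw [D.quad, D.quad, D.quad]

theorem orth {u w : ι → F} (hu : u ∈ D.plus) (hw : w ∈ D.negInv.plus) : B u w = 0 := by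
  have h := D.polar_A u w
  rw [D.mem_plus.1 hu, D.mem_negInv_plus.1 hw, QuadraticMap.polar_neg_right, neg_eq_iff_add_eq_zero] at h
  rw [← two_mul] at h
  exact (mul_eq_zero.1 h).resolve_left D.two

/-- The polar form on the fixed space. -/
def form : LinearMap.BilinForm F ↥D.plus :=
  (QuadraticMap.polarBilin Q).compl₁₂ D.plus.subtype D.plus.subtype

theorem form_apply (u v : ↥D.plus) : D.form u v = B (u : ι → F) (v : ι → F) := rfl

theorem form_symm (u v : ↥D.plus) : D.form u v = D.form v u := QuadraticMap.polar_comm _ _ _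

theorem form_nondeg (u : ↥D.plus) (h : ∀ v, D.form u v = 0) : u = 0 := by
  refine Subtype.ext (D.nondeg.1 _ fun v => ?_)
  show B (u : ι → F) v = 0
  rw [← D.decomp v, QuadraticMap.polar_add_right, D.orth u.2 (D.negInv.proj v).2, ← form_apply, h,
    add_zero]

theorem exists_aniso (h : D.plus ≠ ⊥) : ∃ u ∈ D.plus, Q u ≠ 0 := by
  by_contra hc
  push Not at hc
  refine h (eq_bot_iff.2 fun u hu => ?_)
  have h0 : (⟨u, hu⟩ : ↥D.plus) = 0 := D.form_nondeg _ fun v => by
    rw [form_apply, QuadraticMap.polar, hc _ hu, hc _ v.2, hc _ (add_mem hu v.2), sub_zero, sub_zero]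
  simpa using congrArg Subtype.val h0

/-- An isometry of the fixed space, extended by the identity. -/
def extend (g : ↥D.plus ≃ₗ[F] ↥D.plus) : (ι → F) →ₗ[F] (ι → F) :=
  D.plus.subtype.comp (g.toLinearMap.comp D.proj) + (LinearMap.id - D.plus.subtype.comp D.proj)

theorem extend_apply (g : ↥D.plus ≃ₗ[F] ↥D.plus) (v : ι → F) :
    D.extend g v = (g (D.proj v) : ι → F) + (v - (D.proj v : ι → F)) := rfl

theorem proj_extend (g : ↥D.plus ≃ₗ[F] ↥D.plus) (v : ι → F) : D.proj (D.extend g v) = g (D.proj v) := by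
  apply Subtype.ext
  rw [extend_apply, map_add, Submodule.coe_add, D.proj_of_mem (g (D.proj v)).2,
    D.proj_of_neg (D.sub_proj_mem v), Submodule.coe_zero, add_zero]

theorem extend_extend (g g' : ↥D.plus ≃ₗ[F] ↥D.plus) (v : ι → F) :
    D.extend g (D.extend g' v) = D.extend (g'.trans g) v := by
  rw [extend_apply, proj_extend, extend_apply D g', extend_apply, LinearEquiv.trans_apply]
  abel

theorem extend_refl (v : ι → F) : D.extend (LinearEquiv.refl F _) v = v := by
  rw [extend_apply, LinearEquiv.refl_apply]; abel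

/-- The extension as an isometry. -/
def extIso (g : ↥D.plus ≃ₗ[F] ↥D.plus) (hg : ∀ u v, D.form (g u) (g v) = D.form u v) :
    ↥(Cfsg.isometryGroup F ⇑Q) :=
  isoOfEquiv (LinearEquiv.ofLinear (D.extend g) (D.extend g.symm)
    (LinearMap.ext fun v => by
      rw [LinearMap.comp_apply, extend_extend, LinearEquiv.symm_trans_self, extend_refl]; rfl)
    (LinearMap.ext fun v => by
      rw [LinearMap.comp_apply, extend_extend, LinearEquiv.self_trans_symm, extend_refl]; rfl))
    fun v => by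
      show Q (D.extend g v) = Q v
      rw [extend_apply, QuadraticMap.map_add (⇑Q), D.orth (g (D.proj v)).2 (D.sub_proj_mem v)]
      conv_rhs => rw [← add_sub_cancel (D.proj v : ι → F) v, QuadraticMap.map_add (⇑Q),
        D.orth (D.proj v).2 (D.sub_proj_mem v)]
      rw [quad_eq_half_polar D.two (g (D.proj v) : ι → F), quad_eq_half_polar D.two (D.proj v : ι → F),
        ← form_apply, ← form_apply, hg]

theorem mat_extIso (g : ↥D.plus ≃ₗ[F] ↥D.plus) (hg) (v : ι → F) :
    mat Q (D.extIso g hg) *ᵥ v = D.extend g v := mat_isoOfEquiv _ _ v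

theorem extIso_mem (g : ↥D.plus ≃ₗ[F] ↥D.plus) (hg) : D.extIso g hg ∈ isoCent D.a := by
  refine mem_isoCent.2 (Units.ext (Matrix.ext_iff_mulVec.2 fun v => ?_))
  rw [Units.val_mul, Units.val_mul, ← Matrix.mulVec_mulVec, ← Matrix.mulVec_mulVec]
  show mat Q (D.extIso g hg) *ᵥ D.A v = D.A (mat Q (D.extIso g hg) *ᵥ v)
  rw [mat_extIso, mat_extIso]
  have hp : D.proj (D.A v) = D.proj v := Subtype.ext (by simp [proj_coe, D.sq, add_comm])
  rw [extend_apply, extend_apply, hp, map_add, map_sub, D.mem_plus.1 (g (D.proj v)).2,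
    D.mem_plus.1 (D.proj v).2]

theorem mem_plus_of_isoCent {k : ↥(Cfsg.isometryGroup F ⇑Q)} (hk : k ∈ isoCent D.a) {v : ι → F}
    (hv : v ∈ D.plus) : mat Q k *ᵥ v ∈ D.plus := by
  refine D.mem_plus.2 ?_
  show D.a.1.1 *ᵥ (k.1.1 *ᵥ v) = k.1.1 *ᵥ v
  rw [Matrix.mulVec_mulVec, ← Units.val_mul, ← mem_isoCent.1 hk, Units.val_mul, ← Matrix.mulVec_mulVec]
  exact congrArg (k.1.1 *ᵥ ·) (D.mem_plus.1 hv)

/-- Restriction to the fixed space. -/
def res : ↥(isoCent D.a) →* (↥D.plus ≃ₗ[F] ↥D.plus) where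
  toFun k := LinearEquiv.ofLinear
    ((Matrix.mulVecLin (mat Q k.1)).restrict fun _ hv => D.mem_plus_of_isoCent k.2 hv)
    ((Matrix.mulVecLin (mat Q k.1⁻¹)).restrict fun _ hv => D.mem_plus_of_isoCent (inv_mem k.2) hv)
    (LinearMap.ext fun u => Subtype.ext (by
      show mat Q k.1 *ᵥ (mat Q k.1⁻¹ *ᵥ (u : ι → F)) = u
      rw [Matrix.mulVec_mulVec, ← mat_mul, mul_inv_cancel, mat_one, Matrix.one_mulVec]))
    (LinearMap.ext fun u => Subtype.ext (by
      show mat Q k.1⁻¹ *ᵥ (mat Q k.1 *ᵥ (u : ι → F)) = u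
      rw [Matrix.mulVec_mulVec, ← mat_mul, inv_mul_cancel, mat_one, Matrix.one_mulVec]))
  map_one' := LinearEquiv.ext fun u => Subtype.ext (Matrix.one_mulVec (u : ι → F))
  map_mul' k l := LinearEquiv.ext fun u => Subtype.ext
    (Matrix.mulVec_mulVec (u : ι → F) (mat Q k.1) (mat Q l.1)).symm

theorem res_coe (k : ↥(isoCent D.a)) (u : ↥D.plus) : (D.res k u : ι → F) = mat Q k.1 *ᵥ u := rfl

theorem res_iso (k : ↥(isoCent D.a)) (u v : ↥D.plus) : D.form (D.res k u) (D.res k v) = D.form u v :=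
  polar_mulVec Q k.1 _ _

theorem res_extIso (g : ↥D.plus ≃ₗ[F] ↥D.plus) (hg) : D.res ⟨_, D.extIso_mem g hg⟩ = g := by
  refine LinearEquiv.ext fun u => Subtype.ext ?_
  rw [res_coe, mat_extIso, extend_apply, D.proj_of_mem u.2, sub_self, add_zero,
    show D.proj (u : ι → F) = u from Subtype.ext (D.proj_of_mem u.2)]

/-- On an eigenspace, a normal subgroup of odd order modulo signs squares to one. -/
theorem sq_on_plus (hd : finrank F ↥D.plus ≤ 1 ∨ 3 ≤ finrank F ↥D.plus)
    {P : Subgroup ↥(Cfsg.isometryGroup F ⇑Q)} (hP : P ≤ isoCent D.a)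
    (hn : ∀ g ∈ isoCent D.a, ∀ y ∈ P, g * y * g⁻¹ ∈ P)
    (hodd : ∀ y ∈ P, ∃ n : ℕ, Odd n ∧ ((∀ v, mat Q (y ^ n) *ᵥ v = v) ∨ ∀ v, mat Q (y ^ n) *ᵥ v = -v))
    {y : ↥(Cfsg.isometryGroup F ⇑Q)} (hy : y ∈ P) {v : ι → F} (hv : v ∈ D.plus) :
    mat Q y *ᵥ (mat Q y *ᵥ v) = v := by
  suffices h : (∀ u : ↥D.plus, D.res ⟨y, hP hy⟩ u = u) ∨ ∀ u : ↥D.plus, D.res ⟨y, hP hy⟩ u = -u by
    rcases h with h | h
    · have e : mat Q y *ᵥ v = v := congrArg Subtype.val (h ⟨v, hv⟩)
      rw [e, e]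
    · have e : mat Q y *ᵥ v = -v := congrArg Subtype.val (h ⟨v, hv⟩)
      rw [e, Matrix.mulVec_neg, e, neg_neg]
  rcases hd with hd | hd
  · by_cases hb : D.plus = ⊥
    · exact Or.inl fun u => by
        have h0 : u = 0 := Subtype.ext ((Submodule.mem_bot F).1 (hb ▸ u.2))
        rw [h0, map_zero]
    obtain ⟨w, hw, hqw⟩ := D.exists_aniso hb
    have hw0 : (⟨w, hw⟩ : ↥D.plus) ≠ 0 := fun h => hqw (by
      rw [show w = 0 from congrArg Subtype.val h, QuadraticMap.map_zero])
    obtain ⟨⟨b, hb'⟩⟩ : Nonempty {b : ↥D.plus // ∀ u, ∃ t : F, t • b = u} := by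
      refine ⟨⟨⟨w, hw⟩, fun u => ?_⟩⟩
      have h1 : F ∙ (⟨w, hw⟩ : ↥D.plus) = ⊤ := Submodule.eq_top_of_finrank_eq (by
        rw [finrank_span_singleton hw0]
        have : finrank F ↥D.plus ≠ 0 := fun h => hb (Submodule.finrank_eq_zero.1 h)
        omega)
      exact Submodule.mem_span_singleton.1 (h1 ▸ Submodule.mem_top)
    obtain ⟨t, ht⟩ := hb' (D.res ⟨y, hP hy⟩ b)
    have hbb : D.form b b ≠ 0 := by
      intro h0
      obtain ⟨s, hs⟩ := hb' ⟨w, hw⟩
      have h1 : D.form ⟨w, hw⟩ ⟨w, hw⟩ = 0 := by simp [← hs, h0]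
      rw [form_apply, polar_self', mul_eq_zero] at h1
      exact h1.elim D.two hqw
    have htt : t * t = 1 := by
      have := D.res_iso ⟨y, hP hy⟩ b b
      simp only [← ht, map_smul, LinearMap.smul_apply, smul_eq_mul, ← mul_assoc] at this
      exact mul_right_cancel₀ hbb (this.trans (one_mul _).symm)
    rcases mul_self_eq_one_iff.1 htt with rfl | rfl
    · refine Or.inl fun u => ?_
      obtain ⟨s, rfl⟩ := hb' u
      rw [map_smul, ← ht, one_smul]
    · refine Or.inr fun u => ?_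
      obtain ⟨s, rfl⟩ := hb' u
      rw [map_smul, ← ht]
      module
  · refine ClassicalCore.orth_odd_normal_trivial (P := (P.subgroupOf (isoCent D.a)).map D.res)
      D.form_symm D.two D.form_nondeg hd ?_ ?_ ?_ ⟨⟨y, hP hy⟩, hy, rfl⟩
    · rintro g hg _ ⟨k, hk, rfl⟩
      refine ⟨⟨_, D.extIso_mem g hg⟩ * k * ⟨_, D.extIso_mem g hg⟩⁻¹, ?_, by
        rw [map_mul, map_mul, map_inv, res_extIso]⟩
      exact Subgroup.mem_subgroupOf.2 (hn _ (D.extIso_mem g hg) _ hk)
    · rintro _ ⟨k, hk, rfl⟩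
      obtain ⟨n, hn', h⟩ := hodd k.1 hk
      refine ⟨n, hn', ?_⟩
      rcases h with h | h
      · refine Or.inl fun u => ?_
        rw [← map_pow]; exact Subtype.ext (h u)
      · refine Or.inr fun u => ?_
        rw [← map_pow]; exact Subtype.ext (h u)
    · rintro _ ⟨k, -, rfl⟩ u v
      exact D.res_iso k u v

theorem extend_four (g : ↥D.plus ≃ₗ[F] ↥D.plus) (hg) (v : ι → F) :
    mat Q (D.extIso g hg * D.extIso g hg * (D.extIso g hg * D.extIso g hg)) *ᵥ v =
      (g (g (g (g (D.proj v)))) : ι → F) + (v - (D.proj v : ι → F)) := by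
  rw [mat_mul, mat_mul, ← Matrix.mulVec_mulVec, ← Matrix.mulVec_mulVec, ← Matrix.mulVec_mulVec,
    mat_extIso, mat_extIso, mat_extIso, mat_extIso, extend_extend, extend_extend, extend_extend,
    extend_apply]
  rfl

variable {S : Semi Q}
  (hS : ∀ h ∈ isoCent D.a, ∀ v, S.fn (mat Q (h * h * (h * h)) *ᵥ v) = mat Q (h * h * (h * h)) *ᵥ S.fn v)
include hS

/-- A commuting semisimilarity preserves the negative eigenspace. -/
theorem fn_mem_neg (hd : 3 ≤ finrank F ↥D.plus) {w : ι → F} (hw : w ∈ D.negInv.plus) :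
    S.fn w ∈ D.negInv.plus := by
  have h0 : D.proj (S.fn w) = 0 :=
    eq_zero_of_fixed D.form_symm D.two D.form_nondeg hd fun g hg => by
      have h := hS _ (D.extIso_mem g hg) w
      rw [extend_four, extend_four, D.proj_of_neg hw] at h
      simp only [map_zero, Submodule.coe_zero, sub_zero, zero_add] at h
      refine Subtype.ext ?_
      rw [← add_left_inj (S.fn w - (D.proj (S.fn w) : ι → F)), ← h, add_sub_cancel]
  have := D.sub_proj_mem (S.fn w)
  rwa [h0, Submodule.coe_zero, sub_zero] at this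

/-- It then preserves the fixed space too. -/
theorem fn_mem_plus (hd : 3 ≤ finrank F ↥D.plus) {u : ι → F} (hu : u ∈ D.plus) : S.fn u ∈ D.plus := by
  let f : ↥D.negInv.plus → ↥D.negInv.plus := fun w => ⟨_, D.fn_mem_neg hS hd w.2⟩
  have hsurj : Function.Surjective f := Finite.surjective_of_injective fun w w' h =>
    Subtype.ext (S.fn_injective (congrArg Subtype.val h))
  have h0 : D.negInv.proj (S.fn u) = 0 := D.negInv.form_nondeg _ fun w => by
    obtain ⟨w', rfl⟩ := hsurj w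
    rw [form_apply]
    have e : B (S.fn u) (S.fn w'.1) = 0 := by
      rw [QuadraticMap.polar, ← S.fn_add]
      simp only [Semi.fn, S.quad]
      rw [← mul_sub, ← mul_sub, ← map_sub, ← map_sub,
        show Q (u + w'.1) - Q u - Q w'.1 = 0 from D.orth hu w'.2, map_zero, mul_zero]
    conv_lhs at e => rw [← D.decomp (S.fn u), QuadraticMap.polar_add_left,
      D.orth (D.proj (S.fn u)).2 (f w').2, zero_add]
    exact e
  have := D.decomp (S.fn u)
  rw [h0, Submodule.coe_zero, add_zero] at this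
  rw [← this]
  exact (D.proj (S.fn u)).2

/-- On the fixed space it is a homothety. -/
theorem exists_scalar (hd : 3 ≤ finrank F ↥D.plus) (hmem : ∀ u ∈ D.plus, S.fn u ∈ D.plus) :
    ∃ ν : F, ∀ u ∈ D.plus, S.fn u = ν • u := by
  let φ : ↥D.plus →+ ↥D.plus :=
    { toFun := fun u => ⟨_, hmem u u.2⟩
      map_zero' := Subtype.ext S.fn_zero
      map_add' := fun u v => Subtype.ext (S.fn_add u v) }
  obtain ⟨ν, hν⟩ := exists_homothety_of_comm D.form_symm D.two D.form_nondeg hd φ fun g hg u => by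
    refine Subtype.ext ?_
    have h := hS _ (D.extIso_mem g hg) u
    rw [extend_four, extend_four, D.proj_of_mem u.2,
      show D.proj (u : ι → F) = u from Subtype.ext (D.proj_of_mem u.2),
      show D.proj (S.fn u) = φ u from Subtype.ext (D.proj_of_mem (hmem u u.2)),
      show ((φ u : ↥D.plus) : ι → F) = S.fn u from rfl, sub_self, sub_self, add_zero, add_zero] at h
    exact h
  exact ⟨ν, fun u hu => congrArg Subtype.val (hν ⟨u, hu⟩)⟩

end InvIso

/-- The core criterion for an involutory isometry. -/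
theorem InvIso.core_eq_bot (C : Ctx Q) (D : InvIso Q) (h1 : 3 ≤ finrank F ↥D.plus)
    (h2 : finrank F ↥D.negInv.plus ≤ 1 ∨ 3 ≤ finrank F ↥D.negInv.plus)
    (hex : ∀ β : MulAut (Cfsg.POmega F ⇑Q), β * sim D.a = sim D.a * β → ∃ S : Semi Q, S.aut = β)
    (A : Subgroup (MulAut (Cfsg.POmega F ⇑Q))) (hinn : ∀ k, MulAut.conj k ∈ A) :
    Cfsg.pPrimeCore 2 ↥(A ⊓ Subgroup.centralizer {sim D.a}) = ⊥ := by
  refine C.core_sim_eq_bot D.a hex (fun P hP hn hodd y hy => ?_) (fun S hS => ?_) A hinn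
  · refine mat_ext Q (Matrix.ext_iff_mulVec.2 fun v => ?_)
    rw [mat_mul, mat_one, Matrix.one_mulVec, ← Matrix.mulVec_mulVec, ← D.decomp v, Matrix.mulVec_add,
      Matrix.mulVec_add, D.sq_on_plus (Or.inr h1) hP hn hodd hy (D.proj v).2,
      D.negInv.sq_on_plus h2 (D.isoCent_negInv ▸ hP) (D.isoCent_negInv ▸ hn) hodd hy (D.negInv.proj v).2]
  have hmem := fun u hu => D.fn_mem_plus hS h1 (u := u) hu
  have hmem' := fun u hu => D.fn_mem_neg hS h1 (w := u) hu
  obtain ⟨ν, hν⟩ := D.exists_scalar hS h1 hmem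
  obtain ⟨w₁, hw₁, hq₁⟩ := D.exists_aniso fun h => by rw [h, finrank_bot] at h1; omega
  have hν0 : ν ≠ 0 := fun h => S.fn_ne_zero (v := w₁)
    (fun h0 => hq₁ (by rw [h0, QuadraticMap.map_zero])) (by rw [hν _ hw₁, h, zero_smul])
  have hσ : S.σ = 1 := RingEquiv.ext fun t => by
    have h := hν _ (D.plus.smul_mem t hw₁)
    rw [S.fn_smul, hν _ hw₁, smul_smul, smul_smul] at h
    have h3 := congrArg (fun z => B z w₁) h
    simp only [QuadraticMap.polar_smul_left, smul_eq_mul, polar_self'] at h3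
    have h4 := mul_right_cancel₀ (mul_ne_zero D.two hq₁) h3
    exact mul_right_cancel₀ hν0 (h4.trans (mul_comm ν t))
  have hquad : ∀ v, Q (S.fn v) = (S.c : F) * Q v := fun v => by
    rw [Semi.fn, S.quad, hσ, RingAut.one_apply]
  obtain ⟨μ, hμ⟩ : ∃ μ : F, ∀ u ∈ D.negInv.plus, S.fn u = μ • u := by
    rcases h2 with hd | hd
    · by_cases hb : D.negInv.plus = ⊥
      · exact ⟨0, fun u hu => by rw [show u = 0 from (Submodule.mem_bot F).1 (hb ▸ hu), S.fn_zero, smul_zero]⟩
      obtain ⟨w, hw, hqw⟩ := D.negInv.exists_aniso hb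
      have hw0 : w ≠ 0 := fun h => hqw (by rw [h, QuadraticMap.map_zero])
      have hspan : D.negInv.plus ≤ F ∙ w := by
        rw [← Submodule.eq_of_le_of_finrank_le ((Submodule.span_singleton_le_iff_mem w _).2 hw)
          (by rw [finrank_span_singleton hw0]; exact hd)]
      obtain ⟨μ, hμ⟩ := Submodule.mem_span_singleton.1 (hspan (hmem' w hw))
      refine ⟨μ, fun u hu => ?_⟩
      obtain ⟨s, rfl⟩ := Submodule.mem_span_singleton.1 (hspan hu)
      rw [S.fn_smul, hσ, RingAut.one_apply, ← hμ, smul_comm]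
    · exact D.negInv.exists_scalar (D.isoCent_negInv ▸ hS) hd hmem'
  have hsq : ∀ {E : InvIso Q} {t : F}, (∀ u ∈ E.plus, S.fn u = t • u) → ∀ u ∈ E.plus,
      (t * t) • u = (S.c : F) • u := fun {E t} ht u hu => by
    by_cases hb : E.plus = ⊥
    · rw [show u = 0 from (Submodule.mem_bot F).1 (hb ▸ hu), smul_zero, smul_zero]
    obtain ⟨w, hw, hqw⟩ := E.exists_aniso hb
    have := hquad w
    rw [ht w hw, QuadraticMap.map_smul, smul_eq_mul] at this
    rw [mul_right_cancel₀ hqw this]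
  refine ⟨hσ, S.c, Units.ext (Matrix.ext_iff_mulVec.2 fun v => ?_)⟩
  have hfn : ∀ z, S.g.1 *ᵥ z = S.fn z := fun z => by rw [Semi.fn, hσ]; rfl
  rw [Units.val_mul, ← Matrix.mulVec_mulVec, hfn, hfn, scalar_mulVec, ← D.decomp v, S.fn_add,
    hν _ (D.proj v).2, hμ _ (D.negInv.proj v).2, S.fn_add, S.fn_smul, S.fn_smul, hσ, RingAut.one_apply,
    RingAut.one_apply, hν _ (D.proj v).2, hμ _ (D.negInv.proj v).2, smul_smul, smul_smul,
    hsq hν _ (D.proj v).2, hsq hμ _ (D.negInv.proj v).2, smul_add]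

end CfsgLib.AutPOmega
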