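import Cfsg.Agent.AutPOmega.Parabolic
import Mathlib.GroupTheory.Sylow

/-!
# Transport of subgroups of `Ω(Q)` along automorphisms of `PΩ(Q)`
-/

set_option autoImplicit false
set_option linter.unusedSectionVars false
set_option linter.style.haveILetI false

namespace CfsgLib.AutPOmega

open Matrix Module CfsgLib.Spinor CfsgLib.Forms CfsgLib.Forms4

variable {F : Type*} [Field F] [Finite F] {ι : Type} [Fintype ι] [DecidableEq ι]
  {Q : QuadraticForm F (ι → F)}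

/-- The projection `Ω → PΩ`. -/
abbrev pr (Q : QuadraticForm F (ι → F)) : OG Q →* Cfsg.POmega F ⇑Q :=
  QuotientGroup.mk' (Subgroup.center (OG Q))

theorem pr_surjective : Function.Surjective (pr Q) := QuotientGroup.mk'_surjective _

instance : Finite (OG Q) := Subtype.finite

instance : Finite (Cfsg.POmega F ⇑Q) := Quotient.finite _

theorem Ctx.central_scalar (C : Ctx Q) {z : OG Q} (hz : z ∈ Subgroup.center (OG Q)) :
    ∃ r : F, r * r = 1 ∧ ∀ v, app z v = r • v := by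
  obtain ⟨P⟩ := C.pairs
  obtain ⟨r, hr, h⟩ := (TwoPairs.mem_center_omega_iff C.nondeg C.five P.toTwoPairs z).1 hz
  exact ⟨r, hr, fun v => by rw [app, h, Matrix.smul_mulVec, Matrix.one_mulVec]⟩

theorem Ctx.center_le_stab (C : Ctx Q) (x : ι → F) : Subgroup.center (OG Q) ≤ stab Q x :=
  fun z hz => by
    obtain ⟨r, hr, h⟩ := C.central_scalar hz
    exact ⟨r, fun h0 => zero_ne_one (α := F) (by rw [← hr, h0, mul_zero]), h x⟩

theorem Ctx.central_pow (p : ℕ) [Fact p.Prime] [CharP F p] (C : Ctx Q) {z : OG Q}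
    (hz : z ∈ Subgroup.center (OG Q)) (k : ℕ) (hk : z ^ p ^ k = 1) : z = 1 := by
  haveI := C.nonempty
  obtain ⟨r, hr, h⟩ := C.central_scalar hz
  have hpow : ∀ n : ℕ, ∀ v, app (z ^ n) v = r ^ n • v := fun n => by
    induction n with
    | zero => intro v; rw [pow_zero, pow_zero, app_one, one_smul]
    | succ n ih => intro v; rw [pow_succ, pow_succ, app_mul, h, app_smul, ih, smul_smul, mul_comm]
  obtain ⟨P⟩ := C.pairs
  have h1 := hpow (p ^ k) P.e
  rw [hk, app_one] at h1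
  have hr1 : r = 1 := by
    apply iterateFrobenius_inj F p k
    rw [iterateFrobenius_def, iterateFrobenius_def, one_pow]
    exact (smul_left_injective F P.e_ne_zero ((one_smul F P.e).trans h1)).symm
  exact ext_app fun v => by rw [h, hr1, one_smul, app_one]

/-- The projection is injective on `p`-subgroups. -/
theorem Ctx.eq_of_mk_eq (p : ℕ) [Fact p.Prime] [CharP F p] (C : Ctx Q) {g h : OG Q} {i j : ℕ}
    (hg : g ^ p ^ i = 1) (hh : h ^ p ^ j = 1) (e : pr Q g = pr Q h) : g = h := by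
  have hz : g⁻¹ * h ∈ Subgroup.center (OG Q) := QuotientGroup.eq.1 e
  have hc : Commute g (g⁻¹ * h) := Subgroup.mem_center_iff.1 hz g
  have hgh : Commute g h := by
    have := hc
    rwa [Commute, SemiconjBy, mul_inv_cancel_left, mul_assoc, eq_inv_mul_iff_mul_eq] at this
  have h1 : (g⁻¹ * h) ^ p ^ (i + j) = 1 := by
    rw [hgh.inv_left.mul_pow, inv_pow]
    rw [show h ^ p ^ (i + j) = 1 by rw [pow_add, mul_comm, pow_mul, hh, one_pow],
      show g ^ p ^ (i + j) = 1 by rw [pow_add, pow_mul, hg, one_pow], inv_one, one_mul]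
  exact inv_mul_eq_one.1 (C.central_pow p hz _ h1)

theorem Ctx.injOn_mk (p : ℕ) [Fact p.Prime] [CharP F p] (C : Ctx Q) {K K' : Subgroup (OG Q)}
    (hK : IsPGroup p K) (hK' : IsPGroup p K') {g h : OG Q} (hg : g ∈ K) (hh : h ∈ K')
    (e : pr Q g = pr Q h) : g = h := by
  obtain ⟨i, hi⟩ := hK ⟨g, hg⟩
  obtain ⟨j, hj⟩ := hK' ⟨h, hh⟩
  exact C.eq_of_mk_eq p (congrArg Subtype.val hi) (congrArg Subtype.val hj) e

theorem Ctx.card_map_mk (p : ℕ) [Fact p.Prime] [CharP F p] (C : Ctx Q) {K : Subgroup (OG Q)}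
    (hK : IsPGroup p K) : Nat.card (K.map (pr Q)) = Nat.card K :=
  (Nat.card_congr (Equiv.ofBijective (fun g : K => (⟨pr Q g.1, g.1, g.2, rfl⟩ : K.map (pr Q)))
    ⟨fun g h e => Subtype.ext (C.injOn_mk p hK hK g.2 h.2 (congrArg Subtype.val e)), by
      rintro ⟨_, g, hg, rfl⟩; exact ⟨⟨g, hg⟩, rfl⟩⟩)).symm

/-- The subgroup of `Ω` corresponding to `A` under an automorphism of `PΩ`. -/
def tr (β : MulAut (Cfsg.POmega F ⇑Q)) (A : Subgroup (OG Q)) : Subgroup (OG Q) :=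
  ((A.map (pr Q)).map β.toMonoidHom).comap (pr Q)

theorem center_le_tr (β : MulAut (Cfsg.POmega F ⇑Q)) (A : Subgroup (OG Q)) :
    Subgroup.center (OG Q) ≤ tr β A := fun z hz => by
  rw [tr, Subgroup.mem_comap]
  rw [QuotientGroup.mk'_apply, (QuotientGroup.eq_one_iff z).2 hz]
  exact one_mem _

theorem mem_tr_iff {β : MulAut (Cfsg.POmega F ⇑Q)} {A : Subgroup (OG Q)} {g : OG Q} :
    g ∈ tr β A ↔ ∃ a ∈ A, β (pr Q a) = pr Q g :=
  ⟨fun ⟨_, ⟨a, ha, hy⟩, e⟩ => ⟨a, ha, by rw [← e, ← hy]; rfl⟩,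
    fun ⟨a, ha, e⟩ => ⟨_, ⟨a, ha, rfl⟩, e⟩⟩

theorem tr_mono (β : MulAut (Cfsg.POmega F ⇑Q)) {A A' : Subgroup (OG Q)} (h : A ≤ A') :
    tr β A ≤ tr β A' := Subgroup.comap_mono (Subgroup.map_mono (Subgroup.map_mono h))

theorem map_tr (β : MulAut (Cfsg.POmega F ⇑Q)) (A : Subgroup (OG Q)) :
    (tr β A).map (pr Q) = (A.map (pr Q)).map β.toMonoidHom :=
  Subgroup.map_comap_eq_self_of_surjective pr_surjective _

theorem tr_symm {β : MulAut (Cfsg.POmega F ⇑Q)} {A : Subgroup (OG Q)}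
    (hA : Subgroup.center (OG Q) ≤ A) : tr β⁻¹ (tr β A) = A := by
  rw [tr, map_tr, Subgroup.map_map,
    show β⁻¹.toMonoidHom.comp β.toMonoidHom = MonoidHom.id (Cfsg.POmega F ⇑Q) from
      MonoidHom.ext fun y => β.symm_apply_apply y, Subgroup.map_id, Subgroup.comap_map_eq,
    QuotientGroup.ker_mk', sup_eq_left.2 hA]

theorem tr_mul (β β' : MulAut (Cfsg.POmega F ⇑Q)) (A : Subgroup (OG Q)) :
    tr (β * β') A = tr β (tr β' A) := by
  rw [tr, tr, map_tr, Subgroup.map_map (K := A.map (pr Q))]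
  rfl

theorem tr_one {A : Subgroup (OG Q)} (hA : Subgroup.center (OG Q) ≤ A) :
    tr (1 : MulAut (Cfsg.POmega F ⇑Q)) A = A := by
  rw [tr, show (1 : MulAut (Cfsg.POmega F ⇑Q)).toMonoidHom = MonoidHom.id _ from rfl, Subgroup.map_id,
    Subgroup.comap_map_eq, QuotientGroup.ker_mk', sup_eq_left.2 hA]

theorem card_tr {β : MulAut (Cfsg.POmega F ⇑Q)} {A : Subgroup (OG Q)}
    (hA : Subgroup.center (OG Q) ≤ A) : Nat.card (tr β A) = Nat.card A := by
  have key : ∀ D : Subgroup (OG Q), Subgroup.center (OG Q) ≤ D →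
      Nat.card D = Nat.card (Subgroup.center (OG Q)) * Nat.card (D.map (pr Q)) := fun D hD => by
    rw [← Subgroup.relIndex_ker, QuotientGroup.ker_mk', ← Subgroup.relIndex_bot_left,
      ← Subgroup.relIndex_bot_left, Subgroup.relIndex_mul_relIndex _ _ _ bot_le hD]
  rw [key _ hA, key _ (center_le_tr β A), map_tr]
  congr 1
  exact (Nat.card_congr ((A.map (pr Q)).equivMapOfInjective β.toMonoidHom β.injective).toEquiv).symm

/-- A `p`-subgroup lifts along an automorphism, uniquely and compatibly with normality. -/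
theorem Ctx.transfer (p : ℕ) [Fact p.Prime] [CharP F p] (C : Ctx Q)
    (β : MulAut (Cfsg.POmega F ⇑Q)) {K : Subgroup (OG Q)} (hK : IsPGroup p K) :
    ∃ R : Subgroup (OG Q), IsPGroup p R ∧ R.map (pr Q) = (K.map (pr Q)).map β.toMonoidHom ∧
      Nat.card R = Nat.card K ∧
      ∀ A : Subgroup (OG Q), K ≤ A → R ≤ tr β A ∧
        ((∀ a ∈ A, ∀ k ∈ K, a * k * a⁻¹ ∈ K) → ∀ a ∈ tr β A, ∀ r ∈ R, a * r * a⁻¹ ∈ R) := by
  let T := (K.map (pr Q)).map β.toMonoidHom
  have hT : IsPGroup p T := (hK.map (pr Q)).map β.toMonoidHom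
  let φ : tr β K →* T := ((pr Q).comp (tr β K).subtype).codRestrict _ fun x => x.2
  have hφ : Function.Surjective φ := by
    rintro ⟨y, hy⟩
    obtain ⟨g, rfl⟩ := pr_surjective y
    exact ⟨⟨g, hy⟩, rfl⟩
  obtain ⟨S⟩ : Nonempty (Sylow p (tr β K)) := inferInstance
  have hS : (S : Subgroup (tr β K)).map φ = ⊤ := by
    rw [← Sylow.coe_mapSurjective hφ]
    exact ((S.mapSurjective hφ).is_maximal' (hT.to_subgroup ⊤ |>.to_le le_rfl) le_top).symm
  refine ⟨(S : Subgroup (tr β K)).map (tr β K).subtype, S.2.map _, ?_, ?_, ?_⟩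
  · ext y
    constructor
    · rintro ⟨_, ⟨s, -, rfl⟩, rfl⟩
      exact s.2
    · intro hy
      obtain ⟨s, hs, e⟩ := (hS ▸ Subgroup.mem_top (⟨y, hy⟩ : T) :
        (⟨y, hy⟩ : T) ∈ (S : Subgroup (tr β K)).map φ)
      exact ⟨s.1, ⟨s, hs, rfl⟩, congrArg Subtype.val e⟩
  · rw [← C.card_map_mk p (S.2.map (tr β K).subtype), ← C.card_map_mk p hK,
      Nat.card_congr ((K.map (pr Q)).equivMapOfInjective β.toMonoidHom β.injective).toEquiv]
    congr 1
    congr 1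
    congr 1
    ext y
    constructor
    · rintro ⟨_, ⟨s, -, rfl⟩, rfl⟩
      exact s.2
    · intro hy
      obtain ⟨s, hs, e⟩ := (hS ▸ Subgroup.mem_top (⟨y, hy⟩ : T) :
        (⟨y, hy⟩ : T) ∈ (S : Subgroup (tr β K)).map φ)
      exact ⟨s.1, ⟨s, hs, rfl⟩, congrArg Subtype.val e⟩
  · intro A hKA
    refine ⟨fun r hr => ?_, fun hnor a ha r hr => ?_⟩
    · obtain ⟨s, -, rfl⟩ := hr
      exact tr_mono β hKA s.2
    · obtain ⟨s, hs, rfl⟩ := hr
      obtain ⟨a₀, ha₀, ea⟩ := mem_tr_iff.1 ha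
      obtain ⟨k, hk, ek⟩ := mem_tr_iff.1 s.2
      have hmem : pr Q (a * s.1 * a⁻¹) ∈ T := ⟨_, ⟨_, hnor a₀ ha₀ k hk, rfl⟩, by
        show β (pr Q _) = _
        simp only [map_mul, map_inv, ea, ek]⟩
      obtain ⟨s', hs', e⟩ := (hS ▸ Subgroup.mem_top (⟨_, hmem⟩ : T) :
        (⟨_, hmem⟩ : T) ∈ (S : Subgroup (tr β K)).map φ)
      obtain ⟨i, hi⟩ := S.2 ⟨s, hs⟩
      obtain ⟨j, hj⟩ := S.2 ⟨s', hs'⟩
      have hi' : s.1 ^ p ^ i = 1 :=
        congrArg (fun x : (S : Subgroup (tr β K)) => ((x.1 : tr β K) : OG Q)) hi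
      have hj' : s'.1 ^ p ^ j = 1 :=
        congrArg (fun x : (S : Subgroup (tr β K)) => ((x.1 : tr β K) : OG Q)) hj
      refine ⟨s', hs', C.eq_of_mk_eq p hj' (i := j) (j := i) ?_ (congrArg Subtype.val e)⟩
      show (a * s.1 * a⁻¹) ^ p ^ i = 1
      rw [conj_pow, hi', mul_one, mul_inv_cancel]

end CfsgLib.AutPOmega
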