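import Cfsg.Agent.AutPOmega.Root

/-!
# Every automorphism of `PΩ(Q)` comes from a semisimilarity
-/

set_option autoImplicit false
set_option linter.unusedSectionVars false
set_option linter.style.haveILetI false

namespace CfsgLib.AutPOmega

open Matrix Module CfsgLib.Spinor CfsgLib.Forms CfsgLib.Forms4

variable {F : Type*} [Field F] [Finite F] {ι : Type} [Fintype ι] [DecidableEq ι]
  {Q : QuadraticForm F (ι → F)} {β : MulAut (Cfsg.POmega F ⇑Q)}

set_option quotPrecheck false in
local notation "B" => QuadraticMap.polar (DFunLike.coe Q)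

namespace ThreePairs

variable (P : ThreePairs Q)

/-- What an automorphism fixing the points `e` and `f` does to the root group of `e`. -/
structure RootData (C : Ctx Q) (β : MulAut (Cfsg.POmega F ⇑Q)) where
  /-- the map -/
  fn : (ι → F) → (ι → F)
  inW : ∀ v, P.InW (fn v)
  spec : ∀ v, β (pr Q (P.rootE C v)) = pr Q (P.rootE C (fn v))
  sends_e : Sends β P.e P.e
  sends_f : Sends β P.f P.f

theorem exists_rootData (p : ℕ) [Fact p.Prime] [CharP F p] (C : Ctx Q) (he : Sends β P.e P.e)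
    (hf : Sends β P.f P.f) : Nonempty (P.RootData C β) := by
  have h : ∀ v, ∃ a, P.InW a ∧ β (pr Q (P.rootE C v)) = pr Q (P.rootE C a) := fun v => by
    obtain ⟨u, hu, e⟩ := C.pr_unip p P.e_ne_zero P.qe he (P.rootE_mem C v)
    obtain ⟨a, ha, rfl⟩ := P.exists_rootE C hu
    exact ⟨a, ha, e⟩
  choose fn hW hs using h
  exact ⟨⟨fn, hW, hs, he, hf⟩⟩

namespace RootData

variable {P} {C : Ctx Q} (D : P.RootData C β)

include D

theorem pr_inj (p : ℕ) [Fact p.Prime] [CharP F p] {u v : ι → F}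
    (h : pr Q (P.rootE C u) = pr Q (P.rootE C v)) : P.proj u = P.proj v := by
  haveI := C.nonempty
  exact P.rootE_eq C (C.injOn_mk p (isPGroup_unip p _) (isPGroup_unip p _) (P.rootE_mem C u)
    (P.rootE_mem C v) h)

theorem map_add (p : ℕ) [Fact p.Prime] [CharP F p] (u v : ι → F) :
    D.fn (u + v) = D.fn u + D.fn v := by
  have h := D.spec (u + v)
  rw [P.rootE_add, map_mul, map_mul, D.spec, D.spec, ← map_mul, ← P.rootE_add] at h
  have := D.pr_inj p h
  rwa [P.proj_of_inW (D.inW _), P.proj_of_inW (P.inW_add (D.inW u) (D.inW v)), eq_comm] at this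

theorem map_proj (p : ℕ) [Fact p.Prime] [CharP F p] (v : ι → F) :
    D.fn (P.proj v) = D.fn v := by
  have h := D.spec (P.proj v)
  have e : P.rootE C (P.proj v) = P.rootE C v := by
    rw [rootE, rootE]; congr 1; exact P.proj_of_inW (P.inW_proj v)
  rw [e, D.spec] at h
  have := D.pr_inj p h
  rwa [P.proj_of_inW (D.inW _), P.proj_of_inW (D.inW _), eq_comm] at this

theorem map_zero (p : ℕ) [Fact p.Prime] [CharP F p] : D.fn 0 = 0 := by
  have := D.map_add p 0 0
  rwa [add_zero, left_eq_add] at this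

theorem map_neg (p : ℕ) [Fact p.Prime] [CharP F p] (v : ι → F) : D.fn (-v) = -D.fn v := by
  have := D.map_add p v (-v)
  rw [add_neg_cancel, D.map_zero p] at this
  exact eq_neg_of_add_eq_zero_right this.symm

theorem proj_eq_zero (p : ℕ) [Fact p.Prime] [CharP F p] {v : ι → F} (h : D.fn v = 0) :
    P.proj v = 0 := by
  have e := D.spec v
  rw [h] at e
  have e1 : P.rootE C 0 = 1 := by
    have := P.rootE_add C 0 0
    rwa [add_zero, left_eq_mul] at this
  rw [e1, _root_.map_one, map_eq_one_iff _ β.injective, ← _root_.map_one (pr Q), ← e1] at e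
  rw [D.pr_inj p e, ← P.proj_of_inW P.inW_zero, P.proj_of_inW P.inW_zero]
  exact P.proj_of_inW P.inW_zero

theorem fn_ne_zero (p : ℕ) [Fact p.Prime] [CharP F p] {y : ι → F} (hy : P.InW y) (hy0 : y ≠ 0) :
    D.fn y ≠ 0 := fun h => hy0 (by rw [← P.proj_of_inW hy, D.proj_eq_zero p h])

/-- Singular vectors perpendicular to `e, f` go to such vectors. -/
theorem singular (p : ℕ) [Fact p.Prime] [CharP F p] (hT : PtPres β) {y : ι → F} (hy : P.InW y)
    (hy0 : y ≠ 0) (hq : Q y = 0) : Q (D.fn y) = 0 ∧ Sends β y (D.fn y) ∧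
      ∀ t : F, ∃ s : F, D.fn (t • y) = s • D.fn y := by
  haveI := C.nonempty
  obtain ⟨y', hy'0, hy', hs⟩ := hT y hy0 hq
  have hf0 : P.f ≠ 0 := fun h => one_ne_zero (α := F) (by
    rw [← P.ef, h, QuadraticMap.polar_zero_right])
  have hy'W : P.InW y' :=
    ⟨C.perp_of_sends p P.e_ne_zero P.qe P.e_ne_zero P.qe hy0 hq hy'0 hy' D.sends_e hs hy.1,
      C.perp_of_sends p hf0 P.qf hf0 P.qf hy0 hq hy'0 hy' D.sends_f hs hy.2⟩
  have hmem : ∀ t : F, ∃ s : F, D.fn (t • y) = s • y' := fun t => by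
    obtain ⟨u, hu, e⟩ := C.pr_unip p hy'0 hy' hs (P.rootE_mem_unip_of_smul C hy hq t)
    rw [D.spec] at e
    rw [← C.injOn_mk p (isPGroup_unip p _) (isPGroup_unip p _) (P.rootE_mem C _) hu e] at hu
    exact P.eq_smul_of_rootE_mem C (D.inW _) hy'W hu
  obtain ⟨s1, hs1⟩ := hmem 1
  rw [one_smul] at hs1
  have hs10 : s1 ≠ 0 := fun h => D.fn_ne_zero p hy hy0 (by rw [hs1, h, zero_smul])
  refine ⟨by rw [hs1, QuadraticMap.map_smul, hy', smul_zero], hs1 ▸ sends_smul_right hs10 hs,
    fun t => ?_⟩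
  obtain ⟨s, e⟩ := hmem t
  exact ⟨s / s1, by rw [e, hs1, smul_smul, div_mul_cancel₀ _ hs10]⟩

/-- `σ` describes the scalar action at `y`. -/
def Coef (y : ι → F) (σ : F → F) : Prop := ∀ t : F, D.fn (t • y) = σ t • D.fn y

theorem exists_coef (p : ℕ) [Fact p.Prime] [CharP F p] (hT : PtPres β) {y : ι → F}
    (hy : P.InW y) (hy0 : y ≠ 0) (hq : Q y = 0) : ∃ σ, D.Coef y σ := by
  choose σ hσ using (D.singular p hT hy hy0 hq).2.2
  exact ⟨σ, hσ⟩

theorem coef_indep (p : ℕ) [Fact p.Prime] [CharP F p] (hT : PtPres β) {y z : ι → F}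
    (hy : P.InW y) (hy0 : y ≠ 0) (hyq : Q y = 0) (hz : P.InW z) (hzq : Q z = 0)
    (hind : z ∉ F ∙ y) (hyz : B y z = 0) {σ : F → F} (hσ : D.Coef y σ) : D.Coef z σ := by
  have hz0 : z ≠ 0 := fun h => hind (h ▸ zero_mem _)
  have hsum0 : y + z ≠ 0 := fun h => hind (Submodule.mem_span_singleton.2
    ⟨-1, by rw [neg_one_smul]; exact (eq_neg_of_add_eq_zero_right h).symm⟩)
  have hsumq : Q (y + z) = 0 := by
    rw [QuadraticMap.map_add (⇑Q), hyq, hzq, hyz, add_zero, add_zero]
  obtain ⟨τ, hτ⟩ := D.exists_coef p hT hz hz0 hzq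
  obtain ⟨ρ, hρ⟩ := D.exists_coef p hT (P.inW_add hy hz) hsum0 hsumq
  intro t
  have h := hρ t
  rw [smul_add, D.map_add p, D.map_add p, hσ, hτ] at h
  have h' : (σ t - ρ t) • D.fn y + (τ t - ρ t) • D.fn z = 0 := by
    linear_combination (norm := module) h
  have hτρ : τ t = ρ t := by
    by_contra hne
    rw [← ne_eq, ← sub_ne_zero] at hne
    have e : D.fn z = (-(σ t - ρ t) / (τ t - ρ t)) • D.fn y := by
      rw [div_eq_inv_mul, mul_smul, eq_inv_smul_iff₀ hne, neg_smul,
        eq_neg_iff_add_eq_zero, add_comm]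
      exact h'
    obtain ⟨hyq', hys, -⟩ := D.singular p hT hy hy0 hyq
    obtain ⟨-, hzs, -⟩ := D.singular p hT hz hz0 hzq
    have hc : -(σ t - ρ t) / (τ t - ρ t) ≠ 0 := fun hc =>
      D.fn_ne_zero p hz hz0 (by rw [e, hc, zero_smul])
    rw [e, Sends, stab_smul hc] at hzs
    obtain ⟨k, hk⟩ := C.eq_smul_of_sends p hy0 hyq hys hzs
    exact hind (Submodule.mem_span_singleton.2 ⟨k, hk.symm⟩)
  rw [hτρ, sub_self, zero_smul, add_zero, smul_eq_zero] at h'
  rw [hτ, hτρ, sub_eq_zero.1 (h'.resolve_right (D.fn_ne_zero p hy hy0))]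

/-- The map is semilinear. -/
theorem semilinear (p : ℕ) [Fact p.Prime] [CharP F p] (hT : PtPres β) :
    ∃ σ : F ≃+* F, ∀ (t : F) (v : ι → F), D.fn (t • v) = σ t • D.fn v := by
  have ha0 : P.a ≠ 0 := fun h => one_ne_zero (α := F) (by
    rw [← P.ab, h, QuadraticMap.polar_zero_left])
  have hc0 : P.c ≠ 0 := fun h => one_ne_zero (α := F) (by
    rw [← P.cd, h, QuadraticMap.polar_zero_left])
  obtain ⟨σ, hσ⟩ := D.exists_coef p hT P.inW_a ha0 P.qa
  have hca : ∀ k : F, P.c ∉ F ∙ (k • P.a) := fun k h => by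
    obtain ⟨s, hs⟩ := Submodule.mem_span_singleton.1 h
    have := congrArg (B · P.d) hs
    simp [QuadraticMap.polar_smul_left, P.ad, P.cd] at this
  have hac : ∀ k : F, k ≠ 0 → k • P.a ∉ F ∙ P.c := fun k hk h => by
    obtain ⟨s, hs⟩ := Submodule.mem_span_singleton.1 h
    have := congrArg (B P.b ·) hs
    simp [QuadraticMap.polar_smul_right, P.bc, QuadraticMap.polar_comm (⇑Q) P.b P.a, P.ab,
      eq_comm, hk] at this
  have hσc : D.Coef P.c σ :=
    D.coef_indep p hT P.inW_a ha0 P.qa P.inW_c P.qc (one_smul F P.a ▸ hca 1) P.ac hσ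
  have hσk : ∀ k : F, k ≠ 0 → D.Coef (k • P.a) σ := fun k hk =>
    D.coef_indep p hT P.inW_c hc0 P.qc (P.inW_smul P.inW_a k)
      (by rw [QuadraticMap.map_smul, P.qa, smul_zero]) (hac k hk)
      (by rw [QuadraticMap.polar_smul_right, QuadraticMap.polar_comm (⇑Q) P.c P.a, P.ac, smul_zero])
      hσc
  have hfa := D.fn_ne_zero p P.inW_a ha0
  have inj : ∀ {s t : F}, s • D.fn P.a = t • D.fn P.a → s = t := fun h =>
    smul_left_injective F hfa h
  have h0 : σ 0 = 0 := inj (by rw [← hσ 0, zero_smul, zero_smul, D.map_zero p])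
  have h1 : σ 1 = 1 := inj (by rw [← hσ 1, one_smul, one_smul])
  have hadd : ∀ s t, σ (s + t) = σ s + σ t := fun s t =>
    inj (by rw [← hσ, add_smul, D.map_add p, hσ, hσ, add_smul])
  have hmul : ∀ s t, σ (s * t) = σ s * σ t := fun s t => by
    by_cases ht : t = 0
    · rw [ht, mul_zero, h0, mul_zero]
    · exact inj (by rw [← hσ, mul_smul, hσk t ht, hσ, smul_smul])
  let σh : F →+* F :=
    { toFun := σ, map_one' := h1, map_mul' := hmul, map_zero' := h0, map_add' := hadd }
  refine ⟨RingEquiv.ofBijective σh (Finite.injective_iff_bijective.1 σh.injective), ?_⟩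
  have hsing : ∀ y, P.InW y → Q y = 0 → ∀ t, D.fn (t • y) = σ t • D.fn y := by
    intro y hy hq
    by_cases hy0 : y = 0
    · intro t; rw [hy0, smul_zero, D.map_zero p, smul_zero]
    have base : ∀ z, P.InW z → Q z = 0 → B P.a z = 0 → z ≠ 0 → D.Coef z σ := by
      intro z hz hzq hza hz0
      by_cases hsp : z ∈ F ∙ P.a
      · obtain ⟨k, rfl⟩ := Submodule.mem_span_singleton.1 hsp
        exact hσk k fun hk => hz0 (by rw [hk, zero_smul])
      · exact D.coef_indep p hT P.inW_a ha0 P.qa hz hzq hsp hza hσ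
    by_cases hay : B P.a y = 0
    · exact base y hy hq hay hy0
    set u := B P.c y • P.a + (-B P.a y) • P.c with hu
    have hud : B P.d u = -B P.a y := by
      simp [hu, QuadraticMap.polar_add_right, QuadraticMap.polar_smul_right,
        QuadraticMap.polar_comm (⇑Q) P.d P.a, P.ad, QuadraticMap.polar_comm (⇑Q) P.d P.c, P.cd]
    have hu0 : u ≠ 0 := fun h => hay (by
      rw [h, QuadraticMap.polar_zero_right] at hud; exact neg_eq_zero.1 hud.symm)
    have huW : P.InW u := P.inW_add (P.inW_smul P.inW_a _) (P.inW_smul P.inW_c _)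
    have huq : Q u = 0 := by
      rw [hu, QuadraticMap.map_add (⇑Q), QuadraticMap.map_smul, QuadraticMap.map_smul, P.qa, P.qc,
        QuadraticMap.polar_smul_left, QuadraticMap.polar_smul_right, P.ac]
      simp
    have hua : B P.a u = 0 := by
      simp [hu, QuadraticMap.polar_add_right, QuadraticMap.polar_smul_right, P.ac, P.aa]
    have huy : B u y = 0 := by
      simp [hu, QuadraticMap.polar_add_left, QuadraticMap.polar_smul_left, mul_comm]
    refine D.coef_indep p hT huW hu0 huq hy hq (fun h => hay ?_) huy (base u huW huq hua hu0)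
    obtain ⟨s, hs⟩ := Submodule.mem_span_singleton.1 h
    rw [← hs, QuadraticMap.polar_smul_right, hua, smul_zero]
  intro t v
  show D.fn (t • v) = σ t • D.fn v
  obtain ⟨z₁, z₂, z₃, ⟨h1', q1⟩, ⟨h2', q2⟩, ⟨h3', q3⟩, e⟩ := P.exists_three_singular (P.inW_proj v)
  rw [← D.map_proj p (t • v), ← D.map_proj p v, P.proj_smul, e, smul_add, smul_add, D.map_add p,
    D.map_add p, D.map_add p, D.map_add p, hsing _ h1' q1, hsing _ h2' q2, hsing _ h3' q3,
    smul_add, smul_add]

theorem polar_zero (p : ℕ) [Fact p.Prime] [CharP F p] (hT : PtPres β) {y z : ι → F}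
    (hy : P.InW y) (hyq : Q y = 0) (hz : P.InW z) (hzq : Q z = 0) (h : B y z = 0) :
    B (D.fn y) (D.fn z) = 0 := by
  by_cases hy0 : y = 0
  · rw [hy0, D.map_zero p, QuadraticMap.polar_zero_left]
  by_cases hz0 : z = 0
  · rw [hz0, D.map_zero p, QuadraticMap.polar_zero_right]
  obtain ⟨a, b, -⟩ := D.singular p hT hy hy0 hyq
  obtain ⟨a', b', -⟩ := D.singular p hT hz hz0 hzq
  exact C.perp_of_sends p hy0 hyq (D.fn_ne_zero p hy hy0) a hz0 hzq (D.fn_ne_zero p hz hz0) a' b b' h

/-- The map is a semisimilarity. -/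
theorem quad_fn (p : ℕ) [Fact p.Prime] [CharP F p] (hT : PtPres β) {σ : F ≃+* F}
    (hσ : ∀ (t : F) (v : ι → F), D.fn (t • v) = σ t • D.fn v) :
    ∃ c : Fˣ, ∀ v, Q (D.fn v) = (c : F) * σ (Q (P.proj v)) := by
  have ha0 : P.a ≠ 0 := fun h => one_ne_zero (α := F) (by
    rw [← P.ab, h, QuadraticMap.polar_zero_left])
  have hb0 : P.b ≠ 0 := fun h => one_ne_zero (α := F) (by
    rw [← P.ab, h, QuadraticMap.polar_zero_right])
  obtain ⟨qa', sa, -⟩ := D.singular p hT P.inW_a ha0 P.qa
  obtain ⟨qb', sb, -⟩ := D.singular p hT P.inW_b hb0 P.qb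
  have hk : B (D.fn P.a) (D.fn P.b) ≠ 0 := fun h => one_ne_zero (α := F) (by
    rw [← P.ab]
    exact C.perp_of_sends p (D.fn_ne_zero p P.inW_a ha0) qa' ha0 P.qa
      (D.fn_ne_zero p P.inW_b hb0) qb' hb0 P.qb (sa.symm C) (sb.symm C) h)
  refine ⟨Units.mk0 _ hk, fun v => ?_⟩
  rw [Units.val_mk0, ← D.map_proj p v]
  set w := P.proj v with hw
  have hwW : P.InW w := P.inW_proj v
  set z := w + (-B P.b w) • P.a + (-B P.a w) • P.b with hz
  have hzW : P.InW z :=
    P.inW_add (P.inW_add hwW (P.inW_smul P.inW_a _)) (P.inW_smul P.inW_b _)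
  have hza : B P.a z = 0 := by
    simp [hz, QuadraticMap.polar_add_right, QuadraticMap.polar_smul_right, P.aa, P.ab]
  have hzb : B P.b z = 0 := by
    simp [hz, QuadraticMap.polar_add_right, QuadraticMap.polar_smul_right, P.bb,
      QuadraticMap.polar_comm (⇑Q) P.b P.a, P.ab]
  -- `z` is a sum of singular vectors perpendicular to `e, f, a, b`
  set y := z + (-B P.d z) • P.c + (-B P.c z) • P.d with hy
  have hyW : P.InW y :=
    P.inW_add (P.inW_add hzW (P.inW_smul P.inW_c _)) (P.inW_smul P.inW_d _)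
  have hya : B P.a y = 0 := by
    simp [hy, QuadraticMap.polar_add_right, QuadraticMap.polar_smul_right, hza, P.ac, P.ad]
  have hyb : B P.b y = 0 := by
    simp [hy, QuadraticMap.polar_add_right, QuadraticMap.polar_smul_right, hzb, P.bc, P.bd]
  have hyc : B P.c y = 0 := by
    simp [hy, QuadraticMap.polar_add_right, QuadraticMap.polar_smul_right, P.cd, polar_self', P.qc]
  have hyd : B P.d y = 0 := by
    simp [hy, QuadraticMap.polar_add_right, QuadraticMap.polar_smul_right, polar_self', P.qd,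
      QuadraticMap.polar_comm (⇑Q) P.d P.c, P.cd]
  have hsum' : z = (y + P.c + (-Q y) • P.d) + (B P.d z - 1) • P.c + (B P.c z + Q y) • P.d := by
    rw [hy]; module
  clear_value y
  set z₁ := y + P.c + (-Q y) • P.d with hz1
  set z₂ := (B P.d z - 1) • P.c with hz2
  set z₃ := (B P.c z + Q y) • P.d with hz3
  have hsum : z = z₁ + z₂ + z₃ := hsum'
  have h1W : P.InW z₁ := P.inW_add (P.inW_add hyW P.inW_c) (P.inW_smul P.inW_d _)
  have h2W : P.InW z₂ := P.inW_smul P.inW_c _
  have h3W : P.InW z₃ := P.inW_smul P.inW_d _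
  have q1 : Q z₁ = 0 := by
    rw [hz1, QuadraticMap.map_add (⇑Q), QuadraticMap.map_add (⇑Q), QuadraticMap.map_smul, P.qc,
      P.qd, QuadraticMap.polar_add_left, QuadraticMap.polar_smul_right,
      QuadraticMap.polar_smul_right, P.cd, QuadraticMap.polar_comm (⇑Q) y P.c, hyc,
      QuadraticMap.polar_comm (⇑Q) y P.d, hyd]
    simp
  have q2 : Q z₂ = 0 := by rw [hz2, QuadraticMap.map_smul, P.qc, smul_zero]
  have q3 : Q z₃ = 0 := by rw [hz3, QuadraticMap.map_smul, P.qd, smul_zero]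
  have orth : ∀ x, P.InW x → Q x = 0 → B x y = 0 → B x P.c = 0 → B x P.d = 0 →
      B (D.fn x) (D.fn z) = 0 := by
    intro x hx hxq hxy hxc hxd
    rw [hsum, D.map_add p, D.map_add p, QuadraticMap.polar_add_right,
      QuadraticMap.polar_add_right, D.polar_zero p hT hx hxq h1W q1 (by
        rw [hz1, QuadraticMap.polar_add_right, QuadraticMap.polar_add_right,
          QuadraticMap.polar_smul_right, hxy, hxc, hxd]; simp),
      D.polar_zero p hT hx hxq h2W q2 (by rw [hz2, QuadraticMap.polar_smul_right, hxc, smul_zero]),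
      D.polar_zero p hT hx hxq h3W q3 (by rw [hz3, QuadraticMap.polar_smul_right, hxd, smul_zero])]
    simp
  have hA := orth P.a P.inW_a P.qa hya P.ac P.ad
  have hB := orth P.b P.inW_b P.qb hyb P.bc P.bd
  -- a singular vector `a - Q(z) b + z`
  set s := P.a + (-Q z) • P.b + z with hs
  have hsW : P.InW s := P.inW_add (P.inW_add P.inW_a (P.inW_smul P.inW_b _)) hzW
  have hsq : Q s = 0 := by
    rw [hs, QuadraticMap.map_add (⇑Q), QuadraticMap.map_add (⇑Q), QuadraticMap.map_smul, P.qa,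
      P.qb, QuadraticMap.polar_add_left, QuadraticMap.polar_smul_left,
      QuadraticMap.polar_smul_right, P.ab, hza, hzb]
    simp
  have hs0 : s ≠ 0 := fun h => one_ne_zero (α := F) (by
    have := congrArg (B P.b) h
    simpa [hs, QuadraticMap.polar_add_right, QuadraticMap.polar_smul_right, P.bb, hzb,
      QuadraticMap.polar_comm (⇑Q) P.b P.a, P.ab] using this)
  obtain ⟨hsq', -, -⟩ := D.singular p hT hsW hs0 hsq
  rw [hs, D.map_add p, D.map_add p, hσ, QuadraticMap.map_add (⇑Q), QuadraticMap.map_add (⇑Q),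
    QuadraticMap.map_smul, QuadraticMap.polar_add_left, QuadraticMap.polar_smul_left,
    QuadraticMap.polar_smul_right, qa', qb', hA, hB, _root_.map_neg] at hsq'
  simp only [smul_zero, add_zero, zero_add, smul_eq_mul, mul_zero] at hsq'
  have hwd : w = B P.b w • P.a + B P.a w • P.b + z := by rw [hz]; module
  have hQw : Q w = B P.b w * B P.a w + Q z := by
    conv_lhs => rw [hwd]
    rw [QuadraticMap.map_add (⇑Q), QuadraticMap.map_add (⇑Q), QuadraticMap.map_smul,
      QuadraticMap.map_smul, P.qa, P.qb, QuadraticMap.polar_add_left, QuadraticMap.polar_smul_left,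
      QuadraticMap.polar_smul_left, QuadraticMap.polar_smul_left, QuadraticMap.polar_smul_right,
      P.ab, hza, hzb]
    simp
  conv_lhs => rw [hwd]
  rw [hQw, D.map_add p, D.map_add p, hσ, hσ, QuadraticMap.map_add (⇑Q), QuadraticMap.map_add (⇑Q),
    QuadraticMap.map_smul, QuadraticMap.map_smul, QuadraticMap.polar_add_left,
    QuadraticMap.polar_smul_left, QuadraticMap.polar_smul_left, QuadraticMap.polar_smul_left,
    QuadraticMap.polar_smul_right, qa', qb', hA, hB, _root_.map_add, _root_.map_mul]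
  simp only [smul_zero, add_zero, zero_add, smul_eq_mul, mul_zero]
  linear_combination hsq'

end RootData

end ThreePairs

end CfsgLib.AutPOmega
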