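import Cfsg.Agent.AutPOmega.Twist

/-!
# Semisimilarities of prime order over a nontrivial field automorphism are field automorphisms

No rationality of `Q` is assumed: in coordinates adapted to a descended form the automorphism becomes
the standard one.
-/

set_option autoImplicit false
set_option linter.unusedSectionVars false
set_option linter.style.haveILetI false

namespace CfsgLib.AutPOmega

open Matrix Module CfsgLib.Spinor CfsgLib.Forms CfsgLib.Forms4
open CfsgLib.AutPSL (mapGL twNorm twNorm_succ exists_eq_scalar_mul_map_inv)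

variable {F : Type*} [Field F] [Finite F] {ι : Type} [Fintype ι] [DecidableEq ι]
  {Q : QuadraticForm F (ι → F)}

/-- Powers of a semisimilarity. -/
theorem Semi.exists_pow (S : Semi Q) :
    ∀ k : ℕ, ∃ T : Semi Q, T.σ = S.σ ^ k ∧ T.g = twNorm S.σ S.g k ∧ T.aut = S.aut ^ k
  | 0 => ⟨Semi.one Q, rfl, rfl, by rw [Semi.one_aut, pow_zero]⟩
  | k + 1 => by
    obtain ⟨T, hσ, hg, ha⟩ := S.exists_pow k
    exact ⟨S.mul T, by rw [Semi.mul_σ, hσ, pow_succ'], by rw [Semi.mul_g, hg, twNorm_succ],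
      by rw [Semi.mul_aut, ha, pow_succ']⟩

theorem Semi.twNorm_scalar (S : Semi Q) (C : Ctx Q) {r : ℕ} (h : S.aut ^ r = 1) :
    S.σ ^ r = 1 ∧ ∃ d : Fˣ, twNorm S.σ S.g r = Matrix.GeneralLinearGroup.scalar ι d := by
  obtain ⟨T, hσ, hg, ha⟩ := S.exists_pow r
  obtain ⟨h1, u, hu⟩ := T.eq_scalar_of_aut_eq_one C (ha.trans h)
  refine ⟨hσ ▸ h1, u, hg ▸ Units.ext (hu.trans ?_)⟩
  ext i j
  by_cases hij : i = j <;> simp [hij]

/-- In coordinates adapted to a descended form, `S` is the field automorphism. -/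
theorem Semi.exists_field_model (S : Semi Q) (C : Ctx Q) {K : Type*} [Field K] [Finite K] {e : K →+* F}
    (he : IsFixedField e S.σ) {r : ℕ} (hr : orderOf S.σ = r) (hr0 : 0 < r) (h : S.aut ^ r = 1) :
    ∃ Q₁ : QuadraticForm K (ι → K), (QuadraticMap.polarBilin Q₁).Nondegenerate ∧
      (∀ {κ : Type} [Fintype κ] [DecidableEq κ] (X₀ : QuadraticForm K (κ → K))
          (X : QuadraticForm F (κ → F)) (hX : IsExt e X₀ X),
        Similar Q₁ X₀ → ∃ (L : (κ → F) ≃ₗ[F] (ι → F)) (c : Fˣ) (hL : ∀ v, Q (L v) = (c : F) * X v),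
          MulAut.congr (pomCongr hL) S.aut = fld (hX.rat he.apply)) := by
  haveI := C.nonempty
  obtain ⟨-, d, hd⟩ := S.twNorm_scalar C h
  obtain ⟨u, g, hug⟩ := exists_eq_scalar_mul_map_inv hr hr0 hd
  have hsig : ∀ z : ι → F, S.g.1 *ᵥ ((CfsgLib.AutPSL.mapGL S.σ g).1 *ᵥ z) = (u : F) • (g.1 *ᵥ z) := fun z => by
    rw [Matrix.mulVec_mulVec, ← Units.val_mul, hug, mul_assoc, inv_mul_cancel_right, Units.val_mul,
      ← Matrix.mulVec_mulVec, scalar_mulVec]
  have hfn : ∀ v : ι → F, g.1 *ᵥ (fun i => S.σ (v i)) = (u : F)⁻¹ • S.fn (g.1 *ᵥ v) := fun v => by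
    rw [Semi.fn, ← twist_mulVec, hsig, inv_smul_smul₀ u.ne_zero]
  obtain ⟨b, Q₁, hnd, hval⟩ := exists_descent_of_pullback he C.nondeg C.exists_value_one hr hr0 g
    (S.c * (u * u)⁻¹) fun v => by
      rw [hfn, QuadraticMap.map_smul, Semi.fn, S.quad, smul_eq_mul, Units.val_mul,
        Units.val_inv_eq_inv_val, Units.val_mul]
      field_simp
  refine ⟨Q₁, hnd, fun {κ} _ _ X₀ X hX hsim => ?_⟩
  obtain ⟨L, c, hL, hLσ⟩ := exists_model_equiv (σ := S.σ) he hval hX hsim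
  refine ⟨L, c, hL, congr_semi hL _ _ u⁻¹ fun w => ?_⟩
  show L (((1 : GL κ F) : Matrix κ κ F) *ᵥ fun i => S.σ (w i)) = _
  rw [Units.val_one, Matrix.one_mulVec, hLσ, hfn, Matrix.mulVec_mulVec, ← Units.val_mul, mul_inv_cancel,
    Units.val_one, Matrix.one_mulVec, Units.val_inv_eq_inv_val]

end CfsgLib.AutPOmega
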