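import Cfsg.Agent.AutPOmega.Minus
import Cfsg.Agent.AutPOmega.SemiDescent
import Cfsg.Agent.AutPOmega.Balance
import Cfsg.Agent.AutPOmega.InvolutionReduce

/-!
# Local balance for the minus-type groups

Outside the inner-diagonal group an element of prime order `p` is a field automorphism (`σ ≠ 1`) or
comes from an improper similitude with `p = 2`; in the second case the centraliser has no odd core.
-/

set_option autoImplicit false
set_option linter.unusedSectionVars false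
set_option linter.style.haveILetI false

namespace CfsgLib.AutPOmega

open Matrix Module CfsgLib.Spinor CfsgLib.Forms CfsgLib.Forms4 CfsgLib.StdForms

universe u

/-- Over `σ = 1` a semisimilarity is a similitude. -/
theorem Semi.exists_sim {F : Type*} [Field F] [Finite F] {ι : Type} [Fintype ι] [DecidableEq ι]
    {Q : QuadraticForm F (ι → F)} (S : Semi Q) (hσ : S.σ = 1) : ∃ a : GO Q, S.aut = sim a := by
  have hg : S.g ∈ GO Q := ⟨S.c, fun v => by
    have h := S.quad v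
    rwa [hσ] at h⟩
  refine ⟨⟨S.g, hg⟩, ?_⟩
  rw [sim_apply]
  exact Semi.aut_congr rfl hσ

/-- An element of prime order outside the image of the proper similitudes has order two. -/
theorem Ctx.eq_two_of_improper {F : Type*} [Field F] [Finite F] {ι : Type} [Fintype ι] [DecidableEq ι]
    {Q : QuadraticForm F (ι → F)} (C : Ctx Q) (hev : Even (Fintype.card ι)) {a : GO Q} (ha : a ∉ GP Q)
    {p : ℕ} (hp : p.Prime) (hpow : sim a ^ p = 1) : p = 2 := by
  haveI := Fintype.ofFinite F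
  by_contra h2
  obtain ⟨j, hj⟩ := hp.odd_of_ne_two h2
  rw [← map_pow, sim_eq_one_iff C] at hpow
  obtain ⟨u, hu⟩ := hpow
  have hscal : a ^ p ∈ GP Q := by
    rw [show a ^ p = scalarGO Q u from Subtype.ext (hu.trans (scalarGO_val u).symm)]
    exact proper_scalar hev u
  rw [hj, pow_succ, pow_mul] at hscal
  exact ha (((GP Q).mul_mem_cancel_left
    (pow_mem (Subgroup.sq_mem_of_index_two (C.index_GP hev) a) j)).1 hscal)

variable {F : Type u} [Field F] [Fintype F] {k : ℕ} {a b : F}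

/-- Local balance for the minus groups. -/
theorem balance_minus (hk : 3 ≤ k)
    (hab : ∀ z₁ z₂ : F, z₁ ^ 2 + a * z₁ * z₂ + b * z₂ ^ 2 = 0 → z₁ = 0 ∧ z₂ = 0)
    {Q : ((Fin k ⊕ Fin k) ⊕ Fin 2 → F) → F} (hQ : Q = ⇑(minusQ k F a b))
    (A : Subgroup (MulAut (Cfsg.POmega F Q))) (hinn : ∀ t, MulAut.conj t ∈ A) {p : ℕ} [Fact p.Prime]
    (hpF : (p : F) ≠ 0) (x : MulAut (Cfsg.POmega F Q)) (hord : orderOf x = p)
    (hnot : ¬ ∃ g : GL ((Fin k ⊕ Fin k) ⊕ Fin 2) F, g ∈ Cfsg.Geo.quadSimilarityGroup (F := F) Q ∧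
      Cfsg.PreservesSingularClassesMinus k a b g.1 ∧
      Cfsg.IsInducedBySemilinearPOmega Q g (RingEquiv.refl F) x) :
    Cfsg.pPrimeCore p ↥(A ⊓ Subgroup.centralizer {x}) ≠ ⊥ ↔
      ((∃ (a' b' : F) (ψ : Cfsg.POmega F Q ≃* Cfsg.POmega F (Cfsg.quadFormMinus k F a' b')) (σ : F ≃+* F),
        (∀ z₁ z₂ : F, z₁ ^ 2 + a' * z₁ * z₂ + b' * z₂ ^ 2 = 0 → z₁ = 0 ∧ z₂ = 0) ∧
        σ ≠ RingEquiv.refl F ∧ σ a' = a' ∧ σ b' = b' ∧
        Cfsg.IsFieldAutPOmegaOf (Cfsg.quadFormMinus k F a' b') σ ((ψ.symm.trans x).trans ψ)) ∧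
      Nat.Coprime p (Nat.card ↥(MonoidHom.eqLocus x.toMonoidHom (MonoidHom.id (Cfsg.POmega F Q))))) := by
  have hpp : p.Prime := Fact.out
  have hfield := fun hx => fieldClass_minus hk hab hQ hpp hord (fun a' b' => (coe_minusQ k a' b').symm) hx
  subst hQ
  have C := ctx_minusQ (F := F) hk hab
  have hev := even_card_minus k
  obtain ⟨S, hS⟩ := C.exists_semi (noTriality_minusQ hab) x
  subst hS
  by_cases hσ1 : S.σ = 1
  · obtain ⟨g, hg⟩ := S.exists_sim hσ1
    rw [hg] at hord hnot hfield ⊢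
    have hgP : g ∉ GP (minusQ k F a b) := fun h =>
      hnot ⟨g.1, g.2, (psc_minus_iff hk hab g.2).2 h, (sim_induced_iff g).2 rfl⟩
    have hg1 : sim g ^ p = 1 := hord ▸ pow_orderOf_eq_one (sim g)
    obtain rfl : p = 2 := C.eq_two_of_improper hev hgP hpp hg1
    have h2 : (2 : F) ≠ 0 := by simpa using hpF
    refine iff_of_false (not_not_intro ?_) fun ⟨hx, _⟩ => ?_
    · exact C.core_improper hev h2 g hgP hg1
        (fun β _ => C.exists_semi (noTriality_minusQ hab) β) A hinn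
    · obtain ⟨a', b', -, σ, -, -, -, -, hodd, -, -⟩ := hfield hx
      exact absurd hodd (by decide)
  have hpow : S.aut ^ p = 1 := hord ▸ pow_orderOf_eq_one _
  have hσ : orderOf S.σ = p := orderOf_eq_prime (S.twNorm_scalar C hpow).1 hσ1
  let K := CfsgLib.FixedField.fixedSub S.σ
  haveI : Fintype K := Fintype.ofFinite K
  have he : IsFixedField K.subtype S.σ := fun x => ⟨fun hx => ⟨⟨x, hx⟩, rfl⟩, fun ⟨y, hy⟩ => hy ▸ y.2⟩
  obtain ⟨Q₁, hnd, hmodel⟩ := S.exists_field_model C he hσ hpp.pos hpow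
  rcases similar_plus_or_minus hnd (k := k) (by simp; omega) with h1 | ⟨ζ, hζ, h1⟩
  · exfalso
    obtain ⟨L, c, hL, -⟩ := hmodel _ _ (isExt_plusQ K.subtype (k + 1)) h1
    exact not_similar_plus_minus hab ⟨L, c, hL⟩
  obtain ⟨L, c, hL, hx⟩ := hmodel _ _ (isExt_minusQ K.subtype k (1 : K) ζ) h1
  have hX : ∀ z₁ z₂ : F, z₁ ^ 2 + K.subtype 1 * z₁ * z₂ + K.subtype ζ * z₂ ^ 2 = 0 → z₁ = 0 ∧ z₂ = 0 := by
    by_contra hne
    push Not at hne
    obtain ⟨z₁, z₂, hz, hz'⟩ := hne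
    have hz₂ : z₂ ≠ 0 := fun h0 => hz' (by simpa [h0] using hz) h0
    have hroot : (z₁ / z₂) ^ 2 + K.subtype 1 * (z₁ / z₂) + K.subtype ζ = 0 := by
      field_simp; linear_combination hz
    exact not_similar_plus_minus hab (Similar.trans ⟨L, c, hL⟩ (similar_plus_of_root
      ((isExt_minusQ K.subtype k (1 : K) ζ).nondegenerate (minusQ_nondegenerate k (disc_ne_zero hζ))) hroot))
  have C₀ := ctx_minusQ (F := K) hk hζ
  have hclass : ∃ (a' b' : F) (ψ : Cfsg.POmega F ⇑(minusQ k F a b) ≃*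
      Cfsg.POmega F (Cfsg.quadFormMinus k F a' b')) (σ : F ≃+* F),
      (∀ z₁ z₂ : F, z₁ ^ 2 + a' * z₁ * z₂ + b' * z₂ ^ 2 = 0 → z₁ = 0 ∧ z₂ = 0) ∧
      σ ≠ RingEquiv.refl F ∧ σ a' = a' ∧ σ b' = b' ∧
      Cfsg.IsFieldAutPOmegaOf (Cfsg.quadFormMinus k F a' b') σ ((ψ.symm.trans S.aut).trans ψ) := by
    refine ⟨K.subtype 1, K.subtype ζ, ?_⟩
    rw [← coe_minusQ]
    exact ⟨pomCongr hL, S.σ, hX, hσ1, he.apply _, he.apply _, (fld_induced_iff _).2 hx⟩
  rw [and_iff_right hclass]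
  exact core_iff_of_congr (pomCongr hL) hinn hx fun A' hA' =>
    (isExt_minusQ K.subtype k (1 : K) ζ).core_field_iff he (ctx_minusQ hk hX) C₀ A' hA' hpF hσ _

end CfsgLib.AutPOmega
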