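import Cfsg.Agent.AutPOmega.SpinorClass
import Cfsg.Agent.AutPSL.Transport
import Cfsg.Agent.AutPSL.FieldAut

/-!
# The odd-dimensional orthogonal groups
-/

set_option autoImplicit false
set_option linter.unusedSectionVars false
set_option linter.style.haveILetI false

namespace CfsgLib.AutPOmega

open Matrix Module CfsgLib.Spinor CfsgLib.Forms CfsgLib.Forms4 CfsgLib.StdForms
open CfsgLib.AutPSL (mapGL twNorm)

theorem isExt_oddQ {K F : Type*} [Field K] [Field F] (e : K →+* F) (m : ℕ) :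
    IsExt e (oddQ m K) (oddQ m F) := fun v => by
  simp [oddQ_apply, Cfsg.quadFormOdd]

variable {F : Type*} [Field F] [Fintype F] {m : ℕ}

theorem rat_oddQ (σ : F ≃+* F) : Rat (oddQ m F) σ := isExt_oddQ (σ : F →+* F) m

theorem inndiag_oddQ : (⊤ : Subgroup (GO (oddQ m F))).map sim = Cfsg.pgoAut F ⇑(oddQ m F) := by
  rw [pgoAut_eq, ← MonoidHom.range_eq_map]

variable (hm : 3 ≤ m) (h2 : (2 : F) ≠ 0)
include hm h2

theorem conj_mem_range_odd (α : MulAut (Cfsg.POmega F ⇑(oddQ m F))) {δ : MulAut (Cfsg.POmega F ⇑(oddQ m F))}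
    (hδ : δ ∈ (⊤ : Subgroup (GO (oddQ m F))).map sim) :
    α * δ * α⁻¹ ∈ (⊤ : Subgroup (GO (oddQ m F))).map sim := by
  obtain ⟨S, rfl⟩ := (ctx_oddQ hm h2).exists_semi (noTriality_oddQ h2) α
  obtain ⟨a, -, rfl⟩ := hδ
  exact ⟨⟨_, S.mapGL_mem_GO a⟩, Subgroup.mem_top _, by rw [Semi.aut_mul_sim, mul_inv_cancel_right]⟩

/-- In odd dimension every element of order `r` outside the similitudes is conjugate to the field
automorphism. -/
theorem exists_conj_fld_odd {σ : F ≃+* F} {r : ℕ} (hσ : orderOf σ = r) (hr0 : 0 < r)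
    (a : GO (oddQ m F)) (h : (sim a * fld (rat_oddQ σ)) ^ r = 1) :
    ∃ g : GO (oddQ m F), sim a * fld (rat_oddQ σ) = sim g * fld (rat_oddQ σ) * (sim g)⁻¹ := by
  have C := ctx_oddQ hm h2 (F := F)
  obtain ⟨d, hd⟩ := twNorm_scalar_of_pow C (rat_oddQ σ) a hσ h
  let K := CfsgLib.FixedField.fixedSub σ
  haveI : Fintype K := Fintype.ofFinite K
  have he : IsFixedField K.subtype σ := fun x => ⟨fun hx => ⟨⟨x, hx⟩, rfl⟩, fun ⟨y, hy⟩ => hy ▸ y.2⟩
  have hE := isExt_oddQ K.subtype m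
  obtain ⟨u, g, b, Q₁, hag, hnd, hval⟩ :=
    exists_descent he (rat_oddQ σ) C.nondeg C.exists_value_one hσ hr0 a.2 hd
  obtain ⟨g', hg', hgg⟩ := hE.exists_coboundary he hval (similar_oddQ hnd (m := m) (by simp; omega))
  exact ⟨⟨g', hg'⟩, sim_mul_fld_eq_conj C (rat_oddQ σ) (by rw [hag, hgg])⟩

omit hm h2 in
theorem fieldClass_cases {ι : Type} [Fintype ι] [DecidableEq ι] {Q : QuadraticForm F (ι → F)}
    (hrat : ∀ σ : F ≃+* F, Rat Q σ) {x : MulAut (Cfsg.POmega F ⇑Q)}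
    (hx : Cfsg.IsFieldAutClassPOmega (⇑Q) x) :
    ∃ (α : MulAut (Cfsg.POmega F ⇑Q)) (σ : F ≃+* F), σ ≠ 1 ∧ x = α⁻¹ * fld (hrat σ) * α := by
  obtain ⟨α, φ, σ, hσ, hφ, e⟩ := hx
  rw [(fld_induced_iff (hrat σ)).1 hφ] at e
  exact ⟨α, σ, hσ, by rw [← e]; group⟩

omit hm h2 in
theorem orderOf_conj_eq {X : Type*} [Group X] (α y : X) : orderOf (α⁻¹ * y * α) = orderOf y := by
  have := MulEquiv.orderOf_eq (MulAut.conj α⁻¹) y
  simpa [MulAut.conj_apply] using this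

/-- An automorphism of prime order in the coset of a field automorphism. -/
theorem coset_iff_odd {x δ : MulAut (Cfsg.POmega F ⇑(oddQ m F))}
    (hx : Cfsg.IsFieldAutClassPOmega (⇑(oddQ m F)) x) {r : ℕ} (hr : r.Prime) (hxr : orderOf x = r)
    (hδ : δ ∈ (⊤ : Subgroup (GO (oddQ m F))).map sim) :
    orderOf (δ * x) = r ↔
      Cfsg.IsConjUnder ((⊤ : Subgroup (GO (oddQ m F))).map sim) x (δ * x) := by
  refine ⟨fun h => ?_, fun ⟨k, _, e⟩ => by
    rw [e, ← MulAut.conj_apply, MulEquiv.orderOf_eq, hxr]⟩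
  obtain ⟨α, σ, -, rfl⟩ := fieldClass_cases rat_oddQ hx
  have C := ctx_oddQ hm h2 (F := F)
  rw [orderOf_conj_eq, orderOf_fld C] at hxr
  obtain ⟨a, -, ha⟩ := conj_mem_range_odd hm h2 α hδ
  have e1 : δ * (α⁻¹ * fld (rat_oddQ σ) * α) = α⁻¹ * (sim a * fld (rat_oddQ σ)) * α := by
    rw [ha]; group
  rw [e1, orderOf_conj_eq] at h
  obtain ⟨g, hg⟩ := exists_conj_fld_odd hm h2 hxr hr.pos a (h ▸ pow_orderOf_eq_one _)
  refine ⟨α⁻¹ * sim g * α⁻¹⁻¹, conj_mem_range_odd hm h2 α⁻¹ ⟨g, Subgroup.mem_top _, rfl⟩, ?_⟩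
  rw [e1, hg]
  group

omit h2 in
theorem model_odd {K : Type*} [Field K] [Fintype K] {e : K →+* F} {σ : F ≃+* F}
    (he : IsFixedField e σ) (h2K : (2 : K) ≠ 0) :
    Model (isExt_oddQ e m) σ (⊤ : Subgroup (GO (oddQ m F))) ⊤ where
  fixed := he
  ctx := ctx_oddQ hm fun h => h2K (e.injective (by rw [map_ofNat, h, map_zero]))
  ctx₀ := ctx_oddQ hm h2K
  scalar_mem := fun _ => Subgroup.mem_top _
  mem_iff := fun _ => iff_of_true (Subgroup.mem_top _) (Subgroup.mem_top _)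
  omega_mem := fun _ => Subgroup.mem_top _

omit hm in
/-- In odd dimension every similitude is a scalar times a rotation. -/
theorem exists_scalar_mul_det_one (g : GO (oddQ m F)) :
    ∃ (u : Fˣ) (k : ↥(Cfsg.isometryGroup F ⇑(oddQ m F))),
      (mat (oddQ m F) k).det = 1 ∧ g.1 = Matrix.GeneralLinearGroup.scalar _ u * k.1 := by
  obtain ⟨c, hc⟩ := g.2
  have hc : HasMult (oddQ m F) g.1 c := hc
  have hd := hc.det_sq (oddQ_nondegenerate h2 m)
  set D := (g.1 : Matrix (Unit ⊕ (Fin m ⊕ Fin m)) (Unit ⊕ (Fin m ⊕ Fin m)) F).det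
  rw [show Fintype.card (Unit ⊕ (Fin m ⊕ Fin m)) = 2 * m + 1 by simp; omega, pow_succ (c : F) (2 * m), pow_mul' (c : F)] at hd
  have hD : D ≠ 0 := g.1.det.ne_zero
  set s : F := D / (c : F) ^ m with hs
  have hs2 : s * s = c := by
    rw [hs]; field_simp; linear_combination hd
  have hs0 : s ≠ 0 := div_ne_zero hD (pow_ne_zero _ c.ne_zero)
  have hcu : Units.mk0 s hs0 * Units.mk0 s hs0 = c := Units.ext hs2
  have h1 : HasMult (oddQ m F) ((Matrix.GeneralLinearGroup.scalar _ (Units.mk0 s hs0))⁻¹ * g.1) 1 := by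
    have := (HasMult.scalar (Q := oddQ m F) (Units.mk0 s hs0)).inv.mul hc
    rwa [hcu, inv_mul_cancel] at this
  refine ⟨Units.mk0 s hs0, ⟨_, h1.mem_isometry⟩, ?_, (mul_inv_cancel_left _ _).symm⟩
  show (((Matrix.GeneralLinearGroup.scalar _ (Units.mk0 s hs0))⁻¹ * g.1 : GL _ F) :
    Matrix (Unit ⊕ (Fin m ⊕ Fin m)) (Unit ⊕ (Fin m ⊕ Fin m)) F).det = 1
  rw [← map_inv, Units.val_mul, det_mul, det_scalar,
    show Fintype.card (Unit ⊕ (Fin m ⊕ Fin m)) = 2 * m + 1 by simp; omega, Units.val_inv_eq_inv_val,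
    Units.val_mk0, inv_pow, inv_mul_eq_iff_eq_mul₀ (pow_ne_zero _ hs0), mul_one, pow_succ, pow_mul,
    pow_two, hs2, hs]
  show D = _
  field_simp

omit hm in
theorem mem_of_det_one_split {H : Subgroup (GO (oddQ m F))}
    (hΩ : ∀ k ∈ Cfsg.Omega F ⇑(oddQ m F), (⟨k.1, isometry_mem_GO k⟩ : GO (oddQ m F)) ∈ H)
    (hZ : ∀ u, (⟨Matrix.GeneralLinearGroup.scalar _ u, scalar_mem_GO u⟩ : GO (oddQ m F)) ∈ H)
    {w : ↥(Cfsg.isometryGroup F ⇑(oddQ m F))} {u v : Unit ⊕ (Fin m ⊕ Fin m) → F}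
    (hw : IsReflProd (oddQ m F) w [u, v]) (hns : ¬ IsSquare (oddQ m F u * oddQ m F v))
    (g : GO (oddQ m F)) : g ∈ H ∨ g * ⟨w.1, isometry_mem_GO w⟩ ∈ H := by
  obtain ⟨s, k, hk, e⟩ := exists_scalar_mul_det_one h2 g
  have hg : g = ⟨Matrix.GeneralLinearGroup.scalar _ s, scalar_mem_GO s⟩ * ⟨k.1, isometry_mem_GO k⟩ :=
    Subtype.ext e
  rcases mem_omega_or_mul h2 (oddQ_nondegenerate h2 m) hw hns hk with h | h
  · exact Or.inl (hg ▸ mul_mem (hZ s) (hΩ k h))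
  · refine Or.inr ?_
    rw [hg, mul_assoc]
    exact mul_mem (hZ s) (hΩ (k * w) h)

/-- The splitting of the class of a field automorphism. -/
theorem splitClassCount_odd {K : Type*} [Field K] [Fintype K] {e : K →+* F} {σ : F ≃+* F}
    (he : IsFixedField e σ) {r : ℕ} (hr : r.Prime) (hσ : orderOf σ = r) :
    Cfsg.splitClassCount ((⊤ : Subgroup (GO (oddQ m F))).map sim)
      (Cfsg.Inn (Cfsg.POmega F ⇑(oddQ m F))) (fld (rat_oddQ σ)) = if r = 2 then 2 else 1 := by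
  have h2K : (2 : K) ≠ 0 := fun h => h2 (by rw [← map_ofNat e 2, h, map_zero])
  have hQ₀ := oddQ_nondegenerate (F := K) h2K m
  have hn : 2 ≤ Fintype.card (Unit ⊕ (Fin m ⊕ Fin m)) := by simp; omega
  have M := model_odd hm he h2K
  rw [show fld (rat_oddQ (m := m) σ) = fld M.rat from rfl, M.splitClassCount_eq hσ hr.pos]
  set H := (omegaHom (oddQ m F)).range ⊔ (⊤ : Subgroup (GO (oddQ m K))).map (isExt_oddQ e m).goHom ⊔
    Subgroup.closure (Set.range fun u : Fˣ => (⟨Matrix.GeneralLinearGroup.scalar _ u, scalar_mem_GO u⟩ :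
      GO (oddQ m F))) with hH
  have hΩ : ∀ k ∈ Cfsg.Omega F ⇑(oddQ m F), (⟨k.1, isometry_mem_GO k⟩ : GO (oddQ m F)) ∈ H :=
    fun k hk => Subgroup.mem_sup_left (Subgroup.mem_sup_left ⟨⟨k, hk⟩, rfl⟩)
  have hZ : ∀ u, (⟨Matrix.GeneralLinearGroup.scalar _ u, scalar_mem_GO u⟩ : GO (oddQ m F)) ∈ H :=
    fun u => Subgroup.mem_sup_right (Subgroup.subset_closure ⟨u, rfl⟩)
  rw [Subgroup.subgroupOf, Subgroup.index_comap_of_surjective _ (fun g => ⟨⟨g, Subgroup.mem_top g⟩, rfl⟩)]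
  split_ifs with h
  · subst h
    obtain ⟨w, u, v, hw, hns⟩ := exists_det_one_nonsquare h2 (oddQ_nondegenerate (F := F) h2 m) hn
    rw [Subgroup.index_eq_two_iff]
    refine ⟨⟨w.1, isometry_mem_GO w⟩, fun b => ?_⟩
    have hwH : (⟨w.1, isometry_mem_GO w⟩ : GO (oddQ m F)) ∉ H := by
      intro hmem
      let T : Subgroup (GO (oddQ m F)) :=
        { carrier := {g | ∃ (s : Fˣ) (k : OG (oddQ m F)),
            g.1 = Matrix.GeneralLinearGroup.scalar _ s * k.1.1}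
          one_mem' := ⟨1, 1, by simp⟩
          mul_mem' := by
            rintro a b ⟨s, k, ea⟩ ⟨t, l, eb⟩
            refine ⟨s * t, k * l, ?_⟩
            rw [Subgroup.coe_mul, ea, eb, map_mul, Subgroup.coe_mul, Subgroup.coe_mul, mul_assoc,
              ← mul_assoc k.1.1, ← (scalar_commute t k.1.1).eq]
            simp only [mul_assoc]
          inv_mem' := by
            rintro a ⟨s, k, ea⟩
            refine ⟨s⁻¹, k⁻¹, ?_⟩
            rw [Subgroup.coe_inv, ea, _root_.mul_inv_rev, ← map_inv, Subgroup.coe_inv, Subgroup.coe_inv,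
              (scalar_commute s⁻¹ k.1.1⁻¹).eq] }
      have hHT : H ≤ T := by
        refine sup_le (sup_le ?_ ?_) ((Subgroup.closure_le _).2 ?_)
        · rintro _ ⟨k, rfl⟩
          exact ⟨1, k, by rw [map_one, one_mul]; rfl⟩
        · rintro _ ⟨g₀, -, rfl⟩
          obtain ⟨s, k, hk, e0⟩ := exists_scalar_mul_det_one h2K g₀
          refine ⟨Units.map (e : K →* F) s, ⟨_, (isExt_oddQ e m).isoHom_mem_omega_of_order_two he hσ h2K hQ₀ hk⟩, ?_⟩
          rw [IsExt.goHom_val, e0, map_mul]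
          congr 1
          refine Units.ext ?_
          ext i j
          by_cases hij : i = j <;> simp [hij]
        · rintro _ ⟨s, rfl⟩
          exact ⟨s, 1, by simp⟩
      obtain ⟨s, k, hsk⟩ := hHT hmem
      have hd := congrArg (fun g : GL (Unit ⊕ (Fin m ⊕ Fin m)) F =>
        (g : Matrix (Unit ⊕ (Fin m ⊕ Fin m)) (Unit ⊕ (Fin m ⊕ Fin m)) F).det) hsk
      simp only [Units.val_mul, det_mul, det_scalar] at hd
      have hk1 : (mat (oddQ m F) k.1).det = 1 := (mem_special_iff _).1 (omega_le_special k.2)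
      have hs1 : HasMult (oddQ m F) w.1 (s * s) := by
        have h0 := (HasMult.scalar (Q := oddQ m F) s).mul (HasMult.isometry k.1)
        rw [← hsk, mul_one] at h0
        exact h0
      have hss : ((s : F)) * s = 1 := congrArg Units.val
        (hs1.unique (ctx_oddQ hm h2).exists_value_one (HasMult.isometry w))
      rw [show (w.1 : Matrix (Unit ⊕ (Fin m ⊕ Fin m)) (Unit ⊕ (Fin m ⊕ Fin m)) F).det =
          (mat (oddQ m F) w).det from rfl, det_eq_one_of_pair hw,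
        show (k.1.1 : Matrix (Unit ⊕ (Fin m ⊕ Fin m)) (Unit ⊕ (Fin m ⊕ Fin m)) F).det = 1 from hk1,
        mul_one,
        show Fintype.card (Unit ⊕ (Fin m ⊕ Fin m)) = 2 * m + 1 by simp; omega, pow_succ, pow_mul,
        pow_two, hss, one_pow, one_mul] at hd
      have hwk : w = k.1 := Subtype.ext (by rw [hsk, show s = 1 from Units.ext hd.symm, map_one, one_mul])
      obtain ⟨-, hsq⟩ := (mem_omega_iff h2 (oddQ_nondegenerate h2 m) hw).1 (hwk ▸ k.2)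
      exact hns (by simpa using hsq)
    rcases mem_of_det_one_split h2 hΩ hZ hw hns b with hb | hb
    · exact Or.inr ⟨hb, fun h' => hwH (by simpa using mul_mem (inv_mem hb) h')⟩
    · exact Or.inl ⟨hb, fun h' => hwH (by simpa using mul_mem (inv_mem h') hb)⟩
  · rw [Subgroup.index_eq_one, eq_top_iff]
    intro g _
    obtain ⟨s, k, hk, e1⟩ := exists_scalar_mul_det_one h2 g
    obtain ⟨k₀, -, hk₀⟩ := (isExt_oddQ e m).exists_omega_mul he
      (hσ ▸ hr.odd_of_ne_two h) h2K hQ₀ hn hk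
    have hg : g = ⟨Matrix.GeneralLinearGroup.scalar _ s, scalar_mem_GO s⟩ *
        ⟨(k * (isExt_oddQ e m).isoHom k₀).1, isometry_mem_GO _⟩ *
        ((isExt_oddQ e m).goHom ⟨k₀.1, isometry_mem_GO k₀⟩)⁻¹ := by
      refine Subtype.ext ?_
      rw [Subgroup.coe_mul, Subgroup.coe_mul, e1, Subgroup.coe_inv, IsExt.goHom_val, Subgroup.coe_mul,
        ← mul_assoc]
      exact (mul_inv_cancel_right _ _).symm
    rw [hg]
    exact mul_mem (mul_mem (hZ s) (hΩ _ hk₀))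
      (inv_mem (Subgroup.mem_sup_left (Subgroup.mem_sup_right ⟨_, Subgroup.mem_top _, rfl⟩)))

omit hm h2 in
/-- `Inn` is invariant under every automorphism. -/
theorem inn_iff {T : Type*} [Group T] (α : MulAut T) (δ : MulAut T) :
    δ ∈ Cfsg.Inn T ↔ α * δ * α⁻¹ ∈ Cfsg.Inn T :=
  CfsgLib.AutPSL.mem_iff_conj_mem (fun a {_} h => CfsgLib.AutPSL.conj_mem_inn a h) α δ

/-- The field automorphisms of prime order in odd dimension. -/
theorem field_odd {Q : (Unit ⊕ (Fin m ⊕ Fin m) → F) → F} (hQ : Q = ⇑(oddQ m F)) {p f : ℕ}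
    [Fact p.Prime] (hF : Fintype.card F = p ^ f) (hf : 1 ≤ f)
    (x : MulAut (Cfsg.POmega F Q))
    (hx : Cfsg.IsFieldAutClassPOmega Q x) {r : ℕ} (hr : r.Prime) (hxr : orderOf x = r)
    (F₀ : Type*) [Field F₀] [Fintype F₀] {Q₀ : (Unit ⊕ (Fin m ⊕ Fin m) → F₀) → F₀}
    (hQ₀ : Q₀ = ⇑(oddQ m F₀)) (hF₀ : Fintype.card F₀ = p ^ (f / r)) :
    r ∣ f ∧ Nonempty (↥(Cfsg.pgoAut F Q ⊓ Subgroup.centralizer {x}) ≃*
        ↥(Cfsg.pgoAut F₀ Q₀)) ∧
      (Odd r → Cfsg.splitClassCount (Cfsg.pgoAut F Q)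
        (Cfsg.Inn (Cfsg.POmega F Q)) x = 1) ∧
      (r = 2 → Cfsg.splitClassCount (Cfsg.pgoAut F Q)
        (Cfsg.Inn (Cfsg.POmega F Q)) x = 2) := by
  subst hQ hQ₀
  obtain ⟨α, σ, -, rfl⟩ := fieldClass_cases rat_oddQ hx
  rw [orderOf_conj_eq, orderOf_fld (ctx_oddQ hm h2)] at hxr
  have hrf : r ∣ f := hxr ▸ CfsgLib.AutPSL.orderOf_dvd_degree hF hf σ
  obtain ⟨e, he⟩ := CfsgLib.AutPSL.exists_embedding_fixed hF σ hxr hr.pos hrf F₀ hF₀
  have h2K : (2 : F₀) ≠ 0 := fun h => h2 (by rw [← map_ofNat e 2, h, map_zero])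
  rw [← inndiag_oddQ, ← inndiag_oddQ]
  have hinv := CfsgLib.AutPSL.mem_iff_conj_mem (fun a {_} h => conj_mem_range_odd hm h2 a h) (H :=
    (⊤ : Subgroup (GO (oddQ m F))).map sim)
  rw [show α⁻¹ * fld (rat_oddQ σ) * α = α⁻¹ * fld (rat_oddQ σ) * α⁻¹⁻¹ by rw [inv_inv]]
  refine ⟨hrf, ?_, ?_, ?_⟩
  · exact ((model_odd hm he h2K).centralizer_equiv hxr hr.pos).map fun E =>
      (CfsgLib.AutPSL.centralizerConjEquiv _ α⁻¹ _ (hinv α⁻¹)).symm.trans E
  all_goals intro hr'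
  all_goals rw [CfsgLib.AutPSL.splitClassCount_conj _ _ _ _ (hinv α⁻¹) (inn_iff α⁻¹),
    splitClassCount_odd hm h2 he hr hxr]
  · rw [if_neg (fun h => by subst h; exact absurd hr' (by decide))]
  · rw [if_pos hr']

/-- The coset criterion in odd dimension. -/
theorem coset_odd {Q : (Unit ⊕ (Fin m ⊕ Fin m) → F) → F} (hQ : Q = ⇑(oddQ m F))
    {x δ : MulAut (Cfsg.POmega F Q)} (hx : Cfsg.IsFieldAutClassPOmega Q x) {r : ℕ} (hr : r.Prime)
    (hxr : orderOf x = r) (hδ : δ ∈ Cfsg.pgoAut F Q) :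
    orderOf (δ * x) = r ↔ Cfsg.IsConjUnder (Cfsg.pgoAut F Q) x (δ * x) := by
  subst hQ
  rw [← inndiag_oddQ] at hδ ⊢
  exact coset_iff_odd hm h2 hx hr hxr hδ

end CfsgLib.AutPOmega
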