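import Cfsg.Agent.AutPOmega.Odd
import Cfsg.Agent.AutPOmega.Balance

/-!
# Local balance for the odd-dimensional orthogonal groups
-/

set_option autoImplicit false
set_option linter.unusedSectionVars false
set_option linter.style.haveILetI false

namespace CfsgLib.AutPOmega

open Matrix Module CfsgLib.Spinor CfsgLib.Forms CfsgLib.Forms4 CfsgLib.StdForms

variable {F : Type*} [Field F] [Fintype F] {m : ℕ}

theorem isFieldClass_conj {ι : Type} [Fintype ι] [DecidableEq ι] {Q : QuadraticForm F (ι → F)}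
    {σ : F ≃+* F} (hσ : σ ≠ 1) (hR : Rat Q σ) (β : MulAut (Cfsg.POmega F ⇑Q)) :
    Cfsg.IsFieldAutClassPOmega (⇑Q) (β * fld hR * β⁻¹) :=
  ⟨β⁻¹, fld hR, σ, hσ, (fld_induced_iff hR).2 rfl, by group⟩

/-- Local balance for `Ω_{2m+1}`. -/
theorem balance_odd (hm : 3 ≤ m) (h2 : (2 : F) ≠ 0) {Q : (Unit ⊕ (Fin m ⊕ Fin m) → F) → F}
    (hQ : Q = ⇑(oddQ m F)) (A : Subgroup (MulAut (Cfsg.POmega F Q))) (hinn : ∀ k, MulAut.conj k ∈ A)
    {p : ℕ} [Fact p.Prime] (hpF : (p : F) ≠ 0) (x : MulAut (Cfsg.POmega F Q)) (hord : orderOf x = p)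
    (hnot : ¬ Cfsg.IsSimilarityInducedAutPOmega Q x) :
    Cfsg.pPrimeCore p ↥(A ⊓ Subgroup.centralizer {x}) ≠ ⊥ ↔ (Cfsg.IsFieldAutClassPOmega Q x ∧
      Nat.Coprime p (Nat.card ↥(MonoidHom.eqLocus x.toMonoidHom (MonoidHom.id (Cfsg.POmega F Q))))) := by
  subst hQ
  have hpp : p.Prime := Fact.out
  have C := ctx_oddQ (F := F) hm h2
  obtain ⟨S, hS⟩ := C.exists_semi (noTriality_oddQ h2) x
  obtain ⟨a, ha⟩ := S.aut_eq_sim_mul_fld (rat_oddQ S.σ)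
  rw [hS] at ha
  subst ha
  set σ := S.σ
  have hσ1 : σ ≠ 1 := by
    intro h
    refine hnot ⟨a.1, a.2, (sim_induced_iff a).2 ?_⟩
    rw [fld_congr (rat_oddQ σ) Rat.one h, fld_one, mul_one]
  have hσ := orderOf_sigma C (rat_oddQ σ) a hpp hσ1 (hord ▸ pow_orderOf_eq_one _)
  obtain ⟨g, hg⟩ := exists_conj_fld_odd hm h2 hσ hpp.pos a (hord ▸ pow_orderOf_eq_one _)
  rw [hg]
  rw [and_iff_right (isFieldClass_conj hσ1 _ _)]
  let K := CfsgLib.FixedField.fixedSub σ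
  haveI : Fintype K := Fintype.ofFinite K
  have he : IsFixedField K.subtype σ := fun x => ⟨fun hx => ⟨⟨x, hx⟩, rfl⟩, fun ⟨y, hy⟩ => hy ▸ y.2⟩
  have h2K : (2 : K) ≠ 0 := fun h => h2 (by rw [← map_ofNat K.subtype 2, h, map_zero])
  refine core_iff_of_congr (sim g)⁻¹ hinn (MulEquiv.ext fun y => ?_) fun A' hA' =>
    (isExt_oddQ K.subtype m).core_field_iff he C (ctx_oddQ hm h2K) A' hA' hpF hσ (rat_oddQ σ)
  simp [MulAut.congr, MulAut.mul_apply, MulAut.inv_def]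

end CfsgLib.AutPOmega
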