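import Cfsg.Agent.AutPOmega.Basic
import Mathlib.FieldTheory.Finite.Basic

/-!
# Point stabilisers in `Ω(Q)`: normal `p`-subgroups and fixed singular vectors
-/

set_option autoImplicit false
set_option linter.unusedSectionVars false
set_option linter.style.haveILetI false

namespace CfsgLib.AutPOmega

open Matrix Module CfsgLib.Spinor CfsgLib.Forms CfsgLib.Forms4

variable {F : Type*} [Field F] [Finite F] {ι : Type} [Fintype ι] [DecidableEq ι]
  {Q : QuadraticForm F (ι → F)}

set_option quotPrecheck false in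
local notation "B" => QuadraticMap.polar (DFunLike.coe Q)

/-- A `p`-group fixes a vector modulo a proper invariant subspace. -/
theorem exists_fixed_mod (p : ℕ) [Fact p.Prime] [CharP F p] {K : Subgroup (OG Q)}
    (hK : IsPGroup p K) {U W : Submodule F (ι → F)} (hWU : W < U)
    (hU : ∀ g ∈ K, ∀ u ∈ U, app g u ∈ U) (hW : ∀ g ∈ K, ∀ w ∈ W, app g w ∈ W) :
    ∃ v ∈ U, v ∉ W ∧ ∀ g ∈ K, app g v - v ∈ W := by
  classical
  set W' := W.comap U.subtype with hW'
  let T : K → (↥U →ₗ[F] ↥U) := fun g => (Matrix.mulVecLin (mat Q g.1.1)).restrict (hU g.1 g.2)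
  have hT : ∀ g, W' ≤ W'.comap (T g) := fun g u hu => hW g.1 g.2 _ hu
  letI : MulAction K (↥U ⧸ W') :=
    { smul := fun g x => W'.mapQ W' (T g) (hT g) x
      one_smul := fun x => by
        induction x using Submodule.Quotient.induction_on with
        | H u => exact congrArg Submodule.Quotient.mk (Subtype.ext (app_one (Q := Q) u.1))
      mul_smul := fun g h x => by
        induction x using Submodule.Quotient.induction_on with
        | H u => exact congrArg Submodule.Quotient.mk (Subtype.ext (app_mul g.1 h.1 u.1)) }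
  haveI : Finite (↥U ⧸ W') := Quotient.finite _
  haveI : Nontrivial (↥U ⧸ W') := by
    obtain ⟨u, hu, hu'⟩ := SetLike.exists_of_lt hWU
    exact ⟨⟨Submodule.Quotient.mk ⟨u, hu⟩, 0, fun h => hu' ((Submodule.Quotient.mk_eq_zero W').1 h)⟩⟩
  have hdvd : p ∣ Nat.card (↥U ⧸ W') := by
    haveI := Fintype.ofFinite F
    haveI := Fintype.ofFinite (↥U ⧸ W')
    obtain ⟨n, hp, hn⟩ := FiniteField.card F p
    rw [Nat.card_eq_fintype_card, Module.card_eq_pow_finrank (K := F), hn, ← pow_mul]
    exact dvd_pow_self p (mul_ne_zero n.pos.ne' Module.finrank_pos.ne')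
  have hzero : (0 : ↥U ⧸ W') ∈ MulAction.fixedPoints K (↥U ⧸ W') := fun g => map_zero _
  obtain ⟨b, hb, hb0⟩ := hK.exists_fixed_point_of_prime_dvd_card_of_fixed_point _ hdvd hzero
  induction b using Submodule.Quotient.induction_on with
  | H u =>
    refine ⟨u.1, u.2, fun h => hb0 ((Submodule.Quotient.mk_eq_zero W').2 h).symm, fun g hg => ?_⟩
    exact (Submodule.Quotient.eq W').1 (hb ⟨g, hg⟩)

/-- A `p`-group fixes a nonzero vector in each nonzero invariant subspace. -/
theorem exists_fixed (p : ℕ) [Fact p.Prime] [CharP F p] {K : Subgroup (OG Q)}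
    (hK : IsPGroup p K) {U : Submodule F (ι → F)} (hne : U ≠ ⊥)
    (hU : ∀ g ∈ K, ∀ u ∈ U, app g u ∈ U) : ∃ v ∈ U, v ≠ 0 ∧ ∀ g ∈ K, app g v = v := by
  obtain ⟨v, hv, hv0, h⟩ := exists_fixed_mod p hK (bot_lt_iff_ne_bot.2 hne) hU fun g _ w hw => by
    rw [Submodule.mem_bot] at hw ⊢
    rw [hw, app_zero]
  exact ⟨v, hv, fun e => hv0 ((Submodule.mem_bot F).2 e),
    fun g hg => sub_eq_zero.1 ((Submodule.mem_bot F).1 (h g hg))⟩

/-- The vectors fixed by a subgroup. -/
def fixedSub (K : Subgroup (OG Q)) : Submodule F (ι → F) where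
  carrier := {v | ∀ g ∈ K, app g v = v}
  add_mem' := fun {u v} hu hv g hg => by rw [app_add, hu g hg, hv g hg]
  zero_mem' := fun g _ => app_zero g
  smul_mem' := fun t v hv g hg => by rw [app_smul, hv g hg]

theorem perp_bot_eq {W : Submodule F (ι → F)} (hQ : (QuadraticMap.polarBilin Q).Nondegenerate)
    (h : perp Q W = ⊥) : W = ⊤ := by
  rw [← perp_perp hQ W, h, eq_top_iff]
  intro v _ w hw
  rw [Submodule.mem_bot] at hw
  show B w v = 0
  rw [hw, QuadraticMap.polar_zero_left]

/-- A `p`-group fixes a nonzero singular vector. -/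
theorem exists_fixed_singular (p : ℕ) [Fact p.Prime] [CharP F p] (C : Ctx Q) {K : Subgroup (OG Q)}
    (hK : IsPGroup p K) : ∃ x, x ≠ 0 ∧ Q x = 0 ∧ ∀ g ∈ K, app g x = x := by
  obtain ⟨P⟩ := C.pairs
  have hQ := C.nondeg
  haveI := C.nonempty
  set W := fixedSub K with hWdef
  have hWinv : ∀ g ∈ K, ∀ v ∈ perp Q W, app g v ∈ perp Q W := fun g hg v hv w hw => by
    show B w (app g v) = 0
    rw [← hw g hg, polar_app]
    exact hv w hw
  by_cases hU : W ⊓ perp Q W = ⊥
  · have hP : perp Q W = ⊥ := by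
      by_contra hne
      obtain ⟨v, hv, hv0, hfix⟩ := exists_fixed p hK hne hWinv
      exact hv0 ((Submodule.eq_bot_iff _).1 hU v ⟨hfix, hv⟩)
    have htop := perp_bot_eq hQ hP
    refine ⟨P.e, fun h => one_ne_zero (α := F) ?_, P.qe, fun g hg => ?_⟩
    · rw [← P.ef, h, QuadraticMap.polar_zero_left]
    · have : P.e ∈ W := htop ▸ Submodule.mem_top
      exact this g hg
  obtain ⟨z, ⟨hzW, hzP⟩, hz0⟩ := Submodule.exists_mem_ne_zero_of_ne_bot hU
  by_cases hqz : Q z = 0
  · exact ⟨z, hz0, hqz, hzW⟩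
  have hzz : B z z = 0 := hzP z hzW
  have h2 : (2 : F) = 0 := by
    rw [polar_self'] at hzz
    exact (mul_eq_zero.1 hzz).resolve_right hqz
  have hlt : (F ∙ z) < perp Q (F ∙ z) := by
    refine lt_of_le_of_ne (by rw [Submodule.span_singleton_le_iff_mem, mem_perp_span]; exact hzz)
      fun h => ?_
    have h1 := finrank_perp hQ (F ∙ z)
    rw [← h, finrank_span_singleton hz0] at h1
    have := C.card_ge
    omega
  obtain ⟨v, hv, hvz, hfix⟩ := exists_fixed_mod p hK hlt
    (fun g hg u hu => by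
      rw [mem_perp_span] at hu ⊢
      rw [← hzW g hg, polar_app]
      exact hu)
    (fun g hg w hw => by
      obtain ⟨t, rfl⟩ := Submodule.mem_span_singleton.1 hw
      rw [app_smul, hzW g hg]
      exact Submodule.smul_mem _ _ (Submodule.mem_span_singleton_self z))
  rw [mem_perp_span] at hv
  have hvfix : ∀ g ∈ K, app g v = v := fun g hg => by
    obtain ⟨t, ht⟩ := Submodule.mem_span_singleton.1 (hfix g hg)
    have e : app g v = v + t • z := by rw [ht]; abel
    have h := quad_app g v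
    rw [e, QuadraticMap.map_add (⇑Q), QuadraticMap.map_smul, QuadraticMap.polar_smul_right,
      QuadraticMap.polar_comm (⇑Q) v z, hv, smul_zero, add_zero, add_eq_left, smul_eq_mul] at h
    have ht0 : t = 0 := mul_self_eq_zero.1 ((mul_eq_zero.1 h).resolve_right hqz)
    rw [e, ht0, zero_smul, add_zero]
  haveI : CharP F 2 := CharTwo.of_one_ne_zero_of_two_eq_zero one_ne_zero h2
  haveI := Fintype.ofFinite F
  obtain ⟨c, hc⟩ := FiniteField.isSquare_of_char_two (ringChar.eq F 2) (-(Q v) / Q z)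
  refine ⟨v + c • z, fun h => hvz ?_, ?_, fun g hg => by rw [app_add, app_smul, hvfix g hg, hzW g hg]⟩
  · exact Submodule.mem_span_singleton.2 ⟨-c, by rw [neg_smul]; exact (eq_neg_of_add_eq_zero_left h).symm⟩
  · rw [QuadraticMap.map_add (⇑Q), QuadraticMap.map_smul, QuadraticMap.polar_smul_right,
      QuadraticMap.polar_comm (⇑Q) v z, hv, smul_zero, add_zero, smul_eq_mul, ← hc,
      div_mul_cancel₀ _ hqz, add_neg_cancel]

theorem stab_le_stabSub (x : ι → F) : stab Q x ≤ stabSub Q (F ∙ x) := by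
  rintro g ⟨t, ht, e⟩ w
  constructor
  · intro h
    obtain ⟨s, hs⟩ := Submodule.mem_span_singleton.1 h
    refine Submodule.mem_span_singleton.2 ⟨s / t, app_injective g ?_⟩
    rw [app_smul, e, smul_smul, div_mul_cancel₀ _ ht, hs]
  · intro h
    obtain ⟨s, rfl⟩ := Submodule.mem_span_singleton.1 h
    rw [app_smul, e]
    exact Submodule.smul_mem _ _ (Submodule.smul_mem _ _ (Submodule.mem_span_singleton_self x))

theorem unip_le_stab (x : ι → F) : unip Q (F ∙ x) ≤ stab Q x := fun _ hg =>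
  mem_stab_of_eq (hg.1 x (Submodule.mem_span_singleton_self x))

/-- A normal `p`-subgroup of a stabiliser lies in every Sylow subgroup of it. -/
theorem unip_le_sylow (p : ℕ) [Fact p.Prime] [CharP F p] [Nonempty ι] (S : Sylow p (OG Q))
    {W : Submodule F (ι → F)} (h : (S : Subgroup (OG Q)) ≤ stabSub Q W) :
    unip Q W ≤ (S : Subgroup (OG Q)) := by
  have hnorm : (S : Subgroup (OG Q)) ≤ Subgroup.normalizer (unip Q W : Set (OG Q)) := by
    intro A hA
    rw [Subgroup.mem_normalizer_iff]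
    intro g
    refine ⟨fun hg => unip_normal (h hA) hg, fun hg => ?_⟩
    simpa [mul_assoc] using unip_normal (h (inv_mem hA)) hg
  have hsup : IsPGroup p ↥((S : Subgroup (OG Q)) ⊔ unip Q W) :=
    S.2.to_sup_of_normal_right' (isPGroup_unip p W) hnorm
  exact le_sup_right.trans (S.is_maximal' hsup le_sup_left).le

namespace ThreePairs

variable (P : ThreePairs Q)

theorem e_ne_zero : P.e ≠ 0 := fun h => one_ne_zero (α := F) (by
  rw [← P.ef, h, QuadraticMap.polar_zero_left])

theorem inW_c : P.InW P.c := ⟨P.ec, P.fc⟩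

theorem inW_d : P.InW P.d := ⟨P.ed, P.fd⟩

theorem inW_zero : P.InW (0 : ι → F) :=
  ⟨QuadraticMap.polar_zero_right _ _, QuadraticMap.polar_zero_right _ _⟩

theorem eq_zero_of_inW (C : Ctx Q) {z : ι → F} (hz : P.InW z) (h : ∀ w, P.InW w → B w z = 0) :
    z = 0 := C.nondeg.1 z fun y => by
  show B z y = 0
  rw [P.decomp y, QuadraticMap.polar_add_right, QuadraticMap.polar_add_right,
    QuadraticMap.polar_smul_right, QuadraticMap.polar_smul_right, QuadraticMap.polar_comm (⇑Q) z P.e,
    hz.1, QuadraticMap.polar_comm (⇑Q) z P.f, hz.2, QuadraticMap.polar_comm (⇑Q) z (P.proj y),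
    h _ (P.inW_proj y)]
  simp

/-- A subspace strictly above the point of `e`, inside its perpendicular and invariant under the
stabiliser, is the whole perpendicular. -/
theorem eq_perp_of_invariant (C : Ctx Q) {M : Submodule F (ι → F)} (heM : P.e ∈ M)
    (hM : M ≤ perp Q (F ∙ P.e)) (hne : ¬ M ≤ F ∙ P.e)
    (hinv : ∀ g ∈ stab Q P.e, ∀ v ∈ M, app g v ∈ M) : M = perp Q (F ∙ P.e) := by
  classical
  obtain ⟨v, hvM, hve⟩ := Set.not_subset.1 hne
  have hev : B P.e v = 0 := mem_perp_span.1 (hM hvM)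
  set v0 := P.proj v with hv0def
  have hv0W : P.InW v0 := P.inW_proj v
  have hd : v = B P.f v • P.e + v0 := by
    have := P.decomp v
    rwa [hev, zero_smul, add_zero] at this
  have hv0 : v0 ≠ 0 := fun h => hve (by
    rw [hd, h, add_zero]
    exact Submodule.smul_mem _ _ (Submodule.mem_span_singleton_self _))
  -- a singular vector not perpendicular to `v0`
  obtain ⟨u, huW, hu, huv⟩ : ∃ u, P.InW u ∧ Q u = 0 ∧ B u v0 ≠ 0 := by
    by_contra h
    push Not at h
    refine hv0 (P.eq_zero_of_inW C hv0W fun w hw => ?_)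
    obtain ⟨z₁, z₂, z₃, ⟨h1, q1⟩, ⟨h2, q2⟩, ⟨h3, q3⟩, rfl⟩ := P.exists_three_singular hw
    rw [QuadraticMap.polar_add_left, QuadraticMap.polar_add_left, h _ h1 q1, h _ h2 q2, h _ h3 q3]
    simp
  have hu0 : u ≠ 0 := fun h => huv (by rw [h, QuadraticMap.polar_zero_left])
  have huv' : B u v ≠ 0 := by
    rw [hd, QuadraticMap.polar_add_right, QuadraticMap.polar_smul_right,
      QuadraticMap.polar_comm (⇑Q) u P.e, huW.1]
    simpa using huv
  have hD : ∀ c, P.InW c → B u c = 0 → B u v • c - B c v • u - (Q c * B u v) • u ∈ M := by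
    intro c hc huc
    have hfix : app (C.eichG u c hu huc) P.e = P.e := by
      rw [C.app_eichG, eich_mulVec, QuadraticMap.polar_comm (⇑Q) u P.e, huW.1,
        QuadraticMap.polar_comm (⇑Q) c P.e, hc.1]
      simp
    have h := M.sub_mem (hinv _ (mem_stab_of_eq hfix) v hvM) hvM
    rwa [C.app_eichG, eich_mulVec, add_sub_cancel_left] at h
  have huM : u ∈ M := by
    obtain ⟨u', hu'W, hu', huu'⟩ := P.exists_partner_inW C.nondeg huW hu hu0
    have hu'u : B u' u = 1 := by rw [QuadraticMap.polar_comm]; exact huu'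
    have huu : B u u = 0 := by rw [polar_self', hu, mul_zero]
    have hu'u' : B u' u' = 0 := by rw [polar_self', hu', mul_zero]
    -- a vector perpendicular to `e, f, u, u'`
    have hker := le_finrank_perpSub Q ![P.e, P.f, u, u']
    rw [finrank_fintype_fun_eq_card] at hker
    have hcard := C.card_ge
    obtain ⟨c₁, hc₁, hc₁0⟩ := Submodule.exists_mem_ne_zero_of_ne_bot
      (p := perpSub Q ![P.e, P.f, u, u']) (fun h => by
        rw [h, finrank_bot] at hker; omega)
    have hc1W : P.InW c₁ := ⟨by simpa using mem_perpSub.1 hc₁ 0, by simpa using mem_perpSub.1 hc₁ 1⟩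
    have huc1 : B u c₁ = 0 := by simpa using mem_perpSub.1 hc₁ 2
    have hu'c1 : B u' c₁ = 0 := by simpa using mem_perpSub.1 hc₁ 3
    obtain ⟨w, hw, hwc⟩ : ∃ w, P.InW w ∧ B w c₁ ≠ 0 := by
      by_contra h
      push Not at h
      exact hc₁0 (P.eq_zero_of_inW C hc1W h)
    set c₂ := w - B u' w • u - B u w • u' with hc2
    have hc2W : P.InW c₂ := by
      constructor <;>
        simp [hc2, QuadraticMap.polar_sub_right, QuadraticMap.polar_smul_right, hw.1, hw.2, huW.1,
          huW.2, hu'W.1, hu'W.2]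
    have huc2 : B u c₂ = 0 := by
      simp [hc2, QuadraticMap.polar_sub_right, QuadraticMap.polar_smul_right, huu, huu']
    have hc12 : B c₁ c₂ ≠ 0 := by
      rw [hc2, QuadraticMap.polar_sub_right, QuadraticMap.polar_sub_right,
        QuadraticMap.polar_smul_right, QuadraticMap.polar_smul_right,
        QuadraticMap.polar_comm (⇑Q) c₁ u, huc1, QuadraticMap.polar_comm (⇑Q) c₁ u', hu'c1,
        QuadraticMap.polar_comm (⇑Q) c₁ w]
      simpa using hwc
    have h12 := hD _ (P.inW_add hc1W hc2W)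
      (by rw [QuadraticMap.polar_add_right, huc1, huc2, add_zero])
    have h := M.sub_mem (M.sub_mem h12 (hD _ hc1W huc1)) (hD _ hc2W huc2)
    have e : B u v • (c₁ + c₂) - B (c₁ + c₂) v • u - (Q (c₁ + c₂) * B u v) • u -
        (B u v • c₁ - B c₁ v • u - (Q c₁ * B u v) • u) -
        (B u v • c₂ - B c₂ v • u - (Q c₂ * B u v) • u) = (-(B c₁ c₂ * B u v)) • u := by
      rw [QuadraticMap.polar_add_left, QuadraticMap.map_add (⇑Q)]
      module
    rw [e] at h
    exact (M.smul_mem_iff (neg_ne_zero.2 (mul_ne_zero hc12 huv'))).1 h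
  have hW : ∀ w, P.InW w → w ∈ M := by
    intro w hw
    have hv0M : v0 ∈ M := by
      have h := M.sub_mem hvM (M.smul_mem (B P.f v) heM)
      rwa [show v - B P.f v • P.e = v0 by rw [sub_eq_iff_eq_add']; exact hd] at h
    set s := B u w / B u v0
    have hc : B u (w - s • v0) = 0 := by
      rw [QuadraticMap.polar_sub_right, QuadraticMap.polar_smul_right, smul_eq_mul,
        div_mul_cancel₀ _ huv, sub_self]
    have hcW : P.InW (w - s • v0) := by
      rw [sub_eq_add_neg, ← neg_smul]; exact P.inW_add hw (P.inW_smul hv0W _)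
    have h := hD _ hcW hc
    have h' : B u v • (w - s • v0) ∈ M := by
      have := M.add_mem (M.add_mem h (M.smul_mem (Q (w - s • v0) * B u v) huM))
        (M.smul_mem (B (w - s • v0) v) huM)
      convert this using 1
      module
    have := M.add_mem ((M.smul_mem_iff huv').1 h') (M.smul_mem s hv0M)
    rwa [sub_add_cancel] at this
  refine le_antisymm hM fun x hx => ?_
  rw [mem_perp_span] at hx
  rw [P.decomp x, hx, zero_smul, add_zero]
  exact M.add_mem (M.smul_mem _ heM) (hW _ (P.inW_proj x))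

/-- A normal `p`-subgroup of the stabiliser of `e` lies in the unipotent radical. -/
theorem normal_le_unip (p : ℕ) [Fact p.Prime] [CharP F p] (C : Ctx Q) {K : Subgroup (OG Q)}
    (hK : IsPGroup p K) (hle : K ≤ stab Q P.e)
    (hnor : ∀ g ∈ stab Q P.e, ∀ k ∈ K, g * k * g⁻¹ ∈ K) : K ≤ unip Q (F ∙ P.e) := by
  obtain ⟨v, hv, hv0, hvfix⟩ := exists_fixed p hK (U := F ∙ P.e)
    (by simp [P.e_ne_zero]) (fun g hg u hu => (stab_le_stabSub _ (hle hg) u).2 hu)
  obtain ⟨t, rfl⟩ := Submodule.mem_span_singleton.1 hv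
  have ht : t ≠ 0 := fun h => hv0 (by rw [h, zero_smul])
  have hfix : ∀ g ∈ K, app g P.e = P.e := fun g hg => by
    have := hvfix g hg
    rwa [app_smul, (smul_right_injective _ ht).eq_iff] at this
  let M : Submodule F (ι → F) :=
    { carrier := {w | w ∈ perp Q (F ∙ P.e) ∧ ∀ g ∈ K, app g w - w ∈ F ∙ P.e}
      add_mem' := fun {a b} ha hb => ⟨add_mem ha.1 hb.1, fun g hg => by
        have e : app g (a + b) - (a + b) = (app g a - a) + (app g b - b) := by rw [app_add]; abel
        rw [e]; exact add_mem (ha.2 g hg) (hb.2 g hg)⟩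
      zero_mem' := ⟨zero_mem _, fun g _ => by rw [app_zero, sub_zero]; exact zero_mem _⟩
      smul_mem' := fun c a ha => ⟨Submodule.smul_mem _ c ha.1, fun g hg => by
        rw [app_smul, ← smul_sub]; exact Submodule.smul_mem _ c (ha.2 g hg)⟩ }
  have hee : B P.e P.e = 0 := P.ee
  have hlt : (F ∙ P.e) < perp Q (F ∙ P.e) := by
    refine lt_of_le_of_ne (by rw [Submodule.span_singleton_le_iff_mem, mem_perp_span]; exact hee)
      fun h => ?_
    have h1 := finrank_perp C.nondeg (F ∙ P.e)
    rw [← h, finrank_span_singleton P.e_ne_zero] at h1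
    have := C.card_ge
    omega
  obtain ⟨w, hw, hwe, hwfix⟩ := exists_fixed_mod p hK hlt
    (fun g hg u hu => (mem_stabSub_of_perp (stab_le_stabSub _ (hle hg))).2 hu)
    (fun g hg u hu => (stab_le_stabSub _ (hle hg) u).2 hu)
  have hMeq : M = perp Q (F ∙ P.e) := P.eq_perp_of_invariant C
    ⟨mem_perp_span.2 hee, fun g hg => by rw [hfix g hg, sub_self]; exact zero_mem _⟩
    (fun a ha => ha.1) (fun h => hwe (h ⟨hw, hwfix⟩)) (fun g hg a ha => by
      refine ⟨(mem_stabSub_of_perp (stab_le_stabSub _ hg)).2 ha.1, fun k hk => ?_⟩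
      have h1 := ha.2 (g⁻¹ * k * g⁻¹⁻¹) (hnor _ (inv_mem hg) k hk)
      rw [inv_inv] at h1
      have h2 := (stab_le_stabSub _ hg _).2 h1
      rwa [app_sub, ← app_mul, mul_assoc, mul_inv_cancel_left, app_mul] at h2)
  intro g hg
  refine ⟨fun x hx => ?_, fun x hx => ?_⟩
  · obtain ⟨s, rfl⟩ := Submodule.mem_span_singleton.1 hx
    rw [app_smul, hfix g hg]
  · rw [← hMeq] at hx
    exact hx.2 g hg

theorem eichG_mem_unip (C : Ctx Q) {a : ι → F} (ha : B P.e a = 0) :
    C.eichG P.e a P.qe ha ∈ unip Q (F ∙ P.e) := by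
  refine ⟨fun x hx => ?_, fun x hx => ?_⟩
  · obtain ⟨s, rfl⟩ := Submodule.mem_span_singleton.1 hx
    rw [app_smul, C.app_eichG, eich_mulVec_left P.qe ha]
  · rw [mem_perp_span] at hx
    rw [C.app_eichG, eich_mulVec, hx, Submodule.mem_span_singleton]
    exact ⟨-B a x, by simp⟩

theorem eichG_mul (C : Ctx Q) {a b : ι → F} (ha : B P.e a = 0) (hb : B P.e b = 0)
    (hab : B P.e (a + b) = 0) :
    C.eichG P.e a P.qe ha * C.eichG P.e b P.qe hb = C.eichG P.e (a + b) P.qe hab :=
  Subtype.ext (mat_ext Q (eich_mul P.qe ha hb))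

theorem app_eichG_f (C : Ctx Q) {a : ι → F} (ha : P.InW a) :
    app (C.eichG P.e a P.qe ha.1) P.f = (-Q a) • P.e + P.f + a := by
  have h := P.eich_e_apply 0 1 P.inW_zero ha
  simp only [zero_smul, zero_add, add_zero, one_smul, QuadraticMap.polar_zero_right, zero_sub,
    mul_one, neg_zero] at h
  rw [C.app_eichG]
  exact h

theorem eichG_inj (C : Ctx Q) {a b : ι → F} (ha : P.InW a) (hb : P.InW b)
    (h : C.eichG P.e a P.qe ha.1 = C.eichG P.e b P.qe hb.1) : a = b := by
  have h1 := congrArg (fun g => app g P.f) h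
  simp only [P.app_eichG_f C ha, P.app_eichG_f C hb] at h1
  have h2 := congrArg (B P.f) h1
  simp only [QuadraticMap.polar_add_right, QuadraticMap.polar_smul_right, P.fe, P.ff, ha.2, hb.2,
    smul_eq_mul, mul_one, add_zero] at h2
  rw [h2] at h1
  exact add_left_cancel h1

/-- The unipotent radical consists of the Eichler maps. -/
theorem exists_eichG (C : Ctx Q) {g : OG Q} (hg : g ∈ unip Q (F ∙ P.e)) :
    ∃ a, ∃ ha : P.InW a, g = C.eichG P.e a P.qe ha.1 := by
  have he : app g P.e = P.e := hg.1 _ (Submodule.mem_span_singleton_self _)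
  set a := P.proj (app g P.f) with ha
  have haW : P.InW a := P.inW_proj _
  refine ⟨a, haW, ?_⟩
  have h1 : B P.e (app g P.f) = 1 := by
    have h := polar_app g P.e P.f
    rwa [he, P.ef] at h
  have hd := P.decomp (app g P.f)
  rw [h1, one_smul, ← ha] at hd
  have hq := P.quad_decomp (B P.f (app g P.f)) 1 haW
  rw [one_smul, ← hd, quad_app, P.qf, mul_one] at hq
  rw [eq_neg_of_add_eq_zero_left hq.symm] at hd
  set E := C.eichG P.e a P.qe haW.1 with hE
  have hEf : app E P.f = app g P.f := by rw [hE, P.app_eichG_f C haW]; exact hd.symm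
  have hh : E⁻¹ * g ∈ unip Q (F ∙ P.e) := mul_mem (inv_mem (P.eichG_mem_unip C haW.1)) hg
  have hhf : app (E⁻¹ * g) P.f = P.f := by rw [app_mul, ← hEf, app_inv_app]
  have hhe : app (E⁻¹ * g) P.e = P.e := hh.1 _ (Submodule.mem_span_singleton_self _)
  suffices hone : E⁻¹ * g = 1 from (inv_mul_eq_one.1 hone).symm
  refine ext_app fun x => ?_
  rw [app_one, P.decomp x]
  have hz := P.inW_proj x
  obtain ⟨s, hs⟩ := Submodule.mem_span_singleton.1 (hh.2 _ (mem_perp_span.2 hz.1))
  have h3 : app (E⁻¹ * g) (P.proj x) = P.proj x + s • P.e := by rw [hs]; abel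
  have hs0 : s = 0 := by
    have h4 := polar_app (E⁻¹ * g) P.f (P.proj x)
    rw [hhf, h3, QuadraticMap.polar_add_right, QuadraticMap.polar_smul_right, P.fe, hz.2] at h4
    simpa using h4
  rw [app_add, app_add, app_smul, app_smul, hhe, hhf, h3, hs0, zero_smul, add_zero]

theorem unip_comm (C : Ctx Q) {g h : OG Q} (hg : g ∈ unip Q (F ∙ P.e))
    (hh : h ∈ unip Q (F ∙ P.e)) : g * h = h * g := by
  obtain ⟨a, ha, rfl⟩ := P.exists_eichG C hg
  obtain ⟨b, hb, rfl⟩ := P.exists_eichG C hh
  rw [P.eichG_mul C ha.1 hb.1 (P.inW_add ha hb).1, P.eichG_mul C hb.1 ha.1 (P.inW_add hb ha).1]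
  congr 1
  exact add_comm _ _

theorem finrank_inW (C : Ctx Q) :
    finrank F (perpSub Q ![P.e, P.f]) + 2 ≤ Fintype.card ι := by
  have h1 : perpSub Q ![P.e, P.f] ⊓ Submodule.span F (Set.range ![P.e, P.f]) = ⊥ := by
    rw [Submodule.eq_bot_iff]
    rintro x ⟨hx1, hx2⟩
    obtain ⟨c, rfl⟩ := (Submodule.mem_span_range_iff_exists_fun F).1 hx2
    have h0 := mem_perpSub.1 hx1 0
    have h1 := mem_perpSub.1 hx1 1
    simp [Fin.sum_univ_two, QuadraticMap.polar_add_right, QuadraticMap.polar_smul_right, P.ee, P.ef,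
      P.fe, P.ff] at h0 h1
    simp [Fin.sum_univ_two, h0, h1]
  have h2 : finrank F (Submodule.span F (Set.range ![P.e, P.f])) = 2 := by
    rw [finrank_span_eq_card, Fintype.card_fin]
    rw [Fintype.linearIndependent_iff]
    intro c hc
    rw [Fin.sum_univ_two] at hc
    have h0 := congrArg (B P.e) hc
    have h1 := congrArg (B P.f) hc
    simp [QuadraticMap.polar_add_right, QuadraticMap.polar_smul_right, P.ee, P.ef, P.fe, P.ff] at h0 h1
    intro i
    fin_cases i <;> assumption
  have h3 := Submodule.finrank_sup_add_finrank_inf_eq (perpSub Q ![P.e, P.f])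
    (Submodule.span F (Set.range ![P.e, P.f]))
  rw [h1, finrank_bot, add_zero, h2] at h3
  have h4 := Submodule.finrank_le (perpSub Q ![P.e, P.f] ⊔ Submodule.span F (Set.range ![P.e, P.f]))
  rw [finrank_fintype_fun_eq_card] at h4
  omega

theorem card_unip_le (C : Ctx Q) :
    Nat.card (unip Q (F ∙ P.e)) ≤ Nat.card F ^ (Fintype.card ι - 2) := by
  classical
  choose a ha hga using fun g : unip Q (F ∙ P.e) => P.exists_eichG C g.2
  have hmem : ∀ g, a g ∈ perpSub Q ![P.e, P.f] := fun g => by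
    rw [mem_perpSub]
    intro i
    fin_cases i
    exacts [(ha g).1, (ha g).2]
  have h := Nat.card_le_card_of_injective
    (fun g : unip Q (F ∙ P.e) => (⟨a g, hmem g⟩ : perpSub Q ![P.e, P.f])) fun g g' hgg => by
      have : a g = a g' := congrArg Subtype.val hgg
      apply Subtype.ext
      rw [hga g, hga g']
      simp only [this]
  rw [Module.natCard_eq_pow_finrank (K := F) (V := perpSub Q ![P.e, P.f])] at h
  exact h.trans (Nat.pow_le_pow_right Nat.card_pos (by have := P.finrank_inW C; omega))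

/-- The only fixed vectors of the unipotent radical are the multiples of `e`. -/
theorem eq_smul_of_fixed (C : Ctx Q) {v : ι → F}
    (h : ∀ g ∈ unip Q (F ∙ P.e), app g v = v) : v = B P.f v • P.e := by
  have hz := P.inW_proj v
  have hkey : ∀ w (hw : P.InW w), B w (P.proj v) + Q w * B P.e v = 0 ∧ B P.e v • w = 0 := by
    intro w hw
    have h1 := h _ (P.eichG_mem_unip C hw.1)
    rw [C.app_eichG] at h1
    have h2 := P.eich_e_apply (B P.f v) (B P.e v) hz hw
    rw [← P.decomp v, h1] at h2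
    have h3 := (P.decomp v).symm.trans h2
    have ha := congrArg (B P.f) h3
    simp only [QuadraticMap.polar_add_right, QuadraticMap.polar_smul_right, P.fe, P.ff, hz.2, hw.2,
      smul_eq_mul, mul_one, mul_zero, add_zero] at ha
    refine ⟨by linear_combination ha, ?_⟩
    rw [← ha] at h3
    exact left_eq_add.1 (add_left_cancel h3)
  have hb : B P.e v = 0 := by
    have ha0 : P.a ≠ 0 := fun h => one_ne_zero (α := F) (by
      rw [← P.ab, h, QuadraticMap.polar_zero_left])
    exact (smul_eq_zero.1 (hkey P.a P.inW_a).2).resolve_right ha0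
  have hp : P.proj v = 0 := P.eq_zero_of_inW C hz fun w hw => by
    have := (hkey w hw).1
    rwa [hb, mul_zero, add_zero] at this
  conv_lhs => rw [P.decomp v, hb, hp, zero_smul, add_zero, add_zero]

end ThreePairs

end CfsgLib.AutPOmega
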