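import Cfsg.Agent.AutPOmega.Index
import Cfsg.Agent.AutPSL.FieldAut

/-!
# Twisted forms: coordinates in which `sim a * fld` is a field automorphism
-/

set_option autoImplicit false
set_option linter.unusedSectionVars false
set_option linter.style.haveILetI false

namespace CfsgLib.AutPOmega

open Matrix Module CfsgLib.Spinor CfsgLib.Forms CfsgLib.Forms4
open CfsgLib.AutPSL (mapGL twNorm twNorm_succ)

variable {F : Type*} [Field F] [Finite F] {ι κ : Type} [Fintype ι] [DecidableEq ι] [Fintype κ]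
  [DecidableEq κ] {Q : QuadraticForm F (ι → F)} {σ : F ≃+* F}

/-- Semisimilarities correspond under a change of coordinates. -/
theorem congr_semi {Q' : QuadraticForm F (κ → F)} {L : (κ → F) ≃ₗ[F] (ι → F)} {c : Fˣ}
    (hL : ∀ v, Q (L v) = (c : F) * Q' v) (S : Semi Q) (T : Semi Q') (u : Fˣ)
    (h : ∀ w, L (T.fn w) = (u : F) • S.fn (L w)) :
    MulAut.congr (pomCongr hL) S.aut = T.aut := by
  have hcongr : ∀ (g : OG Q) (v : κ → F), app (omCongr hL g) v = L.symm (app g (L v)) :=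
    fun g v => congrMat_mulVec L _ v
  refine MulEquiv.ext fun y => ?_
  obtain ⟨k', rfl⟩ := pr_surjective y
  obtain ⟨k, rfl⟩ := (omCongr hL).surjective k'
  show pomCongr hL (S.aut ((pomCongr hL).symm (pr Q' (omCongr hL k)))) = _
  rw [← pomCongr_pr, MulEquiv.symm_apply_apply, S.aut_pr, pomCongr_pr, pomCongr_pr, T.aut_pr]
  congr 1
  refine ext_app fun v => ?_
  obtain ⟨w, rfl⟩ := T.fn_surjective v
  rw [T.app_omegaMap, hcongr, hcongr, h, AutPOmega.app_smul, S.app_omegaMap]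
  apply L.injective
  rw [L.apply_symm_apply, h, L.apply_symm_apply]

variable {K : Type*} [Field K] [Finite K] {e : K →+* F}

theorem exists_gl_of_equiv {L : Type*} [Field L] (l : (ι → L) ≃ₗ[L] (ι → L)) :
    ∃ g : GL ι L, ∀ v, g.1 *ᵥ v = l v :=
  ⟨⟨LinearMap.toMatrix' l.toLinearMap, LinearMap.toMatrix' l.symm.toLinearMap,
    by rw [← LinearMap.toMatrix'_comp]; simp, by rw [← LinearMap.toMatrix'_comp]; simp⟩,
    fun v => LinearMap.toMatrix'_mulVec _ v⟩

/-- Coordinates carrying the small model of a descended form to `Q`. -/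
theorem exists_model_equiv (he : IsFixedField e σ) {h : GL ι F}
    {b : Fˣ} {Q₁ : QuadraticForm K (ι → K)}
    (hval : ∀ v : ι → K, Q ((h : Matrix ι ι F) *ᵥ fun i => e (v i)) = (b : F) * e (Q₁ v))
    {X₀ : QuadraticForm K (κ → K)} {X : QuadraticForm F (κ → F)} (hX : IsExt e X₀ X)
    (hsim : Similar Q₁ X₀) :
    ∃ (L : (κ → F) ≃ₗ[F] (ι → F)) (c : Fˣ) (_hL : ∀ v, Q (L v) = (c : F) * X v),
      ∀ w : κ → F, L (fun i => σ (w i)) =
        (h : Matrix ι ι F) *ᵥ fun i => σ ((((h⁻¹ : GL ι F) : Matrix ι ι F) *ᵥ L w) i) := by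
  obtain ⟨l, d, hl⟩ := hsim
  set M := LinearMap.toMatrix' l.toLinearMap
  set N := LinearMap.toMatrix' l.symm.toLinearMap
  have hMN : M.map e * N.map e = 1 := by
    rw [← Matrix.map_mul, ← LinearMap.toMatrix'_comp]; simp
  have hNM : N.map e * M.map e = 1 := by
    rw [← Matrix.map_mul, ← LinearMap.toMatrix'_comp]; simp
  let L : (κ → F) ≃ₗ[F] (ι → F) := LinearEquiv.ofLinear
    (Matrix.toLin' ((h : Matrix ι ι F) * M.map e))
    (Matrix.toLin' (N.map e * ((h⁻¹ : GL ι F) : Matrix ι ι F)))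
    (by rw [← Matrix.toLin'_mul, Matrix.mul_assoc, ← Matrix.mul_assoc (M.map e), hMN, Matrix.one_mul,
      ← Units.val_mul,
      mul_inv_cancel, Units.val_one, Matrix.toLin'_one])
    (by rw [← Matrix.toLin'_mul, Matrix.mul_assoc, ← Matrix.mul_assoc ((h⁻¹ : GL ι F) : Matrix ι ι F),
      ← Units.val_mul, inv_mul_cancel, Units.val_one, Matrix.one_mul, hNM, Matrix.toLin'_one])
  have hLv : ∀ w, L w = (h : Matrix ι ι F) *ᵥ (M.map e *ᵥ w) := fun w =>
    (Matrix.toLin'_apply _ w).trans (Matrix.mulVec_mulVec w (h : Matrix ι ι F) (M.map e)).symm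
  set c : Fˣ := b * Units.map (e : K →* F) d with hc
  have hrat : ∀ v : κ → K, Q (L fun i => e (v i)) = (c : F) * e (X₀ v) := fun v => by
    rw [hLv, map_mulVec_rect, hval, show M *ᵥ v = l v from LinearMap.toMatrix'_mulVec _ v, hl, map_mul,
      hc, Units.val_mul, Units.coe_map, MonoidHom.coe_coe, mul_assoc]
  have hX' : IsExt e X₀ ((c : F)⁻¹ • Q.comp L.toLinearMap) := fun v => by
    simp only [QuadraticMap.smul_apply, QuadraticMap.comp_apply, smul_eq_mul]
    erw [hrat]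
    rw [inv_mul_cancel_left₀ c.ne_zero]
  have hL : ∀ v, Q (L v) = (c : F) * X v := fun v => by
    rw [hX.unique hX']
    simp
  refine ⟨L, c, hL, fun w => ?_⟩
  have hσM : (fun i => σ ((M.map e *ᵥ w) i)) = M.map e *ᵥ fun i => σ (w i) := by
    funext i
    rw [show σ ((M.map e *ᵥ w) i) = (σ : F →+* F) ((M.map e *ᵥ w) i) from rfl, RingHom.map_mulVec,
      Matrix.map_map]
    congr 1
    ext j l
    simp [he.apply]
  rw [hLv, hLv, Matrix.mulVec_mulVec _ ((h⁻¹ : GL ι F) : Matrix ι ι F), ← Units.val_mul,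
    inv_mul_cancel, Units.val_one, Matrix.one_mulVec, hσM]

/-- A twisted cocycle becomes the field automorphism of the descended form. -/
theorem exists_transport (he : IsFixedField e σ) (hR : Rat Q σ) {a : GO Q} {u : Fˣ} {h : GL ι F}
    {b : Fˣ} {Q₁ : QuadraticForm K (ι → K)}
    (hah : a.1 = Matrix.GeneralLinearGroup.scalar ι u * (h * (mapGL σ h)⁻¹))
    (hval : ∀ v : ι → K, Q ((h : Matrix ι ι F) *ᵥ fun i => e (v i)) = (b : F) * e (Q₁ v))
    {X₀ : QuadraticForm K (κ → K)} {X : QuadraticForm F (κ → F)} (hX : IsExt e X₀ X)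
    (hsim : Similar Q₁ X₀) :
    ∃ (L : (κ → F) ≃ₗ[F] (ι → F)) (c : Fˣ) (hL : ∀ v, Q (L v) = (c : F) * X v),
      MulAut.congr (pomCongr hL) (sim a * fld hR) = fld (hX.rat he.apply) := by
  obtain ⟨L, c, hL, hLσ⟩ := exists_model_equiv he hval hX hsim
  refine ⟨L, c, hL, ?_⟩
  rw [sim_apply, fld, ← Semi.mul_aut]
  refine congr_semi hL _ _ u⁻¹ fun w => ?_
  have hS : ∀ v, ((simSemi a).mul hR.semi).fn v = a.1.1 *ᵥ fun i => σ (v i) := fun v => by
    rw [Semi.fn_mul]
    show a.1.1 *ᵥ (fun i => ((1 : F ≃+* F)) (((1 : GL ι F) : Matrix ι ι F).mulVec (fun j => σ (v j)) i)) = _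
    simp
  have hcancel : ∀ z, (h * (mapGL σ h)⁻¹ : GL ι F).1 *ᵥ ((mapGL σ h).1 *ᵥ z) = h.1 *ᵥ z := fun z => by
    rw [Matrix.mulVec_mulVec, ← Units.val_mul, inv_mul_cancel_right]
  show L (((1 : GL κ F) : Matrix κ κ F) *ᵥ fun i => σ (w i)) = _
  rw [Units.val_one, Matrix.one_mulVec, hS, hLσ, hah, Units.val_mul, ← Matrix.mulVec_mulVec,
    scalar_mulVec, smul_smul, ← Units.val_mul, inv_mul_cancel, Units.val_one, one_smul, Units.val_mul,
    ← Matrix.mulVec_mulVec]
  congr 1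
  rw [← twist_mulVec σ, map_inv]

/-- Cocycles with similar descended forms are twisted conjugate. -/
theorem exists_twisted_conj (he : IsFixedField e σ) (C : Ctx Q) (hR : Rat Q σ) {a a' : GO Q}
    {u u' : Fˣ} {h h' : GL ι F} {b b' : Fˣ} {Q₁ Q₂ : QuadraticForm K (ι → K)}
    (hah : a.1 = Matrix.GeneralLinearGroup.scalar ι u * (h * (mapGL σ h)⁻¹))
    (hah' : a'.1 = Matrix.GeneralLinearGroup.scalar ι u' * (h' * (mapGL σ h')⁻¹))
    (hval : ∀ v : ι → K, Q ((h : Matrix ι ι F) *ᵥ fun i => e (v i)) = (b : F) * e (Q₁ v))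
    (hval' : ∀ v : ι → K, Q ((h' : Matrix ι ι F) *ᵥ fun i => e (v i)) = (b' : F) * e (Q₂ v))
    (hsim : Similar Q₁ Q₂) :
    ∃ g : GO Q, sim a * fld hR = sim g * (sim a' * fld hR) * (sim g)⁻¹ := by
  obtain ⟨L, d, hL⟩ := hsim
  obtain ⟨l, hl⟩ := exists_gl_of_equiv L
  set E := Matrix.GeneralLinearGroup.map e l with hE
  have hrat : ∀ v : ι → K, Q ((h * E : GL ι F).1 *ᵥ fun i => e (v i)) =
      ((b * Units.map (e : K →* F) d * b'⁻¹ : Fˣ) : F) * Q (h'.1 *ᵥ fun i => e (v i)) := fun v => by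
    rw [Units.val_mul, ← Matrix.mulVec_mulVec, show E.1 = l.1.map e from rfl, map_mulVec_apply, hval,
      hl, hL, map_mul, hval']
    simp only [Units.val_mul, Units.coe_map, MonoidHom.coe_coe, Units.val_inv_eq_inv_val]
    field_simp
  have key : Q.comp (Matrix.mulVecLin (h * E : GL ι F).1) =
      ((b * Units.map (e : K →* F) d * b'⁻¹ : Fˣ) : F) • Q.comp (Matrix.mulVecLin h'.1) := by
    refine form_ext (fun i => ?_) fun i j => ?_
    · rw [← map_single_one (e := e)]; exact hrat _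
    · have hs : (Pi.single i 1 + Pi.single j 1 : ι → F) =
          fun k => e ((Pi.single i (1 : K) + Pi.single j 1 : ι → K) k) := by
        rw [← map_single_one (e := e) i, ← map_single_one (e := e) j]; funext k; simp
      rw [hs]; exact hrat _
  have hg : h * E * h'⁻¹ ∈ GO Q := ⟨b * Units.map (e : K →* F) d * b'⁻¹, fun v => by
    have := congrArg (fun q : QuadraticForm F (ι → F) => q (((h'⁻¹ : GL ι F) : Matrix ι ι F) *ᵥ v)) key
    simp only [QuadraticMap.comp_apply, QuadraticMap.smul_apply, Matrix.mulVecLin_apply,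
      Matrix.mulVec_mulVec, smul_eq_mul] at this
    rw [← Units.val_mul, ← Units.val_mul, mul_inv_cancel, Units.val_one, Matrix.one_mulVec] at this
    exact this⟩
  set g : GO Q := ⟨_, hg⟩ with hgdef
  have hga : a = scalarGO Q (u * u'⁻¹) * (g * a' * (⟨_, hR.mapGL_mem g.2⟩ : GO Q)⁻¹) := by
    refine Subtype.ext ?_
    simp only [Subgroup.coe_mul, Subgroup.coe_inv, scalarGO_val, hgdef]
    rw [hah, hah', map_mul (Matrix.GeneralLinearGroup.scalar ι), map_mul (mapGL σ), map_mul (mapGL σ),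
      map_inv (mapGL σ), hE, IsExt.mapGL_map he, map_inv (Matrix.GeneralLinearGroup.scalar ι),
      ← mul_assoc (h * Matrix.GeneralLinearGroup.map e l * h'⁻¹),
      ← (scalar_commute u' (h * Matrix.GeneralLinearGroup.map e l * h'⁻¹)).eq]
    group
  refine ⟨g, ?_⟩
  rw [hga, map_mul, show sim (scalarGO Q (u * u'⁻¹)) = 1 from sim_scalar C _, one_mul, map_mul, map_mul,
    map_inv, mul_assoc (sim g), mul_assoc (sim g), mul_assoc (sim g), mul_assoc, mul_assoc]
  congr 2
  rw [eq_mul_inv_iff_mul_eq, mul_assoc, inv_mul_eq_iff_eq_mul, fld_mul_sim]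

/-- The twisted norm of a fixed matrix is its power. -/
theorem twNorm_of_fixed {g : GL ι F} (hg : mapGL σ g = g) : ∀ k : ℕ, twNorm σ g k = g ^ k
  | 0 => rfl
  | k + 1 => by rw [twNorm_succ, twNorm_of_fixed hg k, map_pow, hg, pow_succ']

theorem fld_comm {τ : F ≃+* F} (h : Rat Q σ) (h' : Rat Q τ) : fld h * fld h' = fld h' * fld h := by
  haveI := Fintype.ofFinite F
  haveI := CfsgLib.AutPSL.isCyclic_ringEquiv (F := F)
  rw [← fld_mul, ← fld_mul]
  refine fld_congr _ _ ?_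
  obtain ⟨g, hg⟩ := IsCyclic.exists_generator (α := F ≃+* F)
  obtain ⟨i, rfl⟩ := hg σ
  obtain ⟨j, rfl⟩ := hg τ
  exact zpow_mul_comm g i j

/-- The twisted quotient of a similitude is proper. -/
theorem proper_twist (C : Ctx Q) (hev : Even (Fintype.card ι)) (hR : Rat Q σ) (g : GO Q) :
    g * (⟨_, hR.mapGL_mem g.2⟩ : GO Q)⁻¹ ∈ GP Q := by
  haveI := Fintype.ofFinite F
  rw [Subgroup.mul_mem_iff_of_index_two (C.index_GP hev), inv_mem_iff, mem_GP_iff, mem_GP_iff]
  refine ⟨hR.proper_map, fun hp => ?_⟩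
  haveI : Finite (F ≃+* F) := Finite.of_injective (fun e : F ≃+* F => (e : F → F)) DFunLike.coe_injective
  have h := (hR.pow (orderOf σ - 1)).proper_map hp
  rwa [← AutPSL.mapGL_mul_apply, ← pow_succ, Nat.sub_add_cancel (orderOf_pos σ), pow_orderOf_eq_one,
    AutPSL.mapGL_one_apply] at h

end CfsgLib.AutPOmega
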