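import Cfsg.Agent.AutPOmega.Minus
import Cfsg.Agent.AutPOmega.Twist
import Cfsg.Agent.AutPOmega.Odd

/-!
# The plus-type groups: field and graph-field automorphisms of prime order
-/

set_option autoImplicit false
set_option linter.unusedSectionVars false
set_option linter.style.haveILetI false

namespace CfsgLib.AutPOmega

open Matrix Module CfsgLib.Spinor CfsgLib.Forms CfsgLib.Forms4 CfsgLib.StdForms
open CfsgLib.AutPSL (mapGL twNorm)

universe u

variable {F : Type u} [Field F] [Fintype F] {m : ℕ}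

theorem rat_plusQ (σ : F ≃+* F) : Rat (plusQ m F) σ := isExt_plusQ (σ : F →+* F) m

theorem even_card_plus (m : ℕ) : Even (Fintype.card (Fin m ⊕ Fin m)) := ⟨m, by simp⟩

/-- `Inndiag` for an arbitrary presentation of the plus form. -/
def indPlus (Q : (Fin m ⊕ Fin m → F) → F) : Subgroup (MulAut (Cfsg.POmega F Q)) :=
  Cfsg.autSubgroupOf fun β => ∃ g : GL (Fin m ⊕ Fin m) F,
    g ∈ Cfsg.Geo.quadSimilarityGroup (F := F) Q ∧
    Cfsg.PreservesSingularClasses Q g.1 ∧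
    Cfsg.IsInducedBySemilinearPOmega Q g (RingEquiv.refl F) β

theorem indPlus_eq (hm : 4 ≤ m) : indPlus ⇑(plusQ m F) = (GP (plusQ m F)).map sim := by
  refine le_antisymm ((Subgroup.closure_le _).2 ?_) ?_
  · rintro β ⟨g, hg, hp, hβ⟩
    exact ⟨⟨g, hg⟩, (psc_plus_iff hm hg).1 hp, ((sim_induced_iff ⟨g, hg⟩).1 hβ).symm⟩
  · rintro _ ⟨g, hg, rfl⟩
    exact Subgroup.subset_closure ⟨g.1, g.2, (psc_plus_iff hm g.2).2 hg, (sim_induced_iff g).2 rfl⟩

/-- The graph-field class for an arbitrary presentation of the form. -/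
def IsGFClass (Q : (Fin m ⊕ Fin m → F) → F) (β : MulAut (Cfsg.POmega F Q)) : Prop :=
  ∃ (α γ φ : MulAut (Cfsg.POmega F Q)) (σ : F ≃+* F) (v : Fin m ⊕ Fin m → F)
      (r : GL (Fin m ⊕ Fin m) F),
    σ ≠ RingEquiv.refl F ∧ Q v ≠ 0 ∧ (∀ i, σ (v i) = v i) ∧
    (r : Matrix (Fin m ⊕ Fin m) (Fin m ⊕ Fin m) F) = Cfsg.reflectionMatrix Q v ∧
    Cfsg.IsInducedBySemilinearPOmega Q r (RingEquiv.refl F) γ ∧
    Cfsg.IsFieldAutPOmegaOf Q σ φ ∧ α * β * α⁻¹ = γ * φ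

theorem mem_GP_of_sim_mem {ι : Type} [Fintype ι] [DecidableEq ι] {Q : QuadraticForm F (ι → F)}
    (C : Ctx Q) (hev : Even (Fintype.card ι)) {a : GO Q} (h : sim a ∈ (GP Q).map sim) : a ∈ GP Q := by
  obtain ⟨b, hb, e⟩ := h
  obtain ⟨u, hu⟩ := (sim_eq_sim_iff C).1 e.symm
  rw [mem_GP_iff, hu, proper_of_mul_scalar hev b.2 u]
  exact hb

/-- Invariance of the image of the proper similitudes. -/
def InvGP (m : ℕ) (F : Type u) [Field F] [Fintype F] : Prop :=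
  ∀ (α : MulAut (Cfsg.POmega F ⇑(plusQ m F))) {δ : MulAut (Cfsg.POmega F ⇑(plusQ m F))},
    δ ∈ (GP (plusQ m F)).map sim → α * δ * α⁻¹ ∈ (GP (plusQ m F)).map sim

theorem invGP_of_five (hm : 5 ≤ m) : InvGP m F := fun α _ h =>
  (ctx_plusQ (by omega)).GP_conj_mem (noTriality_plusQ hm) α h

variable {K : Type*} [Field K] [Fintype K] {e : K →+* F} {σ : F ≃+* F}

/-- In odd degree every descended form is of plus type. -/
theorem similar_descent_plus {k : ℕ} (he : IsFixedField e σ) (hodd : Odd (orderOf σ))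
    {h : GL (Fin (k + 1) ⊕ Fin (k + 1)) F} {c : Fˣ}
    {Q₁ : QuadraticForm K (Fin (k + 1) ⊕ Fin (k + 1) → K)}
    (hnd : (QuadraticMap.polarBilin Q₁).Nondegenerate)
    (hval : ∀ v, plusQ (k + 1) F (h.1 *ᵥ fun i => e (v i)) = (c : F) * e (Q₁ v)) :
    Similar Q₁ (plusQ (k + 1) K) := by
  rcases similar_plus_or_minus hnd (k := k) (by simp; omega) with h1 | ⟨ζ, hζ, h1⟩
  · exact h1
  · exfalso
    obtain ⟨Q', hQ', hs⟩ := exists_ext_of_descent hval
    exact not_similar_plus_minus (aniso_map he hodd hζ) (hs.trans (h1.ext hQ' (isExt_minusQ e k 1 ζ))).symm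

/-- A coboundary is proper. -/
theorem proper_of_descent_plus (hm : 4 ≤ m) (he : IsFixedField e σ) {a : GO (plusQ m F)} {u : Fˣ}
    {h : GL (Fin m ⊕ Fin m) F} {b : Fˣ} {Q₁ : QuadraticForm K (Fin m ⊕ Fin m → K)}
    (hah : a.1 = Matrix.GeneralLinearGroup.scalar _ u * (h * (mapGL σ h)⁻¹))
    (hval : ∀ v, plusQ m F ((h : Matrix _ _ F) *ᵥ fun i => e (v i)) = (b : F) * e (Q₁ v))
    (hsim : Similar Q₁ (plusQ m K)) : a ∈ GP (plusQ m F) := by
  obtain ⟨g, hg, e'⟩ := (isExt_plusQ e m).exists_coboundary he hval hsim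
  have hR := rat_plusQ (m := m) σ
  rw [show a = scalarGO _ u * (⟨g, hg⟩ * (⟨_, hR.mapGL_mem hg⟩ : GO (plusQ m F))⁻¹) from
    Subtype.ext (hah.trans (by rw [e']; rfl))]
  exact mul_mem (proper_scalar (even_card_plus m) u)
    (proper_twist (ctx_plusQ hm) (even_card_plus m) hR ⟨g, hg⟩)

/-- A rational reflection. -/
theorem exists_rat_refl (hm : 4 ≤ m) (he : IsFixedField e σ) :
    ∃ R : GO (plusQ m F), mapGL σ R.1 = R.1 ∧ R * R = 1 ∧ R ∉ GP (plusQ m F) := by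
  set C₀ := ctx_plusQ (F := K) hm
  obtain ⟨v, hv⟩ := C₀.exists_value_one
  have hv0 : plusQ m K v ≠ 0 := by rw [hv]; exact one_ne_zero
  have hE := isExt_plusQ e m
  refine ⟨hE.goHom ⟨(reflIso _ v hv0).1, isometry_mem_GO _⟩, IsExt.mapGL_map he _, ?_, fun h => ?_⟩
  · rw [← map_mul]
    convert map_one hE.goHom
    refine Subtype.ext (Units.ext ?_)
    show mat _ (reflIso _ v hv0) * mat _ (reflIso _ v hv0) = 1
    rw [mat_reflIso, reflectionMatrix_mul_self _ hv0]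
  · exact C₀.not_proper_reflIso v hv0
      ((hE.proper_iff_map (ctx_plusQ hm) C₀ (even_card_plus m) (isometry_mem_GO _)).1 h)

variable {R : GO (plusQ m F)}

theorem pow_two_refl (hσ : orderOf σ = 2) (hRσ : mapGL σ R.1 = R.1) (hR2 : R * R = 1) :
    (sim R * fld (rat_plusQ (m := m) σ)) ^ 2 = 1 := by
  rw [sim_mul_fld_pow, fld_pow, fld_congr _ Rat.one (hσ ▸ pow_orderOf_eq_one σ), fld_one, mul_one,
    ← map_one sim]
  congr 1
  refine Subtype.ext ?_
  show twNorm σ R.1 2 = 1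
  rw [twNorm_of_fixed hRσ, pow_two]
  exact congrArg Subtype.val hR2

theorem improper_of_twisted (hm : 4 ≤ m) {a g : GO (plusQ m F)} (hRP : R ∉ GP (plusQ m F))
    (h : sim a * fld (rat_plusQ (m := m) σ) = sim g * (sim R * fld (rat_plusQ σ)) * (sim g)⁻¹) :
    a ∉ GP (plusQ m F) := by
  intro ha
  have hR := rat_plusQ (m := m) σ
  have C := ctx_plusQ (F := F) hm
  set g' : GO (plusQ m F) := ⟨_, hR.mapGL_mem g.2⟩ with hg'
  have e1 : sim a = sim (g * R * g'⁻¹) := by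
    apply mul_right_cancel (b := fld hR)
    rw [h, map_mul, map_mul, map_inv, mul_assoc (sim g), mul_assoc (sim g), mul_assoc (sim g), mul_assoc,
      mul_assoc]
    congr 2
    rw [eq_comm, eq_mul_inv_iff_mul_eq, mul_assoc, inv_mul_eq_iff_eq_mul, fld_mul_sim]
  have h2 : g * R * g'⁻¹ ∈ GP (plusQ m F) :=
    mem_GP_of_sim_mem C (even_card_plus m) (e1 ▸ ⟨a, ha, rfl⟩)
  have htw := proper_twist C (even_card_plus m) hR g
  have hidx := C.index_GP (even_card_plus m)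
  rw [Subgroup.mul_mem_iff_of_index_two hidx, Subgroup.mul_mem_iff_of_index_two hidx] at h2
  rw [Subgroup.mul_mem_iff_of_index_two hidx] at htw
  exact hRP (by tauto)

/-- An improper element of order two over the involution is conjugate to a rational reflection. -/
theorem exists_conj_improper (hm : 4 ≤ m) (he : IsFixedField e σ) (hσ : orderOf σ = 2)
    (hRσ : mapGL σ R.1 = R.1) (hR2 : R * R = 1) (hRP : R ∉ GP (plusQ m F)) {a : GO (plusQ m F)}
    (ha : a ∉ GP (plusQ m F)) (hpow : (sim a * fld (rat_plusQ (m := m) σ)) ^ 2 = 1) :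
    ∃ g ∈ GP (plusQ m F), sim a * fld (rat_plusQ σ) =
      sim g * (sim R * fld (rat_plusQ σ)) * (sim g)⁻¹ := by
  obtain ⟨k, rfl⟩ : ∃ k, m = k + 1 := ⟨m - 1, by omega⟩
  have C := ctx_plusQ (F := F) hm
  have hR := rat_plusQ (m := k + 1) σ
  obtain ⟨d, hd⟩ := twNorm_scalar_of_pow C hR a hσ hpow
  obtain ⟨d', hd'⟩ := twNorm_scalar_of_pow C hR R hσ (pow_two_refl hσ hRσ hR2)
  obtain ⟨u, h, b, Q₁, hah, hnd, hval⟩ := exists_descent he hR C.nondeg C.exists_value_one hσ two_pos a.2 hd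
  obtain ⟨u', h', b', Q₂, hah', hnd', hval'⟩ :=
    exists_descent he hR C.nondeg C.exists_value_one hσ two_pos R.2 hd'
  have hsim : Similar Q₁ Q₂ := by
    rcases similar_plus_or_minus hnd (k := k) (by simp; omega) with h1 | ⟨ζ, hζ, h1⟩
    · exact absurd (proper_of_descent_plus hm he hah hval h1) ha
    rcases similar_plus_or_minus hnd' (k := k) (by simp; omega) with h2 | ⟨ζ', hζ', h2⟩
    · exact absurd (proper_of_descent_plus hm he hah' hval' h2) hRP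
    exact h1.trans ((similar_minusQ k hζ hζ').trans h2.symm)
  obtain ⟨g, hg⟩ := exists_twisted_conj he C hR hah hah' hval hval' hsim
  by_cases hp : g ∈ GP (plusQ (k + 1) F)
  · exact ⟨g, hp, hg⟩
  refine ⟨g * R, (Subgroup.mul_mem_iff_of_index_two (C.index_GP (even_card_plus _))).2
    (iff_of_false hp hRP), ?_⟩
  rw [hg, map_mul]
  have hcomm : sim R * (sim R * fld hR) * (sim R)⁻¹ = sim R * fld hR := by
    rw [mul_inv_eq_iff_eq_mul, mul_assoc, fld_mul_sim]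
    congr 4
    exact Subtype.ext hRσ.symm
  conv_lhs => rw [← hcomm]
  group

/-- A proper element of order `r` over the field automorphism is conjugate to it. -/
theorem exists_conj_proper (hm : 4 ≤ m) (he : IsFixedField e σ) {r : ℕ} (hr : r.Prime)
    (hσ : orderOf σ = r) {a : GO (plusQ m F)} (ha : Odd r ∨ a ∈ GP (plusQ m F))
    (hpow : (sim a * fld (rat_plusQ (m := m) σ)) ^ r = 1) :
    ∃ g ∈ GP (plusQ m F), sim a * fld (rat_plusQ σ) = sim g * fld (rat_plusQ σ) * (sim g)⁻¹ := by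
  obtain ⟨k, rfl⟩ : ∃ k, m = k + 1 := ⟨m - 1, by omega⟩
  refine (isExt_plusQ e (k + 1)).exists_conj_fld he (ctx_plusQ hm) (ctx_plusQ hm) (even_card_plus _) hσ
    hr.pos _ a ?_ hpow
  intro h b u Q₁ hah hnd hval
  by_cases hodd : Odd r
  · exact similar_descent_plus he (hσ ▸ hodd) hnd hval
  obtain rfl : r = 2 := hr.eq_two_or_odd'.resolve_right hodd
  have ha' := ha.resolve_left hodd
  rcases similar_plus_or_minus hnd (k := k) (by simp; omega) with h1 | ⟨ζ, hζ, h1⟩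
  · exact h1
  exfalso
  have C := ctx_plusQ (F := F) hm
  have hR := rat_plusQ (m := k + 1) σ
  obtain ⟨R, hRσ, hR2, hRP⟩ := exists_rat_refl (m := k + 1) hm he
  obtain ⟨d', hd'⟩ := twNorm_scalar_of_pow C hR R hσ (pow_two_refl hσ hRσ hR2)
  obtain ⟨u', h', b', Q₂, hah', hnd', hval'⟩ :=
    exists_descent he hR C.nondeg C.exists_value_one hσ two_pos R.2 hd'
  rcases similar_plus_or_minus hnd' (k := k) (by simp; omega) with h2 | ⟨ζ', hζ', h2⟩
  · exact hRP (proper_of_descent_plus hm he hah' hval' h2)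
  obtain ⟨g, hg⟩ := exists_twisted_conj he C hR hah hah' hval hval'
    (h1.trans ((similar_minusQ k hζ hζ').trans h2.symm))
  exact improper_of_twisted hm hRP hg ha'

/-- Normal form of a graph-field automorphism of prime order. -/
theorem gfClass_cases (hm : 5 ≤ m) {x : MulAut (Cfsg.POmega F ⇑(plusQ m F))}
    (hx : IsGFClass (⇑(plusQ m F)) x) {r : ℕ} (hr : r.Prime) (hxr : orderOf x = r) :
    r = 2 ∧ ∃ σ : F ≃+* F, orderOf σ = 2 ∧ ∃ a : GO (plusQ m F), a ∉ GP (plusQ m F) ∧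
      x = sim a * fld (rat_plusQ σ) := by
  obtain ⟨α, γ, φ, σ, v, R, hσ, hv, hfix, hRm, hγ, hφ, e'⟩ := hx
  have C := ctx_plusQ (F := F) (m := m) (by omega)
  have hev := even_card_plus m
  have hRrefl : R = (reflIso (plusQ m F) v hv).1 := Units.ext (by
    rw [hRm]; exact (mat_reflIso _ v hv).symm)
  have hRG : R ∈ GO (plusQ m F) := hRrefl ▸ isometry_mem_GO _
  have hRP : (⟨R, hRG⟩ : GO (plusQ m F)) ∉ GP (plusQ m F) := fun h =>
    C.not_proper_reflIso v hv (by rw [← hRrefl]; exact h)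
  have hγ' : γ = sim ⟨R, hRG⟩ := (sim_induced_iff (⟨R, hRG⟩ : GO (plusQ m F))).1 hγ
  have hφ' : φ = fld (rat_plusQ σ) := (fld_induced_iff _).1 hφ
  rw [hγ', hφ'] at e'
  have hord : orderOf (sim (⟨R, hRG⟩ : GO (plusQ m F)) * fld (rat_plusQ (m := m) σ)) = r := by
    rw [← e', ← MulAut.conj_apply, MulEquiv.orderOf_eq, hxr]
  have hσr := orderOf_sigma C (rat_plusQ σ) _ hr hσ (hord ▸ pow_orderOf_eq_one _)
  have hRσ : mapGL σ R = R := by
    refine Units.ext (Matrix.ext_iff_mulVec.2 fun w => ?_)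
    have hσv : (fun i => σ (v i)) = v := funext hfix
    obtain ⟨w, rfl⟩ : ∃ w', w = fun i => σ (w' i) := ⟨fun i => σ.symm (w i), by simp⟩
    rw [twist_mulVec, hRrefl]
    show (fun i => σ ((mat _ (reflIso _ v hv) *ᵥ w) i)) = mat _ (reflIso _ v hv) *ᵥ fun i => σ (w i)
    rw [OmegaOrbits.mat_reflIso_mulVec, OmegaOrbits.mat_reflIso_mulVec, refl_apply, refl_apply]
    have hq : σ (plusQ m F v) = plusQ m F v := by rw [← rat_plusQ σ v, hσv]
    have hp : QuadraticMap.polar (⇑(plusQ m F)) v (fun i => σ (w i)) =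
        σ (QuadraticMap.polar (⇑(plusQ m F)) v w) := by
      conv_lhs => rw [← hσv]
      exact (isExt_plusQ (σ : F →+* F) m).polar v w
    funext i
    rw [hp]
    simp [hq, hfix i]
  have hr2 : r = 2 := by
    by_contra hne
    obtain ⟨d, hd⟩ := twNorm_scalar_of_pow C (rat_plusQ σ) ⟨R, hRG⟩ hσr (hord ▸ pow_orderOf_eq_one _)
    obtain ⟨j, hj⟩ := hr.odd_of_ne_two hne
    rw [show twNorm σ (⟨R, hRG⟩ : GO (plusQ m F)).1 r = R ^ r from twNorm_of_fixed hRσ r, hj, pow_succ,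
      pow_mul, pow_two, hRrefl] at hd
    rw [show (reflIso (plusQ m F) v hv).1 * (reflIso (plusQ m F) v hv).1 = 1 from Units.ext (by
      show mat _ (reflIso _ v hv) * mat _ (reflIso _ v hv) = 1
      rw [mat_reflIso, reflectionMatrix_mul_self _ hv]), one_pow, one_mul] at hd
    exact C.not_proper_reflIso v hv (hd ▸ proper_scalar hev d)
  refine ⟨hr2, σ, hσr.trans hr2, ?_⟩
  obtain ⟨S, hS⟩ := C.exists_semi (noTriality_plusQ hm) α⁻¹
  obtain ⟨a₀, ha₀⟩ := S.aut_eq_sim_mul_fld (rat_plusQ S.σ)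
  obtain rfl : α = S.aut⁻¹ := by rw [hS, inv_inv]
  have h1 : S.aut⁻¹⁻¹ * fld (rat_plusQ σ) * S.aut⁻¹ =
      sim (a₀ * (⟨_, (rat_plusQ σ).mapGL_mem a₀.2⟩ : GO (plusQ m F))⁻¹) * fld (rat_plusQ σ) := by
    rw [inv_inv, ha₀, _root_.mul_inv_rev, map_mul, map_inv,
      mul_assoc (sim a₀) (fld (rat_plusQ S.σ)), fld_comm (rat_plusQ S.σ) (rat_plusQ σ)]
    simp only [mul_assoc]
    congr 1
    rw [mul_inv_cancel_left, eq_inv_mul_iff_mul_eq, ← mul_assoc, mul_inv_eq_iff_eq_mul, fld_mul_sim]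
  have h2 : S.aut⁻¹⁻¹ * sim (⟨R, hRG⟩ : GO (plusQ m F)) * S.aut⁻¹ =
      sim (⟨_, S.mapGL_mem_GO ⟨R, hRG⟩⟩ : GO (plusQ m F)) := by
    rw [inv_inv, Semi.aut_mul_sim, mul_inv_cancel_right]
  set a₁ := a₀ * (⟨_, (rat_plusQ σ).mapGL_mem a₀.2⟩ : GO (plusQ m F))⁻¹
  set a₂ : GO (plusQ m F) := ⟨_, S.mapGL_mem_GO ⟨R, hRG⟩⟩
  refine ⟨a₂ * a₁, fun h => hRP ?_, ?_⟩
  · have ha₂ : a₂ ∈ GP (plusQ m F) :=
      ((GP (plusQ m F)).mul_mem_cancel_right (proper_twist C hev (rat_plusQ σ) a₀)).1 h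
    refine mem_GP_of_sim_mem C hev ?_
    have := invGP_of_five hm S.aut⁻¹ (h2 ▸ (⟨a₂, ha₂, rfl⟩ : sim a₂ ∈ (GP (plusQ m F)).map sim))
    simpa [mul_assoc] using this
  · rw [map_mul, mul_assoc, ← h1, ← h2, show x = S.aut⁻¹⁻¹ * (S.aut⁻¹ * x * S.aut⁻¹⁻¹) * S.aut⁻¹ by group, e']
    group

/-- The coset criterion at a field automorphism. -/
theorem coset_plus_field (hm : 4 ≤ m) (hinv : InvGP m F) {x δ : MulAut (Cfsg.POmega F ⇑(plusQ m F))}
    (hx : Cfsg.IsFieldAutClassPOmega (⇑(plusQ m F)) x) {r : ℕ} (hr : r.Prime) (hxr : orderOf x = r)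
    (hδ : δ ∈ (GP (plusQ m F)).map sim) (h : orderOf (δ * x) = r) :
    Cfsg.IsConjUnder ((GP (plusQ m F)).map sim) x (δ * x) := by
  obtain ⟨α, σ, -, rfl⟩ := fieldClass_cases rat_plusQ hx
  have C := ctx_plusQ (F := F) hm
  rw [orderOf_conj_eq, orderOf_fld C] at hxr
  let K := CfsgLib.FixedField.fixedSub σ
  haveI : Fintype K := Fintype.ofFinite K
  have he : IsFixedField K.subtype σ := fun x => ⟨fun hx => ⟨⟨x, hx⟩, rfl⟩, fun ⟨y, hy⟩ => hy ▸ y.2⟩
  obtain ⟨a, haP, ha⟩ := hinv α hδ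
  have e1 : δ * (α⁻¹ * fld (rat_plusQ σ) * α) = α⁻¹ * (sim a * fld (rat_plusQ σ)) * α := by
    rw [ha]; group
  rw [e1, orderOf_conj_eq] at h
  obtain ⟨g, hgP, hg⟩ := exists_conj_proper hm he hr hxr (Or.inr haP) (h ▸ pow_orderOf_eq_one _)
  refine ⟨α⁻¹ * sim g * α⁻¹⁻¹, hinv α⁻¹ ⟨g, hgP, rfl⟩, ?_⟩
  rw [e1, hg]
  group

/-- The coset criterion at a graph-field automorphism. -/
theorem coset_plus_gf (hm : 5 ≤ m) {x δ : MulAut (Cfsg.POmega F ⇑(plusQ m F))}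
    (hx : IsGFClass (⇑(plusQ m F)) x) {r : ℕ} (hr : r.Prime) (hxr : orderOf x = r)
    (hδ : δ ∈ (GP (plusQ m F)).map sim) (h : orderOf (δ * x) = r) :
    Cfsg.IsConjUnder ((GP (plusQ m F)).map sim) x (δ * x) := by
  obtain ⟨rfl, σ, hσ, a, ha, rfl⟩ := gfClass_cases hm hx hr hxr
  let K := CfsgLib.FixedField.fixedSub σ
  haveI : Fintype K := Fintype.ofFinite K
  have he : IsFixedField K.subtype σ := fun x => ⟨fun hx => ⟨⟨x, hx⟩, rfl⟩, fun ⟨y, hy⟩ => hy ▸ y.2⟩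
  obtain ⟨R, hRσ, hR2, hRP⟩ := exists_rat_refl (m := m) (by omega) he
  obtain ⟨g, hg, hga⟩ := exists_conj_improper (by omega) he hσ hRσ hR2 hRP ha (hxr ▸ pow_orderOf_eq_one _)
  obtain ⟨d, hd, rfl⟩ := hδ
  rw [← mul_assoc, ← map_mul] at h ⊢
  obtain ⟨g', hg', hga'⟩ := exists_conj_improper (by omega) he hσ hRσ hR2 hRP
    (a := d * a) (fun h' => ha (((GP (plusQ m F)).mul_mem_cancel_left hd).1 h'))
    (h ▸ pow_orderOf_eq_one _)
  refine ⟨sim g' * (sim g)⁻¹, mul_mem ⟨g', hg', rfl⟩ (inv_mem ⟨g, hg, rfl⟩), ?_⟩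
  rw [hga', hga]
  group

/-- An element of order `r` in the coset, exactly when conjugate. -/
theorem coset_plus (hm : 5 ≤ m) {Q : (Fin m ⊕ Fin m → F) → F} (hQ : Q = ⇑(plusQ m F))
    {x δ : MulAut (Cfsg.POmega F Q)} (hx : Cfsg.IsFieldAutClassPOmega Q x ∨ IsGFClass Q x)
    {r : ℕ} (hr : r.Prime) (hxr : orderOf x = r) (hδ : δ ∈ indPlus Q) :
    orderOf (δ * x) = r ↔ Cfsg.IsConjUnder (indPlus Q) x (δ * x) := by
  refine ⟨fun h => ?_, fun ⟨g, _, e'⟩ => by rw [e', ← MulAut.conj_apply, MulEquiv.orderOf_eq, hxr]⟩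
  subst hQ
  rw [indPlus_eq (by omega)] at hδ ⊢
  rcases hx with hx | hx
  · exact coset_plus_field (by omega) (invGP_of_five hm) hx hr hxr hδ h
  · exact coset_plus_gf hm hx hr hxr hδ h

end CfsgLib.AutPOmega
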