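import Cfsg.Agent.AutPOmega.MinusBalance
import Cfsg.Agent.AutPOmega.Eight
import Cfsg.Agent.OutPOmega.TrialityOut
import Mathlib.GroupTheory.FixedPointFree

/-!
# Local balance for the plus-type groups: semisimilarities

An element of prime order induced by a semisimilarity outside the inner-diagonal group is a field
automorphism, a graph-field automorphism (`p = 2`) or comes from an improper similitude (`p = 2`);
in the last two cases the centraliser has no odd core and the fixed subgroup has even order.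
-/

set_option autoImplicit false
set_option linter.unusedSectionVars false
set_option linter.style.haveILetI false

namespace CfsgLib.AutPOmega

open Matrix Module CfsgLib.Spinor CfsgLib.Forms CfsgLib.Forms4 CfsgLib.StdForms

universe u

variable {F : Type u} [Field F] [Fintype F]

/-- What commutes with an improper similitude automorphism of `PΩ⁺₈` is a semisimilarity. -/
theorem exists_semi_of_comm_four {a : GO (plusQ 4 F)} (ha : a ∉ GP (plusQ 4 F))
    {β : MulAut (Cfsg.POmega F ⇑(plusQ 4 F))} (hβ : β * sim a = sim a * β) :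
    ∃ S : Semi (plusQ 4 F), S.aut = β := by
  haveI := finite_mulAut' (T := Cfsg.POmega F ⇑(plusQ 4 F))
  have C := ctx_plusQ (F := F) (m := 4) le_rfl
  have hev := even_card_plus 4
  set H := (⊤ : Subgroup (GO (plusQ 4 F))).map sim with hH
  set N := Subgroup.normalizer (H : Set (MulAut (Cfsg.POmega F ⇑(plusQ 4 F)))) with hN
  set Γ := Cfsg.gammaPOmega F ⇑(plusQ 4 F) with hΓ
  have hHΓ : H ≤ Γ := by
    rintro _ ⟨g, -, rfl⟩
    rw [sim_apply]
    exact (simSemi g).aut_mem_gamma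
  have hΓN : Γ ≤ N := by
    intro γ hγ
    obtain ⟨S, rfl⟩ := (mem_gamma_iff C).1 hγ
    refine Subgroup.mem_normalizer_fintype fun δ hδ => ?_
    obtain ⟨g, -, rfl⟩ := hδ
    exact ⟨⟨_, S.mapGL_mem_GO g⟩, Subgroup.mem_top _, by rw [Semi.aut_mul_sim, mul_inv_cancel_right]⟩
  have hβN : β ∈ N := by
    refine Subgroup.mem_normalizer_fintype fun δ hδ => ?_
    obtain ⟨g, -, rfl⟩ := hδ
    by_cases hg : g ∈ GP (plusQ 4 F)
    · obtain ⟨g', -, e⟩ := invGP_four β (⟨g, hg, rfl⟩ : sim g ∈ (GP (plusQ 4 F)).map sim)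
      exact ⟨g', Subgroup.mem_top _, e⟩
    · have hga : g * a ∈ GP (plusQ 4 F) :=
        (Subgroup.mul_mem_iff_of_index_two (C.index_GP hev)).2 (iff_of_false hg ha)
      obtain ⟨g', -, e⟩ := invGP_four β (⟨g * a, hga, rfl⟩ : sim (g * a) ∈ (GP (plusQ 4 F)).map sim)
      refine ⟨g' * a⁻¹, Subgroup.mem_top _, ?_⟩
      have hc : sim a * β⁻¹ = β⁻¹ * sim a := by
        rw [eq_inv_mul_iff_mul_eq, ← mul_assoc, hβ, mul_inv_cancel_right]
      rw [map_mul, map_inv, e, map_mul]
      calc β * (sim g * sim a) * β⁻¹ * (sim a)⁻¹ = β * sim g * (sim a * β⁻¹) * (sim a)⁻¹ := by group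
        _ = β * sim g * β⁻¹ := by rw [hc]; group
  obtain ⟨R, τ, hR, hgen, hτ⟩ := OutPOmega.exists_root_data (F := F)
  obtain ⟨u, hu, hs⟩ := OutPOmega.exists_swap (F := F)
  obtain ⟨hs1, hs2⟩ := OutPOmega.swap_rel hR hgen hτ hs
  have hτ3 := OutPOmega.tau_pow_three hgen hτ
  have hτΓ : τ ∉ Γ := by
    intro h
    obtain ⟨S, hS⟩ := (mem_gamma_iff C).1 h
    have e := (OutPOmega.isInduced_iff (Q := ⇑(plusQ 4 F)) (g := S.g) (σ := S.σ) ⟨S.c, S.quad⟩ S.aut).1
      S.isInduced
    exact OutPOmega.tau_not_mem hR hτ _ (e.symm.trans hS)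
  set r : GO (plusQ 4 F) := isoGO _ (reflIso (plusQ 4 F) u hu)
  have hsr : OutPOmega.theta ⇑(plusQ 4 F) (OutPOmega.isoEmb ⇑(plusQ 4 F) (reflIso (plusQ 4 F) u hu)) = sim r :=
    ((OutPOmega.isInduced_iff (Q := ⇑(plusQ 4 F)) (g := r.1) (σ := (1 : F ≃+* F))
      (OutPOmega.inl_mem_semi _) (sim r)).1 ((sim_induced_iff r).2 rfl)).symm
  rw [hsr] at hs1 hs2
  have hτN : τ ∉ N := by
    intro h
    obtain ⟨g, -, hg⟩ := (Subgroup.mem_normalizer_iff.1 h (sim r)).1 ⟨r, Subgroup.mem_top _, rfl⟩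
    refine hτΓ ?_
    have h2 : τ ^ 2 ∈ Γ := by
      have e : τ ^ 2 = τ * sim r * τ⁻¹ * sim r := by
        have hinv : sim r * τ * sim r = τ⁻¹ := by
          rw [hs2, eq_inv_iff_mul_eq_one, ← pow_succ, hτ3]
        rw [← hinv, show τ * sim r * (sim r * τ * sim r) * sim r =
          τ * (sim r * sim r) * τ * (sim r * sim r) by group, hs1, mul_one, mul_one, pow_two]
      rw [e, ← hg]
      exact mul_mem (hHΓ ⟨g, Subgroup.mem_top _, rfl⟩) (hHΓ ⟨r, Subgroup.mem_top _, rfl⟩)
    rw [show τ = τ ^ 2 * τ ^ 2 by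
      rw [← pow_add, show 2 + 2 = 3 + 1 from rfl, pow_succ, hτ3, one_mul]]
    exact mul_mem h2 h2
  have hidx : Γ.index = 3 := by
    have h1 := Γ.index_mul_card
    rw [card_mulAut_eight, ← hΓ] at h1
    exact Nat.eq_of_mul_eq_mul_right Nat.card_pos h1
  have hrel := Subgroup.relIndex_mul_index hΓN
  rw [hidx] at hrel
  rcases (Nat.dvd_prime Nat.prime_three).1 ⟨_, hrel.symm⟩ with h | h
  · exact (mem_gamma_iff C).1 (Subgroup.relIndex_eq_one.1 h hβN)
  · exfalso
    rw [h] at hrel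
    exact hτN ((Subgroup.index_eq_one.1 (by omega : N.index = 1)) ▸ Subgroup.mem_top τ)

variable {m : ℕ}

theorem exists_semi_of_comm (hm : 4 ≤ m) {a : GO (plusQ m F)} (ha : a ∉ GP (plusQ m F))
    {β : MulAut (Cfsg.POmega F ⇑(plusQ m F))} (hβ : β * sim a = sim a * β) :
    ∃ S : Semi (plusQ m F), S.aut = β := by
  rcases eq_or_lt_of_le hm with rfl | h
  · exact exists_semi_of_comm_four ha hβ
  · exact (ctx_plusQ hm).exists_semi (noTriality_plusQ h) β

/-- An involution whose centraliser has no odd core fixes a subgroup of even order. -/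
theorem not_coprime_fixed_of_core {ι : Type} [Fintype ι] [DecidableEq ι] {Q : QuadraticForm F (ι → F)}
    (C : Ctx Q) (A : Subgroup (MulAut (Cfsg.POmega F ⇑Q))) (hinn : ∀ k, MulAut.conj k ∈ A)
    {x : MulAut (Cfsg.POmega F ⇑Q)} (hx : x * x = 1)
    (hcore : Cfsg.pPrimeCore 2 ↥(A ⊓ Subgroup.centralizer {x}) = ⊥) :
    ¬ Nat.Coprime 2 (Nat.card ↥(MonoidHom.eqLocus x.toMonoidHom (MonoidHom.id (Cfsg.POmega F ⇑Q)))) := by
  intro hcop
  haveI := finite_mulAut' (T := Cfsg.POmega F ⇑Q)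
  haveI : Fact (Nat.Prime 2) := ⟨Nat.prime_two⟩
  set E := MonoidHom.eqLocus x.toMonoidHom (MonoidHom.id (Cfsg.POmega F ⇑Q)) with hE
  let j : ↥E →* ↥(A ⊓ Subgroup.centralizer {x}) :=
    ((MulAut.conj).comp E.subtype).codRestrict _ fun k => ⟨hinn _, by
      refine Subgroup.mem_centralizer_singleton_iff.2 ?_
      show MulAut.conj k.1 * x = x * MulAut.conj k.1
      have h := conj_mulEquiv x k.1
      rw [show x k.1 = k.1 from k.2, eq_mul_inv_iff_mul_eq] at h
      exact h⟩
  have hj : Function.Injective j := fun a b h =>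
    Subtype.ext (C.conj_injective (congrArg Subtype.val h))
  have hLn : j.range.Normal := by
    constructor
    rintro _ ⟨k, rfl⟩ g
    have hg := Subgroup.mem_centralizer_singleton_iff.1 g.2.2
    refine ⟨⟨g.1 k.1, ?_⟩, Subtype.ext (conj_mulEquiv g.1 k.1)⟩
    change x (g.1 k.1) = g.1 k.1
    rw [← MulAut.mul_apply, ← hg, MulAut.mul_apply]
    exact congrArg g.1 k.2
  have hcard : (Nat.card j.range).Coprime 2 := by
    rw [← Nat.card_congr (MonoidHom.ofInjective hj).toEquiv]; exact hcop.symm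
  have hbot : j.range = ⊥ := by
    by_contra h
    exact AutPSL.core_ne_bot hLn h hcard hcore
  have hfpf : MonoidHom.FixedPointFree x := fun k hk => by
    have h : j ⟨k, hk⟩ ∈ j.range := ⟨_, rfl⟩
    rw [hbot, Subgroup.mem_bot, ← map_one j] at h
    exact congrArg Subtype.val (hj h)
  have hinv : Function.Involutive x := fun k => by rw [← MulAut.mul_apply, hx, MulAut.one_apply]
  have hc := C.center_eq_bot
  haveI := C.pomega_nontrivial
  obtain ⟨y, hy⟩ := exists_ne (1 : Cfsg.POmega F ⇑Q)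
  exact hy (Subgroup.mem_bot.1 (hc ▸ Subgroup.mem_center_iff.2 fun z =>
    hfpf.commute_all_of_involutive hinv z y))

/-- Local balance at a semisimilarity outside the inner-diagonal group. -/
theorem balance_plus_semi (hm : 4 ≤ m) (A : Subgroup (MulAut (Cfsg.POmega F ⇑(plusQ m F))))
    (hinn : ∀ k, MulAut.conj k ∈ A) {p : ℕ} [Fact p.Prime] (hpF : (p : F) ≠ 0)
    (S : Semi (plusQ m F)) (hord : orderOf S.aut = p)
    (hnot : S.aut ∉ (GP (plusQ m F)).map sim) :
    Cfsg.pPrimeCore p ↥(A ⊓ Subgroup.centralizer {S.aut}) ≠ ⊥ ↔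
      (Cfsg.IsFieldAutClassPOmega (⇑(plusQ m F)) S.aut ∧ Nat.Coprime p (Nat.card ↥(MonoidHom.eqLocus
        S.aut.toMonoidHom (MonoidHom.id (Cfsg.POmega F ⇑(plusQ m F)))))) := by
  obtain ⟨k, rfl⟩ : ∃ k, m = k + 1 := ⟨m - 1, by omega⟩
  have hpp : p.Prime := Fact.out
  have C := ctx_plusQ (F := F) hm
  have hev := even_card_plus (k + 1)
  by_cases hσ1 : S.σ = 1
  · obtain ⟨g, hg⟩ := S.exists_sim hσ1
    rw [hg] at hord hnot ⊢
    have hgP : g ∉ GP (plusQ (k + 1) F) := fun h => hnot ⟨g, h, rfl⟩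
    have hg1 : sim g ^ p = 1 := hord ▸ pow_orderOf_eq_one (sim g)
    obtain rfl : p = 2 := C.eq_two_of_improper hev hgP hpp hg1
    have h2 : (2 : F) ≠ 0 := by simpa using hpF
    have hcore := C.core_improper hev h2 g hgP hg1 (fun β hβ => exists_semi_of_comm hm hgP hβ) A hinn
    exact iff_of_false (not_not_intro hcore) fun h =>
      not_coprime_fixed_of_core C A hinn (by rw [← pow_two, hg1]) hcore h.2
  have hpow : S.aut ^ p = 1 := hord ▸ pow_orderOf_eq_one _
  have hσ : orderOf S.σ = p := orderOf_eq_prime (S.twNorm_scalar C hpow).1 hσ1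
  let K := CfsgLib.FixedField.fixedSub S.σ
  haveI : Fintype K := Fintype.ofFinite K
  have he : IsFixedField K.subtype S.σ := fun x => ⟨fun hx => ⟨⟨x, hx⟩, rfl⟩, fun ⟨y, hy⟩ => hy ▸ y.2⟩
  obtain ⟨Q₁, hnd, hmodel⟩ := S.exists_field_model C he hσ hpp.pos hpow
  rcases similar_plus_or_minus hnd (k := k) (by simp; omega) with h1 | ⟨ζ, hζ, h1⟩
  · have hX := isExt_plusQ (F := F) K.subtype (k + 1)
    obtain ⟨L, c, hL, hx⟩ := hmodel _ _ hX h1
    have hclass : Cfsg.IsFieldAutClassPOmega (⇑(plusQ (k + 1) F)) S.aut :=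
      ⟨pomCongr hL, fld (hX.rat he.apply), S.σ, hσ1, (fld_induced_iff _).2 rfl, by
        rw [← hx]
        ext1 y
        simp [MulAut.congr, MulAut.mul_apply, MulAut.inv_def]⟩
    rw [and_iff_right hclass]
    exact core_iff_of_congr (pomCongr hL) hinn hx fun A' hA' =>
      hX.core_field_iff he C (ctx_plusQ (F := K) hm) A' hA' hpF hσ _
  have hk : 3 ≤ k := by omega
  have hX := isExt_minusQ (F := F) K.subtype k (1 : K) ζ
  obtain ⟨L, c, hL, hx⟩ := hmodel _ _ hX h1
  have CX : Ctx (minusQ k F (K.subtype 1) (K.subtype ζ)) :=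
    ⟨hX.nondegenerate (minusQ_nondegenerate k (disc_ne_zero hζ)), by simp; omega, ⟨minusThree k hk _ _⟩⟩
  have C₀ := ctx_minusQ (F := K) hk hζ
  obtain rfl : p = 2 := by
    by_contra hne
    exact not_similar_plus_minus (aniso_map he (hσ ▸ hpp.odd_of_ne_two hne) hζ)
      (Similar.symm ⟨L, c, hL⟩)
  have h2K : (2 : K) ≠ 0 := fun h => hpF (by rw [Nat.cast_ofNat, ← map_ofNat K.subtype 2, h, map_zero])
  have key := fun A' hA' => hX.core_field_iff he CX C₀ A' hA' hpF hσ (hX.rat he.apply)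
  have hiff := core_iff_of_congr (pomCongr hL) hinn hx key
  have hncop : ¬ Nat.Coprime 2 (Nat.card ↥(MonoidHom.eqLocus S.aut.toMonoidHom
      (MonoidHom.id (Cfsg.POmega F ⇑(plusQ (k + 1) F))))) := by
    intro hcop
    have hcard : Nat.card ↥(MonoidHom.eqLocus S.aut.toMonoidHom (MonoidHom.id (Cfsg.POmega F ⇑(plusQ (k + 1) F)))) =
        Nat.card ↥(MonoidHom.eqLocus (fld (hX.rat he.apply)).toMonoidHom
          (MonoidHom.id (Cfsg.POmega F ⇑(minusQ k F (K.subtype 1) (K.subtype ζ))))) := by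
      refine Nat.card_congr (Equiv.subtypeEquiv (pomCongr hL).toEquiv fun t => ?_)
      change S.aut t = t ↔ fld (hX.rat he.apply) (pomCongr hL t) = pomCongr hL t
      rw [← hx]
      show S.aut t = t ↔ pomCongr hL (S.aut ((pomCongr hL).symm (pomCongr hL t))) = pomCongr hL t
      rw [MulEquiv.symm_apply_apply, (pomCongr hL).injective.eq_iff]
    rw [hcard] at hcop
    have h := (hX.two_dvd_card_range CX C₀ h2K).trans (Subgroup.card_dvd_of_le (by
      rintro _ ⟨t, rfl⟩
      exact hX.fld_smallHom he.apply (hX.rat he.apply) t :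
        hX.smallHom.range ≤ MonoidHom.eqLocus (fld (hX.rat he.apply)).toMonoidHom (MonoidHom.id _)))
    exact (Nat.prime_two.coprime_iff_not_dvd).1 hcop h
  exact iff_of_false (fun h => hncop (hiff.1 h)) fun h => hncop h.2

end CfsgLib.AutPOmega
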