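import Cfsg.Agent.AutPOmega.Plus
import Cfsg.Agent.AutPOmega.Torus
import Cfsg.Agent.AutPOmega.Index

/-!
# Centralisers and inner classes of field and graph-field automorphisms of the plus groups
-/

set_option autoImplicit false
set_option linter.unusedSectionVars false
set_option linter.style.haveILetI false

namespace CfsgLib.AutPOmega

open Matrix Module CfsgLib.Spinor CfsgLib.Forms CfsgLib.Forms4 CfsgLib.StdForms
open CfsgLib.AutPSL (mapGL twNorm)

universe u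

variable {F : Type u} [Field F] [Fintype F] {m : ℕ}

theorem scalar_eq_torus (s : Fˣ) :
    Matrix.GeneralLinearGroup.scalar (Fin m ⊕ Fin m) s = torus (s * s) fun _ => s := by
  refine Units.ext (Matrix.ext_iff_mulVec.2 fun v => ?_)
  rw [scalar_mulVec, torus_mulVec]
  funext j
  rcases j with i | i <;> simp [torusDiag]

theorem scalar_inv_mul_torus {c s : Fˣ} (hs : s * s = c) (l : Fin m → Fˣ) :
    (Matrix.GeneralLinearGroup.scalar (Fin m ⊕ Fin m) s)⁻¹ * torus c l =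
      torus 1 fun i => l i * s⁻¹ := by
  rw [inv_mul_eq_iff_eq_mul, scalar_eq_torus, torus_mul, mul_one, hs]
  congr 1
  funext i
  simp

theorem isSquare_pow_iff_even_or {L : Type*} [Field L] {s : L} (hs : s ≠ 0) (k : ℕ) :
    IsSquare (s ^ k) ↔ Even k ∨ IsSquare s := by
  constructor
  · intro h
    rcases Nat.even_or_odd k with hk | ⟨j, hj⟩
    · exact Or.inl hk
    · refine Or.inr ?_
      have e : s = s ^ k * (s ^ j * s ^ j)⁻¹ := by
        rw [hj, show 2 * j + 1 = j + j + 1 by ring, pow_succ, pow_add]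
        field_simp
      rw [e]
      exact h.mul (IsSquare.inv ⟨_, rfl⟩)
  · rintro (⟨j, rfl⟩ | h)
    · exact ⟨s ^ j, by rw [pow_add]⟩
    · exact h.pow k

theorem not_isSquare_iff_mul {L : Type*} [Field L] [Finite L] {w t : L} (hw : ¬ IsSquare w)
    (ht : t ≠ 0) : IsSquare (w * t) ↔ ¬ IsSquare t := by
  refine ⟨fun h ht' => hw ?_, fun h => ?_⟩
  · rw [show w = w * t * t⁻¹ by field_simp]
    exact h.mul ht'.inv
  · haveI := Fintype.ofFinite L
    exact isSquare_mul_of_not_isSquare hw h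

variable {K : Type*} [Field K] [Fintype K] {e : K →+* F} {σ : F ≃+* F}

theorem exists_nonsquare_sqrt (he : IsFixedField e σ) (hσ : orderOf σ = 2) (h2 : (2 : K) ≠ 0) :
    ∃ (c₀ : Kˣ) (s : Fˣ), ¬ IsSquare (c₀ : K) ∧ s * s = Units.map (e : K →* F) c₀ := by
  obtain ⟨α, hα⟩ := FiniteField.exists_nonsquare (F := K) (ringChar_ne_two h2)
  have hα0 : α ≠ 0 := fun h0 => hα ⟨0, by rw [h0, mul_zero]⟩
  obtain ⟨s, hs⟩ := isSquare_map_of_order_two he hσ α
  have hs0 : s ≠ 0 := fun h0 => hα0 (e.injective (by rw [map_zero, hs, h0, mul_zero]))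
  exact ⟨Units.mk0 α hα0, Units.mk0 s hs0, hα, Units.ext (by simp [hs])⟩

theorem neg_mem_omega_plus (he : IsFixedField e σ) (hσ : orderOf σ = 2) (h2 : (2 : F) ≠ 0) (u : Fˣ)
    (hu : u * u = 1) : isoTorus (fun _ : Fin m => u) ∈ Cfsg.Omega F ⇑(plusQ m F) := by
  rw [isoTorus_mem_omega_iff h2]
  have hsq : IsSquare (u : F) := by
    rcases mul_self_eq_one_iff.1 (show (u : F) * u = 1 from congrArg Units.val hu) with h | h
    · exact h ▸ IsSquare.one
    · rw [h, show (-1 : F) = e (-1) by simp]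
      exact isSquare_map_of_order_two he hσ _
  rw [Finset.prod_const, Units.val_pow_eq_pow_val]
  exact hsq.pow _

/-- Inner classes at an involutory field automorphism. -/
theorem splitCount_plus (hm : 4 ≤ m) (he : IsFixedField e σ) (hσ : orderOf σ = 2) (h2 : (2 : K) ≠ 0) :
    (Odd m ∧ Fintype.card K % 4 = 1 → Cfsg.splitClassCount ((GP (plusQ m F)).map sim)
        (Cfsg.Inn (Cfsg.POmega F ⇑(plusQ m F))) (fld (rat_plusQ σ)) = 2) ∧
      (¬ (Odd m ∧ Fintype.card K % 4 = 1) → Cfsg.splitClassCount ((GP (plusQ m F)).map sim)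
        (Cfsg.Inn (Cfsg.POmega F ⇑(plusQ m F))) (fld (rat_plusQ σ)) = 4) := by
  have hE := isExt_plusQ e m
  have h2F := two_ne_zero_map e h2
  obtain ⟨c₀, s, hns, hs⟩ := exists_nonsquare_sqrt he hσ h2
  obtain ⟨d, hd⟩ := FiniteField.exists_nonsquare (F := F) (ringChar_ne_two h2F)
  have hd0 : d ≠ 0 := fun h0 => hd ⟨0, by rw [h0, mul_zero]⟩
  set l : Fin m → Fˣ := fun _ => Units.map (e : K →* F) c₀ * s⁻¹ with hl
  have hk : (isoTorus l).1 = (Matrix.GeneralLinearGroup.scalar _ s)⁻¹ *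
      Matrix.GeneralLinearGroup.map e (dilate m c₀) := by
    rw [show Matrix.GeneralLinearGroup.map e (dilate m c₀) = dilate m (Units.map (e : K →* F) c₀) from ?_,
      dilate_eq_torus, scalar_inv_mul_torus hs, isoTorus_val]
    refine Units.ext ?_
    show (Matrix.diagonal _).map e = Matrix.diagonal _
    rw [Matrix.diagonal_map (map_zero e)]
    congr 1
    funext j
    rcases j with i | i <;> simp
  have hneg : ∀ u : Fˣ, u * u = 1 → ∀ k : ↥(Cfsg.isometryGroup F ⇑(plusQ m F)),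
      k.1 = Matrix.GeneralLinearGroup.scalar _ u → k ∈ Cfsg.Omega F ⇑(plusQ m F) := fun u hu k hk => by
    have := neg_mem_omega_plus (m := m) he hσ h2F u hu
    rwa [show k = isoTorus fun _ => u from Subtype.ext (by rw [hk, scalar_eq_torus, hu]; rfl)]
  obtain ⟨h4, h2'⟩ := hE.splitClassCount_two he (ctx_plusQ hm) (ctx_plusQ hm) (even_card_plus m) hσ h2 hneg
    ⟨dilate m (Units.mk0 d hd0), _, hasMult_dilate _, proper_dilate hm _, hd⟩ (hasMult_dilate c₀)
    (proper_dilate hm c₀) hns hs hk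
  have key : isoTorus l ∈ Cfsg.Omega F ⇑(plusQ m F) ↔ Even m ∨ Fintype.card K % 4 = 3 := by
    rw [isoTorus_mem_omega_iff h2F, hl, Finset.prod_const, Finset.card_univ, Fintype.card_fin,
      Units.val_pow_eq_pow_val, ← hs, mul_inv_cancel_right, isSquare_pow_iff_even_or s.ne_zero,
      isSquare_sqrt_iff he hσ h2 hns (show (s : F) * s = e c₀ from congrArg Units.val hs)]
  have hK := FiniteField.odd_card_of_char_ne_two (ringChar_ne_two h2)
  refine ⟨fun h => h2' fun hk' => ?_, fun h => h4 (key.2 ?_)⟩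
  · rcases key.1 hk' with h' | h'
    · exact Nat.not_even_iff_odd.2 h.1 h'
    · omega
  · rcases Nat.even_or_odd m with hm' | hm'
    · exact Or.inl hm'
    · refine Or.inr ?_
      have : ¬ Fintype.card K % 4 = 1 := fun h' => h ⟨hm', h'⟩
      omega

/-- Inner classes at an involutory field automorphism of the split form with minus coefficients. -/
theorem splitCount_minus {k : ℕ} (hk : 4 ≤ k) (he : IsFixedField e σ) (hσ : orderOf σ = 2)
    (h2 : (2 : K) ≠ 0) {a b : K}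
    (hab : ∀ z₁ z₂ : K, z₁ ^ 2 + a * z₁ * z₂ + b * z₂ ^ 2 = 0 → z₁ = 0 ∧ z₂ = 0) :
    (Odd (k + 1) ∧ Fintype.card K % 4 = 1 →
      Cfsg.splitClassCount ((GP (minusQ k F (e a) (e b))).map sim)
        (Cfsg.Inn (Cfsg.POmega F ⇑(minusQ k F (e a) (e b)))) (fld (rat_minusQ k (he.apply a) (he.apply b))) = 4) ∧
      (¬ (Odd (k + 1) ∧ Fintype.card K % 4 = 1) →
        Cfsg.splitClassCount ((GP (minusQ k F (e a) (e b))).map sim)
        (Cfsg.Inn (Cfsg.POmega F ⇑(minusQ k F (e a) (e b)))) (fld (rat_minusQ k (he.apply a) (he.apply b))) = 2) := by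
  have h2F := two_ne_zero_map e h2
  have C₀ : Ctx (minusQ k K a b) := ctx_minusQ (by omega) hab
  have hE := isExt_minusQ e k a b
  have C : Ctx (minusQ k F (e a) (e b)) :=
    ⟨hE.nondegenerate C₀.nondeg, C₀.card_ge, ⟨minusThree k (by omega) _ _⟩⟩
  obtain ⟨c₀, s, hns, hs⟩ := exists_nonsquare_sqrt he hσ h2
  obtain ⟨g₀, hc₀, hp₀, L, hL, W, hW, hgl⟩ := exists_minus_torus he hσ h2 (by omega : 3 ≤ k) hab hns
  obtain ⟨d, hd⟩ := FiniteField.exists_nonsquare (F := F) (ringChar_ne_two h2F)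
  have hd0 : d ≠ 0 := fun h0 => hd ⟨0, by rw [h0, mul_zero]⟩
  have h1 : HasMult (minusQ k F (e a) (e b))
      ((Matrix.GeneralLinearGroup.scalar _ s)⁻¹ * Matrix.GeneralLinearGroup.map e g₀) 1 := by
    have := (HasMult.scalar (Q := minusQ k F (e a) (e b)) s).inv.mul (d := Units.map (e : K →* F) c₀)
      fun v => hE.hasMult hc₀ v
    rwa [hs, inv_mul_cancel] at this
  set w : ↥(Cfsg.isometryGroup F ⇑(minusQ k F (e a) (e b))) := ⟨_, h1.mem_isometry⟩ with hw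
  set l : Fin (k + 1) → Fˣ := fun i =>
    (Fin.snoc (fun _ => Units.map (e : K →* F) c₀) W : Fin (k + 1) → Fˣ) i * s⁻¹ with hl
  have hcong : isoCongr hL w = isoTorus l := Subtype.ext (by
    show glCongr L _ = torus 1 l
    rw [map_mul, map_inv, glCongr_scalar, hgl, scalar_inv_mul_torus hs])
  have hmem : ∀ g, g ∈ Cfsg.Omega F ⇑(minusQ k F (e a) (e b)) ↔
      isoCongr hL g ∈ Cfsg.Omega F ⇑(plusQ (k + 1) F) := fun g => by
    rw [← map_omega hL]
    exact (Subgroup.mem_map_iff_mem (isoCongr hL).injective).symm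
  have hneg : ∀ u : Fˣ, u * u = 1 → ∀ g : ↥(Cfsg.isometryGroup F ⇑(minusQ k F (e a) (e b))),
      g.1 = Matrix.GeneralLinearGroup.scalar _ u → g ∈ Cfsg.Omega F ⇑(minusQ k F (e a) (e b)) :=
    fun u hu g hg => by
      rw [hmem, show isoCongr hL g = isoTorus (fun _ : Fin (k + 1) => u) from Subtype.ext (by
        show glCongr L g.1 = torus 1 _
        rw [hg, glCongr_scalar, scalar_eq_torus, hu])]
      exact neg_mem_omega_plus he hσ h2F u hu
  have hn : ∃ (n : GL _ F) (d : Fˣ), HasMult (minusQ k F (e a) (e b)) n d ∧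
      Proper (minusQ k F (e a) (e b)) n ∧ ¬ IsSquare (d : F) :=
    ⟨glCongr L.symm (dilate (k + 1) (Units.mk0 d hd0)), Units.mk0 d hd0,
      (hasMult_dilate (m := k + 1) _).congr (L := L.symm) (c := (1 : Fˣ)⁻¹) (sim_symm hL),
      proper_congr_mp (L := L.symm) (c := (1 : Fˣ)⁻¹) (sim_symm hL) (proper_dilate (by omega) _), hd⟩
  obtain ⟨h4, h2'⟩ := hE.splitClassCount_two he C C₀ (even_card_minus k) hσ h2 hneg hn hc₀ hp₀ hns hs
    (k := w) rfl
  have hs0 := s.ne_zero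
  have key : w ∈ Cfsg.Omega F ⇑(minusQ k F (e a) (e b)) ↔ ¬ (Even (k + 1) ∨ Fintype.card K % 4 = 3) := by
    have hs' : (s : F) * s = e c₀ := congrArg Units.val hs
    rw [hmem, hcong, isoTorus_mem_omega_iff h2F, hl, Fin.prod_univ_castSucc]
    simp only [Fin.snoc_castSucc, Fin.snoc_last, Finset.prod_const, Finset.card_univ, Fintype.card_fin]
    rw [← hs, mul_inv_cancel_right, Units.val_mul, Units.val_pow_eq_pow_val, Units.val_mul,
      show (s : F) ^ k * ((W : F) * ((s⁻¹ : Fˣ) : F)) = (W : F) * ((s * s : F))⁻¹ * (s : F) ^ (k + 1) by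
        rw [Units.val_inv_eq_inv_val, pow_succ]; field_simp]
    have hW' : ¬ IsSquare ((W : F) * ((s * s : F))⁻¹) := fun h => hW (by
      have := h.mul (⟨(s : F), rfl⟩ : IsSquare ((s : F) * s))
      rwa [inv_mul_cancel_right₀ (mul_ne_zero hs0 hs0)] at this)
    rw [not_isSquare_iff_mul hW' (pow_ne_zero _ hs0), isSquare_pow_iff_even_or hs0,
      isSquare_sqrt_iff he hσ h2 hns hs']
  have hK := FiniteField.odd_card_of_char_ne_two (ringChar_ne_two h2)
  refine ⟨fun h => h4 (key.2 ?_), fun h => h2' fun hk' => ?_⟩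
  · rintro (h' | h')
    · exact Nat.not_even_iff_odd.2 h.1 h'
    · omega
  · have := key.1 hk'
    push Not at this
    exact h ⟨Nat.not_even_iff_odd.1 this.1, by omega⟩

/-- The field automorphisms of prime order of the plus groups. -/
theorem field_plus {p f : ℕ} [Fact p.Prime] (hF : Fintype.card F = p ^ f) (hf : 1 ≤ f) (hm : 4 ≤ m)
    (hinv : InvGP m F) {Q : (Fin m ⊕ Fin m → F) → F} (hQ : Q = ⇑(plusQ m F))
    {x : MulAut (Cfsg.POmega F Q)} (hx : Cfsg.IsFieldAutClassPOmega Q x) {r : ℕ} (hr : r.Prime)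
    (hxr : orderOf x = r) (F₀ : Type*) [Field F₀] [Fintype F₀] {Q₀ : (Fin m ⊕ Fin m → F₀) → F₀}
    (hQ₀ : Q₀ = ⇑(plusQ m F₀)) (hF₀ : Fintype.card F₀ = p ^ (f / r)) :
    r ∣ f ∧ Nonempty (↥(indPlus Q ⊓ Subgroup.centralizer {x}) ≃* ↥(indPlus Q₀)) ∧
      ((Odd r ∨ p = 2) → Cfsg.splitClassCount (indPlus Q) (Cfsg.Inn (Cfsg.POmega F Q)) x = 1) ∧
      ((r = 2 ∧ p ≠ 2 ∧ Odd m ∧ p ^ (f / 2) % 4 = 1) →
        Cfsg.splitClassCount (indPlus Q) (Cfsg.Inn (Cfsg.POmega F Q)) x = 2) ∧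
      ((r = 2 ∧ p ≠ 2 ∧ ¬ (Odd m ∧ p ^ (f / 2) % 4 = 1)) →
        Cfsg.splitClassCount (indPlus Q) (Cfsg.Inn (Cfsg.POmega F Q)) x = 4) := by
  subst hQ hQ₀
  haveI : CharP F p := charP_of_card_eq_prime_pow hF
  obtain ⟨α, σ, -, rfl⟩ := fieldClass_cases rat_plusQ hx
  have C := ctx_plusQ (F := F) hm
  rw [orderOf_conj_eq, orderOf_fld C] at hxr
  have hrf : r ∣ f := hxr ▸ CfsgLib.AutPSL.orderOf_dvd_degree hF hf σ
  obtain ⟨e, he'⟩ := CfsgLib.AutPSL.exists_embedding_fixed hF σ hxr hr.pos hrf F₀ hF₀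
  have he : IsFixedField e σ := he'
  have hE := isExt_plusQ e m
  rw [indPlus_eq hm, indPlus_eq hm]
  have hinv' := CfsgLib.AutPSL.mem_iff_conj_mem hinv
  rw [show α⁻¹ * fld (rat_plusQ σ) * α = α⁻¹ * fld (rat_plusQ σ) * α⁻¹⁻¹ by rw [inv_inv]]
  have hcount := CfsgLib.AutPSL.splitClassCount_conj _ (Cfsg.Inn (Cfsg.POmega F ⇑(plusQ m F))) α⁻¹
    (fld (rat_plusQ (m := m) σ)) (hinv' α⁻¹) (inn_iff α⁻¹)
  rw [hcount]
  have htwo : ∀ {q : ℕ}, p ≠ 2 → q = 2 → (q : F₀) ≠ 0 := by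
    intro q hp hq h0
    have : (2 : F) = 0 := by rw [← map_ofNat e 2, ← map_zero e]; exact congrArg e (by simpa [hq] using h0)
    exact hp ((Nat.prime_dvd_prime_iff_eq Fact.out Nat.prime_two).1
      ((CharP.cast_eq_zero_iff F p 2).1 (by exact_mod_cast this)))
  refine ⟨hrf, ?_, ?_, ?_, ?_⟩
  · exact ((model_GP hE he C (ctx_plusQ hm) (even_card_plus m)).centralizer_equiv hxr hr.pos).map fun E =>
      (CfsgLib.AutPSL.centralizerConjEquiv _ α⁻¹ _ (hinv' α⁻¹)).symm.trans E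
  · intro h
    exact hE.splitClassCount_one he C (ctx_plusQ hm) (even_card_plus m) hxr hr.pos
      (h.symm.imp_left fun hp => by
        subst hp; exact CharTwo.two_eq_zero)
      fun c => exists_hasMult_plusQ m c
  · rintro ⟨hr2, hp, hmo, hq⟩
    subst hr2
    exact (splitCount_plus hm he hxr (by simpa using htwo hp rfl)).1 ⟨hmo, hF₀ ▸ hq⟩
  · rintro ⟨hr2, hp, hq⟩
    subst hr2
    exact (splitCount_plus hm he hxr (by simpa using htwo hp rfl)).2 (hF₀ ▸ hq)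

/-- The involutory graph-field automorphisms of the plus groups. -/
theorem gf_plus {p f : ℕ} [Fact p.Prime] (hF : Fintype.card F = p ^ f) (hf : 1 ≤ f) {k : ℕ} (hk : 4 ≤ k)
    {Q : (Fin (k + 1) ⊕ Fin (k + 1) → F) → F} (hQ : Q = ⇑(plusQ (k + 1) F))
    {x : MulAut (Cfsg.POmega F Q)} (hx : IsGFClass Q x) (hx2 : orderOf x = 2)
    (F₀ : Type*) [Field F₀] [Fintype F₀] (hF₀ : Fintype.card F₀ = p ^ (f / 2)) :
    Even f ∧ (∀ y, IsGFClass Q y → orderOf y = 2 → Cfsg.IsConjUnder (indPlus Q) x y) ∧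
      (∃ a₀ b₀ : F₀, (∀ z₁ z₂ : F₀, z₁ ^ 2 + a₀ * z₁ * z₂ + b₀ * z₂ ^ 2 = 0 → z₁ = 0 ∧ z₂ = 0) ∧
        Nonempty (↥(indPlus Q ⊓ Subgroup.centralizer {x}) ≃* ↥(Cfsg.inndiagPOmegaMinus k F₀ a₀ b₀))) ∧
      (p = 2 → Cfsg.splitClassCount (indPlus Q) (Cfsg.Inn (Cfsg.POmega F Q)) x = 1) ∧
      ((p ≠ 2 ∧ Odd (k + 1) ∧ p ^ (f / 2) % 4 = 1) →
        Cfsg.splitClassCount (indPlus Q) (Cfsg.Inn (Cfsg.POmega F Q)) x = 4) ∧
      ((p ≠ 2 ∧ ¬ (Odd (k + 1) ∧ p ^ (f / 2) % 4 = 1)) →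
        Cfsg.splitClassCount (indPlus Q) (Cfsg.Inn (Cfsg.POmega F Q)) x = 2) := by
  subst hQ
  haveI : CharP F p := charP_of_card_eq_prime_pow hF
  have hm : 4 ≤ k + 1 := by omega
  have C := ctx_plusQ (F := F) hm
  obtain ⟨-, σ, hσ, a, ha, rfl⟩ := gfClass_cases (by omega) hx Nat.prime_two hx2
  have hrf : 2 ∣ f := hσ ▸ CfsgLib.AutPSL.orderOf_dvd_degree hF hf σ
  obtain ⟨e, he'⟩ := CfsgLib.AutPSL.exists_embedding_fixed hF σ hσ two_pos hrf F₀ hF₀
  have he : IsFixedField e σ := he'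
  obtain ⟨R, hRσ, hR2, hRP⟩ := exists_rat_refl (m := k + 1) hm he
  rw [indPlus_eq hm]
  obtain ⟨g, hg, hga⟩ := exists_conj_improper hm he hσ hRσ hR2 hRP ha (hx2 ▸ pow_orderOf_eq_one _)
  obtain ⟨d', hd'⟩ := twNorm_scalar_of_pow C (rat_plusQ σ) R hσ (pow_two_refl hσ hRσ hR2)
  obtain ⟨u', h', b', Q₂, hah', hnd', hval'⟩ :=
    exists_descent he (rat_plusQ σ) C.nondeg C.exists_value_one hσ two_pos R.2 hd'
  obtain ⟨ζ, hζ, hsim⟩ := (similar_plus_or_minus hnd' (k := k) (by simp; omega)).resolve_left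
    fun h => hRP (proper_of_descent_plus hm he hah' hval' h)
  have hEX := isExt_minusQ e k (1 : F₀) ζ
  obtain ⟨L, c, hL, hΘ⟩ := exists_transport he (rat_plusQ σ) hah' hval' hEX hsim
  have C₀ : Ctx (minusQ k F₀ 1 ζ) := ctx_minusQ (by omega) hζ
  have CX : Ctx (minusQ k F (e 1) (e ζ)) :=
    ⟨hEX.nondegenerate C₀.nondeg, C₀.card_ge, ⟨minusThree k (by omega) _ _⟩⟩
  set G := (GP (plusQ (k + 1) F)).map sim with hG
  have hgG : sim g ∈ G := ⟨g, hg, rfl⟩
  have hgi : ∀ δ, δ ∈ G ↔ sim g * δ * (sim g)⁻¹ ∈ G := fun δ =>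
    ⟨fun h => mul_mem (mul_mem hgG h) (inv_mem hgG), fun h => by
      simpa [mul_assoc] using mul_mem (mul_mem (inv_mem hgG) h) hgG⟩
  have hcount : Cfsg.splitClassCount G (Cfsg.Inn (Cfsg.POmega F ⇑(plusQ (k + 1) F)))
      (sim a * fld (rat_plusQ σ)) = Cfsg.splitClassCount ((GP (minusQ k F (e 1) (e ζ))).map sim)
        (Cfsg.Inn (Cfsg.POmega F ⇑(minusQ k F (e 1) (e ζ)))) (fld (hEX.rat he.apply)) := by
    rw [hga, CfsgLib.AutPSL.splitClassCount_conj _ _ _ _ hgi (inn_iff _),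
      ← splitClassCount_map (MulAut.congr (pomCongr hL)), hΘ, map_GP_congr hL, map_inn]
  refine ⟨even_iff_two_dvd.2 hrf, fun y hy hy2 => ?_, ⟨1, ζ, hζ, ?_⟩, ?_, ?_, ?_⟩
  · obtain ⟨-, τ, hτ, a', ha', rfl⟩ := gfClass_cases (by omega) hy Nat.prime_two hy2
    obtain rfl : τ = σ := CfsgLib.AutPSL.eq_of_sq_eq_one (fun h => by simp [h] at hτ)
      (fun h => by simp [h] at hσ) (hτ ▸ pow_orderOf_eq_one _) (hσ ▸ pow_orderOf_eq_one _)
    obtain ⟨g', hg', hga'⟩ := exists_conj_improper hm he hσ hRσ hR2 hRP ha' (hy2 ▸ pow_orderOf_eq_one _)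
    refine ⟨sim g' * (sim g)⁻¹, mul_mem ⟨g', hg', rfl⟩ (inv_mem hgG), ?_⟩
    rw [hga', hga]
    group
  · rw [hga]
    obtain ⟨E₁⟩ := centralizer_map (MulAut.congr (pomCongr hL)) G (sim R * fld (rat_plusQ σ))
    rw [map_GP_congr hL, hΘ] at E₁
    obtain ⟨E₂⟩ := (model_GP hEX he CX C₀ (even_card_minus k)).centralizer_equiv hσ two_pos
    show Nonempty (_ ≃* ↥(indMinus k 1 ζ (Cfsg.quadFormMinus k F₀ 1 ζ)))
    rw [← coe_minusQ, indMinus_eq (by omega) hζ]
    exact ⟨((CfsgLib.AutPSL.centralizerConjEquiv _ (sim g) _ hgi).symm.trans E₁).trans E₂⟩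
  · intro hp
    rw [hcount]
    exact hEX.splitClassCount_one he CX C₀ (even_card_minus k) hσ two_pos
      (Or.inl (by subst hp; exact CharTwo.two_eq_zero)) fun c => exists_hasMult_minusQ hζ c
  all_goals rintro ⟨hp, hq⟩
  all_goals rw [hcount]
  all_goals
    have h2K : (2 : F₀) ≠ 0 := fun h0 => hp ((Nat.prime_dvd_prime_iff_eq Fact.out Nat.prime_two).1
      ((CharP.cast_eq_zero_iff F p 2).1 (by
        have : (2 : F) = 0 := by rw [← map_ofNat e 2, h0, map_zero]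
        exact_mod_cast this)))
  · exact (splitCount_minus hk he hσ h2K hζ).1 (hF₀ ▸ hq)
  · exact (splitCount_minus hk he hσ h2K hζ).2 (hF₀ ▸ hq)

end CfsgLib.AutPOmega
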