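import Cfsg.Agent.AutPOmega.Lift
import Mathlib.Algebra.BigOperators.Intervals

/-!
# Automorphisms of `PΩ(Q)` permute the singular points
-/

set_option autoImplicit false
set_option linter.unusedSectionVars false
set_option linter.style.haveILetI false

namespace CfsgLib.AutPOmega

open Matrix Module CfsgLib.Spinor CfsgLib.Forms CfsgLib.Forms4

variable {F : Type*} [Field F] [Finite F] {ι : Type} [Fintype ι] [DecidableEq ι]
  {Q : QuadraticForm F (ι → F)}

set_option quotPrecheck false in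
local notation "B" => QuadraticMap.polar (DFunLike.coe Q)

/-- Totally singular subspaces of half the dimension have dimension at least five. -/
def NoTriality (Q : QuadraticForm F (ι → F)) : Prop :=
  ∀ W : Submodule F (ι → F), (∀ w ∈ W, Q w = 0) → perp Q W = W → 5 ≤ finrank F W

theorem Ctx.exists_move (C : Ctx Q) {x y : ι → F} (hx0 : x ≠ 0) (hx : Q x = 0) (hy0 : y ≠ 0)
    (hy : Q y = 0) : ∃ g : OG Q, ∃ t : F, t ≠ 0 ∧ app g x = t • y := by
  obtain ⟨P⟩ := C.pairs
  obtain ⟨g, hg, α, hα, hgx⟩ := P.exists_to_e C.nondeg hx0 hx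
  obtain ⟨h, hh, β, hβ, hhy⟩ := P.exists_to_e C.nondeg hy0 hy
  rw [← TwoPairs.omega_eq_eichGroup C.nondeg C.five P.toTwoPairs] at hg hh
  refine ⟨(⟨h, hh⟩ : OG Q)⁻¹ * ⟨g, hg⟩, α / β, div_ne_zero hα hβ, ?_⟩
  apply app_injective (⟨h, hh⟩ : OG Q)
  rw [app_mul, app_app_inv, app_smul]
  show mat Q g *ᵥ x = _ • (mat Q h *ᵥ y)
  rw [hgx, hhy, smul_smul, div_mul_cancel₀ _ hβ]

theorem Ctx.sylow_le_stab (p : ℕ) [Fact p.Prime] [CharP F p] (C : Ctx Q) {x : ι → F} (hx0 : x ≠ 0)
    (hx : Q x = 0) : ∃ S : Sylow p (OG Q), (S : Subgroup (OG Q)) ≤ stab Q x := by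
  obtain ⟨S⟩ : Nonempty (Sylow p (OG Q)) := inferInstance
  obtain ⟨y, hy0, hy, hfix⟩ := exists_fixed_singular p C S.2
  obtain ⟨g, t, ht, hg⟩ := C.exists_move hy0 hy hx0 hx
  refine ⟨g • S, ?_⟩
  rintro _ ⟨s, hs, rfl⟩
  rw [← stab_smul ht, ← hg]
  show MulAut.conj g s ∈ _
  rw [MulAut.conj_apply, conj_mem_stab_iff]
  exact mem_stab_of_eq (hfix s hs)

theorem Ctx.unip_le_frame (p : ℕ) [Fact p.Prime] [CharP F p] (C : Ctx Q) {x : ι → F} (hx0 : x ≠ 0)
    (hx : Q x = 0) {K : Subgroup (OG Q)} (hK : IsPGroup p K) (hle : K ≤ stab Q x)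
    (hnor : ∀ g ∈ stab Q x, ∀ k ∈ K, g * k * g⁻¹ ∈ K) : K ≤ unip Q (F ∙ x) := by
  obtain ⟨P, rfl⟩ := C.exists_frame_left hx0 hx
  exact P.normal_le_unip p C hK hle hnor

theorem Ctx.unip_nontrivial (C : Ctx Q) {x : ι → F} (hx0 : x ≠ 0) (hx : Q x = 0) :
    unip Q (F ∙ x) ≠ ⊥ := by
  obtain ⟨P, rfl⟩ := C.exists_frame_left hx0 hx
  intro h
  have hmem := P.eichG_mem_unip C P.inW_a.1
  rw [h, Subgroup.mem_bot] at hmem
  have h1 := congrArg (fun g => B (app g P.f) P.b) hmem
  simp [app_one, P.app_eichG_f C P.inW_a, QuadraticMap.polar_add_left,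
    QuadraticMap.polar_smul_left, P.eb, P.fb, P.ab] at h1

theorem Ctx.span_eq_of_stab_le (p : ℕ) [Fact p.Prime] [CharP F p] (C : Ctx Q) {x y : ι → F}
    (hx0 : x ≠ 0) (hx : Q x = 0) (h : stab Q x ≤ stab Q y) : ∃ t : F, y = t • x := by
  obtain ⟨P, rfl⟩ := C.exists_frame_left hx0 hx
  haveI := C.nonempty
  refine ⟨B P.f y, P.eq_smul_of_fixed C fun g hg => ?_⟩
  obtain ⟨r, hr, hgy⟩ := h (unip_le_stab _ hg)
  by_cases hy0 : y = 0
  · rw [hy0, app_zero]
  have hpow : ∀ n : ℕ, app (g ^ n) y = r ^ n • y := fun n => by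
    induction n with
    | zero => rw [pow_zero, pow_zero, app_one, one_smul]
    | succ n ih => rw [pow_succ, pow_succ, app_mul, hgy, app_smul, ih, smul_smul, mul_comm]
  have h1 := hpow (p ^ 2)
  rw [unip_pow p hg, app_one] at h1
  have hr1 : r = 1 := by
    apply iterateFrobenius_inj F p 2
    rw [iterateFrobenius_def, iterateFrobenius_def, one_pow]
    exact (smul_left_injective F hy0 ((one_smul F y).trans h1)).symm
  rw [hgy, hr1, one_smul]

/-- The map on generated pairs used for the lower bound on the unipotent radical of a maximal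
totally singular subspace. -/
theorem Ctx.exists_prod_eich (C : Ctx Q) {k : ℕ} (w : Fin k → ι → F)
    {W : Submodule F (ι → F)} (hw : ∀ i, w i ∈ W) (hW : ∀ u ∈ W, Q u = 0)
    (c : Fin k × Fin k → F) (s : Finset (Fin k × Fin k)) :
    ∃ g ∈ unip Q W, ∀ v, app g v =
      v + ∑ ij ∈ s, c ij • (B (w ij.1) v • w ij.2 - B (w ij.2) v • w ij.1) := by
  classical
  have hz : ∀ a ∈ W, ∀ b ∈ W, B a b = 0 := fun a ha b hb => by
    simp [QuadraticMap.polar, hW _ ha, hW _ hb, hW _ (add_mem ha hb)]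
  induction s using Finset.induction_on with
  | empty => exact ⟨1, one_mem _, fun v => by simp [app_one]⟩
  | insert ij s hij ih =>
    obtain ⟨g, hg, hgv⟩ := ih
    set E := C.eichG (w ij.1) (c ij • w ij.2) (hW _ (hw _))
      (hz _ (hw _) _ (W.smul_mem _ (hw _))) with hE
    have hEv : ∀ v, app E v =
        v + c ij • (B (w ij.1) v • w ij.2 - B (w ij.2) v • w ij.1) := fun v => by
      rw [hE, C.app_eichG, eich_mulVec, QuadraticMap.map_smul, hW _ (hw _), smul_zero, zero_mul,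
        zero_smul, sub_zero, QuadraticMap.polar_smul_left, smul_eq_mul]
      module
    have hEu : E ∈ unip Q W := by
      refine ⟨fun u hu => ?_, fun v hv => ?_⟩
      · rw [hEv, hz _ (hw _) _ hu, hz _ (hw _) _ hu]; simp
      · rw [hEv, add_sub_cancel_left]
        exact W.smul_mem _ (W.sub_mem (W.smul_mem _ (hw _)) (W.smul_mem _ (hw _)))
    refine ⟨E * g, mul_mem hEu hg, fun v => ?_⟩
    have hsum : ∑ x ∈ s, c x • (B (w x.1) v • w x.2 - B (w x.2) v • w x.1) ∈ W :=
      W.sum_mem fun x _ => W.smul_mem _ (W.sub_mem (W.smul_mem _ (hw _)) (W.smul_mem _ (hw _)))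
    rw [app_mul, hgv, app_add, hEv v, hEu.1 _ hsum, Finset.sum_insert hij]
    abel

/-- The unipotent radical of a maximal totally singular subspace is large. -/
theorem Ctx.pow_choose_le_card_unip (C : Ctx Q) {W : Submodule F (ι → F)}
    (hW : ∀ u ∈ W, Q u = 0) :
    Nat.card F ^ (∑ j ∈ Finset.range (finrank F W), j) ≤ Nat.card (unip Q W) := by
  classical
  set k := finrank F W
  let b := Module.finBasis F W
  let w : Fin k → ι → F := fun i => (b i : ι → F)
  have hwW : ∀ i, w i ∈ W := fun i => (b i).2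
  have hli : LinearIndependent F w := b.linearIndependent.map' W.subtype (Submodule.ker_subtype W)
  let φ : (ι → F) →ₗ[F] (Fin k → F) := LinearMap.pi fun i => QuadraticMap.polarBilin Q (w i)
  have hφ : Function.Surjective φ := by
    rw [← LinearMap.range_eq_top]
    refine Submodule.eq_top_of_finrank_eq ?_
    have h1 := LinearMap.finrank_range_add_finrank_ker φ
    have hker : LinearMap.ker φ ≤ perp Q W := fun v hv u hu => by
      show B u v = 0
      have hu' : u = ∑ i, b.repr ⟨u, hu⟩ i • w i := by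
        have h := congrArg (fun z : W => (z : ι → F)) (b.sum_repr ⟨u, hu⟩)
        simp only [Submodule.coe_sum, Submodule.coe_smul] at h
        exact h.symm
      rw [hu', ← QuadraticMap.polarBilin_apply_apply, map_sum, LinearMap.sum_apply]
      refine Finset.sum_eq_zero fun i _ => ?_
      have := congrFun hv i
      simp only [φ, LinearMap.pi_apply, Pi.zero_apply] at this
      rw [map_smul, LinearMap.smul_apply, this, smul_zero]
    have h2 := Submodule.finrank_mono hker
    rw [finrank_perp C.nondeg] at h2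
    have h4 := Submodule.finrank_le (LinearMap.range φ)
    have h5 := Submodule.finrank_le W
    rw [finrank_fintype_fun_eq_card] at h1 h5
    rw [Module.finrank_fin_fun] at h4 ⊢
    omega
  choose v hv using fun j : Fin k => hφ (Pi.single j 1)
  have hwv : ∀ i j, B (w i) (v j) = if i = j then 1 else 0 := fun i j => by
    have := congrFun (hv j) i
    simpa [φ, Pi.single_apply] using this
  let S : Finset (Fin k × Fin k) := Finset.univ.filter fun x => x.1 < x.2
  choose g hg hgv using fun c : (Σ j : Fin k, Fin j.val) → F =>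
    C.exists_prod_eich w hwW hW
      (fun x => if h : x.1 < x.2 then c ⟨x.2, ⟨x.1.val, h⟩⟩ else 0) S
  have hinj : Function.Injective fun c => (⟨g c, hg c⟩ : unip Q W) := by
    intro c c' e
    funext x
    obtain ⟨j, i, hi⟩ := x
    set i' : Fin k := ⟨i, hi.trans j.2⟩
    have hlt : i' < j := hi
    have key : ∀ c, B (app (g c) (v i') - v i') (v j) = c ⟨j, ⟨i, hi⟩⟩ := by
      intro c
      rw [hgv, add_sub_cancel_left, ← QuadraticMap.polarBilin_apply_apply, map_sum,
        LinearMap.sum_apply, Finset.sum_eq_single (i', j)]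
      · simp only [map_smul, map_sub, LinearMap.smul_apply, LinearMap.sub_apply, dif_pos hlt,
          QuadraticMap.polarBilin_apply_apply, hwv, if_pos, smul_eq_mul, if_neg hlt.ne', if_neg hlt.ne,
          i']
        ring
      · rintro ⟨a, b⟩ hab hne
        simp only [S, Finset.mem_filter] at hab
        simp only [map_smul, map_sub, LinearMap.smul_apply, LinearMap.sub_apply,
          QuadraticMap.polarBilin_apply_apply, hwv, smul_eq_mul]
        have h1 : ¬ (a = i' ∧ b = j) := fun h => hne (by rw [h.1, h.2])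
        have h2 : ¬ (b = i' ∧ a = j) := fun h => by
          have := hab.2
          rw [h.1, h.2] at this
          exact absurd this (not_lt.2 hlt.le)
        split_ifs <;> simp_all
      · intro h; exact absurd (by simp [S, hlt]) h
    rw [← key c, ← key c', show g c = g c' from congrArg Subtype.val e]
  have h := Nat.card_le_card_of_injective _ hinj
  rw [Nat.card_fun, Nat.card_sigma, Finset.sum_congr rfl fun j _ => Nat.card_fin _,
    Fin.sum_univ_eq_sum_range (fun j => j)] at h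
  exact h

/-- `β` carries the point `x` to the point `y`. -/
def Sends (β : MulAut (Cfsg.POmega F ⇑Q)) (x y : ι → F) : Prop := tr β (stab Q x) = stab Q y

theorem Sends.mul {β β' : MulAut (Cfsg.POmega F ⇑Q)} {x y z : ι → F} (h : Sends β' x y)
    (h' : Sends β y z) : Sends (β * β') x z := by
  rw [Sends, tr_mul, h, h']

theorem Sends.symm (C : Ctx Q) {β : MulAut (Cfsg.POmega F ⇑Q)} {x y : ι → F} (h : Sends β x y) :
    Sends β⁻¹ y x := by
  rw [Sends, ← h, tr_symm (C.center_le_stab x)]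

/-- An automorphism carries a singular point to a singular point or, in dimension eight, into the
stabiliser of a maximal totally singular subspace. -/
theorem Ctx.exists_sends_or_lag (p : ℕ) [Fact p.Prime] [CharP F p] (C : Ctx Q)
    (β : MulAut (Cfsg.POmega F ⇑Q)) {x : ι → F} (hx0 : x ≠ 0) (hx : Q x = 0) :
    (∃ y, y ≠ 0 ∧ Q y = 0 ∧ Sends β x y) ∨
    ∃ W : Submodule F (ι → F), (∀ w ∈ W, Q w = 0) ∧ perp Q W = W ∧ finrank F W ≤ 4 ∧
      tr β (stab Q x) ≤ stabSub Q W := by
  haveI := C.nonempty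
  set A := tr β (stab Q x) with hAdef
  -- a Sylow subgroup inside `A`
  obtain ⟨S, hS⟩ := C.sylow_le_stab p hx0 hx
  obtain ⟨S₁, hS₁, -, hS₁c, hS₁A⟩ := C.transfer p β S.2
  have hS₁le : S₁ ≤ A := (hS₁A _ hS).1
  let S' : Sylow p (OG Q) := Sylow.ofCard S₁ (hS₁c.trans S.card_eq_multiplicity)
  have hS'A : (S' : Subgroup (OG Q)) ≤ A := hS₁le
  -- the transported radical
  obtain ⟨K, hKp, hKmap, hKc, hKA⟩ := C.transfer p β (isPGroup_unip p (F ∙ x) (Q := Q))
  obtain ⟨hKle, hKnor⟩ := hKA _ (unip_le_stab x)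
  have hnor := hKnor fun a ha k hk => unip_normal (stab_le_stabSub x ha) hk
  have hKne : K ≠ ⊥ := fun h => C.unip_nontrivial hx0 hx (Subgroup.eq_bot_of_card_eq _ (by
    rw [← hKc, h, Subgroup.card_bot]))
  set W := fixedSub K with hW
  have hWinv : ∀ a ∈ A, ∀ w ∈ W, app a w ∈ W := by
    intro a ha w hw k hk
    have h1 := hw _ (hnor a⁻¹ (inv_mem ha) k hk)
    rw [inv_inv, app_mul, app_mul] at h1
    calc app k (app a w) = app a (app a⁻¹ (app k (app a w))) := (app_app_inv a _).symm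
      _ = app a w := by rw [h1]
  have hWsub : A ≤ stabSub Q W := fun a ha w => ⟨fun h => by
    have := hWinv _ (inv_mem ha) _ h
    rwa [app_inv_app] at this, hWinv a ha w⟩
  have hU : W ⊓ perp Q W ≠ ⊥ := by
    intro hbot
    have hP : perp Q W = ⊥ := by
      by_contra hne
      obtain ⟨v, hv, hv0, hfix⟩ := exists_fixed p hKp hne fun k hk v hv =>
        (mem_stabSub_of_perp (hWsub (hKle hk))).2 hv
      exact hv0 ((Submodule.eq_bot_iff _).1 hbot v ⟨hfix, hv⟩)
    refine hKne (Subgroup.eq_bot_iff_forall K |>.2 fun k hk => ext_app fun v => ?_)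
    rw [app_one]
    exact ((perp_bot_eq C.nondeg hP).ge (Submodule.mem_top (x := v)) : v ∈ W) k hk
  obtain ⟨y, hy0, hy, hyfix⟩ := exists_fixed_singular p C S'.2
  have hyS : unip Q (F ∙ y) ≤ (S' : Subgroup (OG Q)) :=
    unip_le_sylow p S' fun s hs => stab_le_stabSub y (mem_stab_of_eq (hyfix s hs))
  obtain ⟨P, hPy⟩ := C.exists_frame_left hy0 hy
  subst hPy
  have hyU : P.e ∈ W ⊓ perp Q W := by
    obtain ⟨v, hv, hv0, hfix⟩ := exists_fixed p S'.2 hU fun s hs v hv =>
      ⟨hWinv s (hS'A hs) v hv.1, (mem_stabSub_of_perp (hWsub (hS'A hs))).2 hv.2⟩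
    have hve := P.eq_smul_of_fixed C fun g hg => hfix g (hyS hg)
    have hne : B P.f v ≠ 0 := fun h => hv0 (by rw [hve, h, zero_smul])
    exact (Submodule.smul_mem_iff _ hne).1 (hve ▸ hv)
  let W0 : Submodule F (ι → F) :=
    { carrier := {u | u ∈ W ⊓ perp Q W ∧ Q u = 0}
      add_mem' := fun {a b} ha hb => ⟨add_mem ha.1 hb.1, by
        rw [QuadraticMap.map_add (⇑Q), ha.2, hb.2, show B a b = 0 from hb.1.2 a ha.1.1]; simp⟩
      zero_mem' := ⟨zero_mem _, QuadraticMap.map_zero Q⟩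
      smul_mem' := fun t a ha => ⟨Submodule.smul_mem _ t ha.1, by
        rw [QuadraticMap.map_smul, ha.2, smul_zero]⟩ }
  have heW0 : P.e ∈ W0 := ⟨hyU, P.qe⟩
  have hW0q : ∀ u ∈ W0, Q u = 0 := fun u hu => hu.2
  have hAW0 : A ≤ stabSub Q W0 := fun a ha u => by
    show (app a u ∈ W ⊓ perp Q W ∧ Q (app a u) = 0) ↔ (u ∈ W ⊓ perp Q W ∧ Q u = 0)
    rw [Submodule.mem_inf, Submodule.mem_inf, hWsub ha u, mem_stabSub_of_perp (hWsub ha), quad_app]
  by_cases hle : W0 ≤ F ∙ P.e
  · refine Or.inl ⟨P.e, hy0, hy, ?_⟩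
    have hAy : A ≤ stab Q P.e := fun a ha => by
      obtain ⟨t, ht⟩ := Submodule.mem_span_singleton.1 (hle ((hAW0 ha _).2 heW0))
      refine ⟨t, fun h0 => app_ne_zero a hy0 ?_, ht.symm⟩
      rw [← ht, h0, zero_smul]
    refine Subgroup.eq_of_le_of_card_ge hAy (le_of_eq ?_)
    obtain ⟨g, s, hs, hg⟩ := C.exists_move hx0 hx hy0 hy
    rw [card_tr (C.center_le_stab x), ← stab_smul hs, ← hg]
    refine Nat.card_congr ((MulAut.conj g).symm.toEquiv.subtypeEquiv fun h => ?_)
    simp only [MulEquiv.toEquiv_eq_coe, EquivLike.coe_coe, MulAut.conj_symm_apply]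
    rw [← conj_mem_stab_iff (g := g) (h := g⁻¹ * h * g)]
    simp [mul_assoc]
  refine Or.inr ?_
  by_cases h4 : perp Q W0 = W0 ∧ finrank F W0 ≤ 4
  · exact ⟨W0, hW0q, h4.1, h4.2, hAW0⟩
  exfalso
  have hW0S : unip Q W0 ≤ (S' : Subgroup (OG Q)) :=
    unip_le_sylow p S' fun s hs => hAW0 (hS'A hs)
  have hR'A : unip Q W0 ≤ A := hW0S.trans hS'A
  obtain ⟨R, hRp, hRmap, hRc, hRA⟩ := C.transfer p β⁻¹ (isPGroup_unip p W0 (Q := Q))
  obtain ⟨hRle, hRnor⟩ := hRA _ hR'A
  simp only [hAdef, tr_symm (C.center_le_stab x)] at hRle hRnor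
  have hRu := C.unip_le_frame p hx0 hx hRp hRle
    (hRnor fun a ha k hk => unip_normal (hAW0 ha) hk)
  obtain ⟨P', hP'x⟩ := C.exists_frame_left hx0 hx
  subst hP'x
  have hcomm : ∀ g ∈ unip Q W0, ∀ h ∈ unip Q W0, g * h = h * g := by
    intro g hg h hh
    refine C.injOn_mk p (isPGroup_unip p W0) (isPGroup_unip p W0) (mul_mem hg hh) (mul_mem hh hg) ?_
    have hex : ∀ g ∈ unip Q W0, ∃ r ∈ R, pr Q r = β⁻¹ (pr Q g) := fun g hg => by
      have h1 : β⁻¹ (pr Q g) ∈ R.map (pr Q) := by rw [hRmap]; exact ⟨_, ⟨g, hg, rfl⟩, rfl⟩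
      exact h1
    obtain ⟨a, ha, ea⟩ := hex g hg
    obtain ⟨b, hb, eb⟩ := hex h hh
    apply β⁻¹.injective
    rw [map_mul, map_mul, map_mul, map_mul, ← ea, ← eb, ← map_mul, ← map_mul,
      P'.unip_comm C (hRu ha) (hRu hb)]
  by_cases hlag : perp Q W0 = W0
  · -- maximal totally singular
    have h5 : 5 ≤ finrank F W0 := by
      by_contra h
      exact h4 ⟨hlag, by omega⟩
    have hn := finrank_perp C.nondeg W0
    rw [hlag] at hn
    have h1 := C.pow_choose_le_card_unip hW0q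
    have h2 := (Subgroup.card_le_of_le hRu).trans (P'.card_unip_le C)
    rw [hRc] at h2
    haveI := Fintype.ofFinite F
    have h3 := (Nat.pow_le_pow_iff_right (by rw [Nat.card_eq_fintype_card]; exact Fintype.one_lt_card)).1
      (h1.trans h2)
    have h4 := Finset.sum_range_id_mul_two (finrank F W0)
    have : finrank F W0 * (finrank F W0 - 1) > 2 * (Fintype.card ι - 2) := by
      obtain ⟨d, hd⟩ := Nat.exists_eq_add_of_le h5
      rw [hd, show 5 + d - 1 = 4 + d by omega, show Fintype.card ι - 2 = 8 + 2 * d by omega]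
      nlinarith
    omega
  -- two non-commuting elements
  have hW0le : W0 ≤ perp Q W0 := fun u hu w hw => by
    show B w u = 0
    exact hu.1.2 w hw.1.1
  obtain ⟨a, ha, ha'⟩ := SetLike.exists_of_lt (lt_of_le_of_ne hW0le (Ne.symm hlag))
  obtain ⟨b, hb, hab⟩ : ∃ b ∈ perp Q W0, B a b ≠ 0 := by
    by_contra h
    push Not at h
    refine ha' ((perp_perp C.nondeg W0).le fun u hu => ?_)
    show B u a = 0
    rw [QuadraticMap.polar_comm]
    exact h u hu
  obtain ⟨w, hwW, hwe⟩ := Set.not_subset.1 hle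
  obtain ⟨v, hv1, hv2⟩ : ∃ v, B P.e v = 1 ∧ B w v = 0 := by
    obtain ⟨v, hv, hv0⟩ : ∃ v ∈ perp Q (F ∙ w), B P.e v ≠ 0 := by
      by_contra h
      push Not at h
      have h1 : P.e ∈ perp Q (perp Q (F ∙ w)) := fun u hu => by
        show B u P.e = 0
        rw [QuadraticMap.polar_comm]
        exact h u hu
      rw [perp_perp C.nondeg, Submodule.mem_span_singleton] at h1
      obtain ⟨t, ht⟩ := h1
      have ht0 : t ≠ 0 := fun h0 => P.e_ne_zero (by rw [← ht, h0, zero_smul])
      exact hwe (Submodule.mem_span_singleton.2 ⟨t⁻¹, by rw [← ht, inv_smul_smul₀ ht0]⟩)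
    refine ⟨(B P.e v)⁻¹ • v, ?_, ?_⟩
    · rw [QuadraticMap.polar_smul_right, smul_eq_mul, inv_mul_cancel₀ hv0]
    · rw [QuadraticMap.polar_smul_right, mem_perp_span.1 hv, smul_zero]
  have hmem : ∀ (u : ι → F) (hu : u ∈ W0) (c : ι → F) (hc : c ∈ perp Q W0),
      C.eichG u c (hW0q u hu) (mem_perp.1 hc u hu) ∈ unip Q W0 := by
    intro u hu c hc
    refine ⟨fun z hz => ?_, fun z hz => ?_⟩
    · have h1 : B u z = 0 := hW0le hz u hu
      have h2 : B c z = 0 := by rw [QuadraticMap.polar_comm]; exact hc z hz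
      rw [C.app_eichG, eich_mulVec, h1, h2]
      simp
    · rw [C.app_eichG, eich_mulVec, show B u z = 0 from hz u hu]
      simpa using W0.smul_mem (B c z) hu
  have h := congrArg (fun g => app g v) (hcomm _ (hmem _ heW0 a ha) _ (hmem w hwW b hb))
  simp only [app_mul, C.app_eichG, eich_mulVec] at h
  have he : B P.e a = 0 := ha P.e heW0
  have hwa : B w a = 0 := ha w hwW
  have heb : B P.e b = 0 := hb P.e heW0
  have hwb : B w b = 0 := hb w hwW
  have hew : B P.e w = 0 := hW0le hwW P.e heW0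
  simp [QuadraticMap.polar_add_right, QuadraticMap.polar_sub_right, QuadraticMap.polar_smul_right,
    hv1, hv2, he, hwa, heb, hwb, hew, P.ee, QuadraticMap.polar_comm (⇑Q) w P.e,
    QuadraticMap.polar_comm (⇑Q) a P.e, QuadraticMap.polar_comm (⇑Q) a w,
    QuadraticMap.polar_comm (⇑Q) b P.e, QuadraticMap.polar_comm (⇑Q) b w,
    QuadraticMap.polar_comm (⇑Q) b a, polar_self', hW0q w hwW] at h
  apply hwe
  have hw0 : (B a b) • w ∈ F ∙ P.e := by
    rw [Submodule.mem_span_singleton]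
    refine ⟨0, ?_⟩
    simp only [zero_smul]
    linear_combination (norm := module) -h
  exact (Submodule.smul_mem_iff _ hab).1 hw0

/-- An automorphism carries each singular point to a singular point. -/
theorem Ctx.exists_sends (p : ℕ) [Fact p.Prime] [CharP F p] (C : Ctx Q) (hT : NoTriality Q)
    (β : MulAut (Cfsg.POmega F ⇑Q)) {x : ι → F} (hx0 : x ≠ 0) (hx : Q x = 0) :
    ∃ y, y ≠ 0 ∧ Q y = 0 ∧ Sends β x y := by
  rcases C.exists_sends_or_lag p β hx0 hx with h | ⟨W, hW, hperp, h4, -⟩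
  · exact h
  · have := hT W hW hperp
    omega

/-- `β` carries singular points to singular points. -/
def PtPres (β : MulAut (Cfsg.POmega F ⇑Q)) : Prop :=
  ∀ x, x ≠ 0 → Q x = 0 → ∃ y, y ≠ 0 ∧ Q y = 0 ∧ Sends β x y

theorem Ctx.ptPres (p : ℕ) [Fact p.Prime] [CharP F p] (C : Ctx Q) (hT : NoTriality Q)
    (β : MulAut (Cfsg.POmega F ⇑Q)) : PtPres β := fun _ hx0 hx => C.exists_sends p hT β hx0 hx

theorem PtPres.mul {β β' : MulAut (Cfsg.POmega F ⇑Q)} (h : PtPres β) (h' : PtPres β') :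
    PtPres (β * β') := fun x hx0 hx => by
  obtain ⟨y, hy0, hy, hs⟩ := h' x hx0 hx
  obtain ⟨z, hz0, hz, hs'⟩ := h y hy0 hy
  exact ⟨z, hz0, hz, hs.mul hs'⟩

theorem Sends.unique (p : ℕ) [Fact p.Prime] [CharP F p] (C : Ctx Q)
    {β : MulAut (Cfsg.POmega F ⇑Q)} {x y z : ι → F} (hy0 : y ≠ 0) (hy : Q y = 0)
    (h : Sends β x y) (h' : Sends β x z) : ∃ t : F, z = t • y :=
  C.span_eq_of_stab_le p hy0 hy (le_of_eq (Eq.trans (Eq.symm h) h'))

end CfsgLib.AutPOmega
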