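import Cfsg.Agent.AutPOmega.BaseChange

/-!
# Proper similitudes in even dimension

`det g = c^{n/2}` in odd characteristic, scalar times `Ω` in characteristic two.
-/

set_option autoImplicit false
set_option linter.unusedSectionVars false
set_option linter.style.haveILetI false

namespace CfsgLib.AutPOmega

open Matrix Module CfsgLib.Spinor CfsgLib.Forms CfsgLib.Forms4

variable {F : Type*} [Field F] [Finite F] {ι : Type} [Fintype ι] [DecidableEq ι]
  {Q : QuadraticForm F (ι → F)}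

/-- `g` multiplies the form by `c`. -/
def HasMult (Q : QuadraticForm F (ι → F)) (g : GL ι F) (c : Fˣ) : Prop :=
  ∀ v, Q ((g : Matrix ι ι F) *ᵥ v) = (c : F) * Q v

theorem HasMult.one : HasMult Q 1 1 := fun v => by simp

theorem HasMult.mul {g h : GL ι F} {c d : Fˣ} (hg : HasMult Q g c) (hh : HasMult Q h d) :
    HasMult Q (g * h) (c * d) := fun v => by
  rw [Units.val_mul, ← Matrix.mulVec_mulVec, hg, hh, Units.val_mul, mul_assoc]

theorem HasMult.inv {g : GL ι F} {c : Fˣ} (hg : HasMult Q g c) : HasMult Q g⁻¹ c⁻¹ := fun v => by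
  have h := hg (((g⁻¹ : GL ι F) : Matrix ι ι F) *ᵥ v)
  rw [Matrix.mulVec_mulVec, ← Units.val_mul, mul_inv_cancel, Units.val_one, Matrix.one_mulVec] at h
  rw [h, ← mul_assoc, ← Units.val_mul, inv_mul_cancel, Units.val_one, one_mul]

theorem scalar_mulVec (u : Fˣ) (v : ι → F) :
    ((Matrix.GeneralLinearGroup.scalar ι u : GL ι F) : Matrix ι ι F) *ᵥ v = (u : F) • v :=
  funext fun i => by simp [Matrix.mulVec_diagonal]

theorem HasMult.scalar (u : Fˣ) :
    HasMult Q (Matrix.GeneralLinearGroup.scalar ι u) (u * u) := fun v => by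
  rw [scalar_mulVec, QuadraticMap.map_smul, smul_eq_mul, Units.val_mul]

theorem HasMult.isometry (k : ↥(Cfsg.isometryGroup F ⇑Q)) : HasMult Q k.1 1 := fun v => by
  rw [Units.val_one, one_mul]; exact quad_mulVec Q k v

theorem HasMult.mem_isometry {g : GL ι F} (hg : HasMult Q g 1) :
    g ∈ Cfsg.isometryGroup F ⇑Q := fun v _ => by
  have := hg v
  rwa [Units.val_one, one_mul] at this

theorem Ctx.exists_value_one (C : Ctx Q) : ∃ v, Q v = 1 := by
  obtain ⟨P⟩ := C.pairs
  exact ⟨P.e + P.f, by rw [QuadraticMap.map_add (⇑Q), P.qe, P.qf, P.ef, add_zero, zero_add]⟩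

theorem HasMult.unique (hv : ∃ v, Q v = 1) {g : GL ι F} {c d : Fˣ} (hc : HasMult Q g c)
    (hd : HasMult Q g d) : c = d := by
  obtain ⟨v, hv⟩ := hv
  exact Units.ext (by simpa [hv] using (hc v).symm.trans (hd v))

theorem scalar_commute (u : Fˣ) (g : GL ι F) :
    Commute (Matrix.GeneralLinearGroup.scalar ι u) g := by
  have hc : Matrix.GeneralLinearGroup.scalar ι u ∈ Subgroup.center (GL ι F) := by
    rw [Matrix.GeneralLinearGroup.center_eq_range_scalar]; exact ⟨u, rfl⟩
  exact (Subgroup.mem_center_iff.1 hc g).symm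

theorem det_scalar (u : Fˣ) :
    ((Matrix.GeneralLinearGroup.scalar ι u : GL ι F) : Matrix ι ι F).det = (u : F) ^ Fintype.card ι := by
  rw [show ((Matrix.GeneralLinearGroup.scalar ι u : GL ι F) : Matrix ι ι F) =
    Matrix.diagonal fun _ => (u : F) from rfl, Matrix.det_diagonal, Finset.prod_const, Finset.card_univ]

/-- The square of the determinant of a similitude. -/
theorem HasMult.det_sq (hQ : (QuadraticMap.polarBilin Q).Nondegenerate) {g : GL ι F} {c : Fˣ}
    (hg : HasMult Q g c) : (g : Matrix ι ι F).det ^ 2 = (c : F) ^ Fintype.card ι := by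
  obtain ⟨M, hM⟩ : ∃ M, M = LinearMap.toMatrix₂' F (QuadraticMap.polarBilin Q) := ⟨_, rfl⟩
  have hd : M.det ≠ 0 := by
    rw [hM]
    exact (LinearMap.nondegenerate_iff_det_ne_zero (Pi.basisFun F ι)).1 hQ
  have hcomp : (QuadraticMap.polarBilin Q).compl₁₂ (Matrix.toLin' (g : Matrix ι ι F))
      (Matrix.toLin' (g : Matrix ι ι F)) = (c : F) • QuadraticMap.polarBilin Q := by
    refine LinearMap.ext₂ fun x y => ?_
    rw [LinearMap.compl₁₂_apply, LinearMap.smul_apply, LinearMap.smul_apply, Matrix.toLin'_apply,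
      Matrix.toLin'_apply, QuadraticMap.polarBilin_apply_apply, QuadraticMap.polarBilin_apply_apply,
      QuadraticMap.polar, ← Matrix.mulVec_add, hg, hg, hg, QuadraticMap.polar, smul_eq_mul]
    ring
  have h := congrArg (LinearMap.toMatrix₂' F) hcomp
  rw [LinearMap.toMatrix₂'_compl₁₂, LinearMap.toMatrix'_toLin', map_smul, ← hM] at h
  have h' := congrArg Matrix.det h
  rw [det_mul, det_mul, det_transpose, det_smul] at h'
  exact mul_right_cancel₀ hd (by linear_combination h')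

/-- Proper similitudes. -/
def Proper (Q : QuadraticForm F (ι → F)) (g : GL ι F) : Prop :=
  ∃ c : Fˣ, HasMult Q g c ∧
    ((2 : F) ≠ 0 → (g : Matrix ι ι F).det = (c : F) ^ (Fintype.card ι / 2)) ∧
    ((2 : F) = 0 → ∃ (s : Fˣ) (h : ↥(Cfsg.isometryGroup F ⇑Q)), h ∈ Cfsg.Omega F ⇑Q ∧
      g = Matrix.GeneralLinearGroup.scalar ι s * h.1)

/-- The group of proper similitudes. -/
def GP (Q : QuadraticForm F (ι → F)) : Subgroup (GO Q) where
  carrier := {g | Proper Q g.1}
  one_mem' := ⟨1, HasMult.one, fun _ => by simp, fun _ => ⟨1, 1, one_mem _, by simp⟩⟩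
  mul_mem' := by
    rintro a b ⟨c, hc, hd, hs⟩ ⟨c', hc', hd', hs'⟩
    refine ⟨c * c', hc.mul hc', fun h2 => ?_, fun h2 => ?_⟩
    · rw [Subgroup.coe_mul, Units.val_mul, det_mul, hd h2, hd' h2, Units.val_mul, mul_pow]
    · obtain ⟨s, h, hh, e⟩ := hs h2
      obtain ⟨s', h', hh', e'⟩ := hs' h2
      refine ⟨s * s', h * h', mul_mem hh hh', ?_⟩
      rw [Subgroup.coe_mul, e, e', map_mul, Subgroup.coe_mul,
        mul_assoc, ← mul_assoc h.1, ← (scalar_commute s' h.1).eq]
      simp only [mul_assoc]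
  inv_mem' := by
    rintro a ⟨c, hc, hd, hs⟩
    refine ⟨c⁻¹, hc.inv, fun h2 => ?_, fun h2 => ?_⟩
    · rw [Subgroup.coe_inv, Matrix.coe_units_inv, Matrix.det_nonsing_inv, hd h2, Ring.inverse_eq_inv',
        Units.val_inv_eq_inv_val, inv_pow]
    · obtain ⟨s, h, hh, e⟩ := hs h2
      refine ⟨s⁻¹, h⁻¹, inv_mem hh, ?_⟩
      rw [Subgroup.coe_inv, e, _root_.mul_inv_rev, ← map_inv, Subgroup.coe_inv,
        (scalar_commute s⁻¹ h.1⁻¹).eq]

theorem mem_GP_iff {g : GO Q} : g ∈ GP Q ↔ Proper Q g.1 := Iff.rfl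

theorem proper_scalar (hev : Even (Fintype.card ι)) (u : Fˣ) :
    Proper Q (Matrix.GeneralLinearGroup.scalar ι u) := by
  refine ⟨u * u, HasMult.scalar u, fun _ => ?_, fun _ => ⟨u, 1, one_mem _, by simp⟩⟩
  obtain ⟨k, hk⟩ := hev
  rw [det_scalar, hk, Units.val_mul, mul_pow, ← pow_add]
  congr 1
  omega

theorem proper_omega (k : OG Q) : Proper Q k.1.1 := by
  refine ⟨1, HasMult.isometry k.1, fun _ => ?_, fun _ => ⟨1, k.1, k.2, by rw [map_one, one_mul]⟩⟩
  rw [Units.val_one, one_pow]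
  exact (mem_special_iff k.1).1 (omega_le_special k.2)

/-- For isometries: determinant one, or membership of `Ω`. -/
theorem proper_isometry_iff (hv : ∃ v, Q v = 1) (k : ↥(Cfsg.isometryGroup F ⇑Q)) :
    Proper Q k.1 ↔ ((2 : F) ≠ 0 → (mat Q k).det = 1) ∧ ((2 : F) = 0 → k ∈ Cfsg.Omega F ⇑Q) := by
  constructor
  · rintro ⟨c, hc, hd, hs⟩
    obtain rfl := hc.unique hv (HasMult.isometry k)
    refine ⟨fun h2 => by rw [show (mat Q k).det = _ from hd h2, Units.val_one, one_pow], fun h2 => ?_⟩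
    obtain ⟨s, h, hh, e⟩ := hs h2
    have hs2 : s * s = 1 := by
      have h1 : HasMult Q k.1 (s * s * 1) := e ▸ (HasMult.scalar s).mul (HasMult.isometry h)
      have := h1.unique hv (HasMult.isometry k)
      rwa [mul_one] at this
    have hs1 : s = 1 := Units.ext (by
      haveI : CharP F 2 := CharTwo.of_one_ne_zero_of_two_eq_zero one_ne_zero h2
      rw [Units.ext_iff, Units.val_mul, Units.val_one] at hs2
      exact CharTwo.sq_injective (by simpa [pow_two] using hs2))
    rw [hs1, map_one, one_mul] at e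
    rwa [show k = h from Subtype.ext e]
  · rintro ⟨h1, h2⟩
    exact ⟨1, HasMult.isometry k, fun h => by rw [Units.val_one, one_pow]; exact h1 h,
      fun h => ⟨1, k, h2 h, by rw [map_one, one_mul]⟩⟩

/-- Reflections are improper. -/
theorem Ctx.not_proper_reflIso (C : Ctx Q) (v : ι → F) (hv : Q v ≠ 0) :
    ¬ Proper Q (reflIso Q v hv).1 := by
  rw [proper_isometry_iff C.exists_value_one]
  rintro ⟨hd, hs⟩
  haveI := Fintype.ofFinite F
  by_cases h2 : (2 : F) = 0
  · have hexc : Nat.card F ≠ 2 ∨ Fintype.card ι ≠ 4 := Or.inr (by have := C.card_ge; omega)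
    have := ((OmegaOrbits.mem_omega_iff_even C.nondeg hexc (IsReflProd.reflIso v hv)).1 (hs h2)).1
    simp at this
  · have := hd h2
    rw [det_reflIso] at this
    exact h2 (by linear_combination -this)

/-- An improper similitude times a reflection is proper. -/
theorem Ctx.proper_mul_reflIso (C : Ctx Q) (hev : Even (Fintype.card ι)) {g : GL ι F} (hg : g ∈ GO Q)
    (hn : ¬ Proper Q g) (v : ι → F) (hv : Q v ≠ 0) : Proper Q (g * (reflIso Q v hv).1) := by
  haveI := Fintype.ofFinite F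
  obtain ⟨c, hc⟩ := hg
  have hc : HasMult Q g c := hc
  refine ⟨c, ?_, fun h2 => ?_, fun h2 => ?_⟩
  · simpa using hc.mul (HasMult.isometry (reflIso Q v hv))
  · rw [Units.val_mul, det_mul]
    obtain ⟨k, hk⟩ := hev
    have h := hc.det_sq C.nondeg
    rw [hk, show (c : F) ^ (k + k) = ((c : F) ^ k) ^ 2 by rw [← pow_mul]; ring_nf] at h
    rw [hk, show (k + k) / 2 = k by omega]
    rcases sq_eq_sq_iff_eq_or_eq_neg.1 h with h | h
    · exact absurd ⟨c, hc, fun _ => by rw [hk, show (k + k) / 2 = k by omega]; exact h,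
        fun h' => absurd h' h2⟩ hn
    · rw [h, show ((reflIso Q v hv).1 : Matrix ι ι F).det = -1 from det_reflIso v hv]
      ring
  · haveI : CharP F 2 := CharTwo.of_one_ne_zero_of_two_eq_zero one_ne_zero h2
    obtain ⟨s, hs⟩ := FiniteField.isSquare_of_char_two (ringChar.eq F 2) (c : F)
    have hs0 : s ≠ 0 := fun h => c.ne_zero (by rw [hs, h, mul_zero])
    set u : Fˣ := Units.mk0 s hs0 with hu
    have hcu : u * u = c := Units.ext (by simp [hu, hs])
    have h1 : HasMult Q ((Matrix.GeneralLinearGroup.scalar ι u)⁻¹ * g) 1 := by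
      have := (HasMult.scalar (Q := Q) u).inv.mul hc
      rwa [hcu, inv_mul_cancel] at this
    set h : ↥(Cfsg.isometryGroup F ⇑Q) := ⟨_, h1.mem_isometry⟩ with hh
    have hgh : g = Matrix.GeneralLinearGroup.scalar ι u * h.1 := by
      rw [hh, mul_inv_cancel_left]
    have hexc : Nat.card F ≠ 2 ∨ Fintype.card ι ≠ 4 := Or.inr (by have := C.card_ge; omega)
    refine ⟨u, h * reflIso Q v hv, ?_, by rw [hgh, Subgroup.coe_mul, mul_assoc]⟩
    obtain ⟨vs, hvs⟩ := exists_isReflProd_finite C.nondeg hexc h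
    have hodd : ¬ Even vs.length := fun he => hn ⟨c, hc, fun h' => absurd h2 h', fun _ =>
      ⟨u, h, (OmegaOrbits.mem_omega_iff_even C.nondeg hexc hvs).2
        ⟨he, FiniteField.isSquare_of_char_two (ringChar.eq F 2) _⟩, hgh⟩⟩
    refine (OmegaOrbits.mem_omega_iff_even C.nondeg hexc (hvs.mul (IsReflProd.reflIso v hv))).2
      ⟨?_, FiniteField.isSquare_of_char_two (ringChar.eq F 2) _⟩
    rw [List.length_append, List.length_singleton, Nat.even_add_one]
    exact hodd

theorem proper_of_mul_scalar (hev : Even (Fintype.card ι)) {g : GL ι F} (hg : g ∈ GO Q) (u : Fˣ) :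
    Proper Q (Matrix.GeneralLinearGroup.scalar ι u * g) ↔ Proper Q g := by
  have hu : (⟨_, scalar_mem_GO u⟩ : GO Q) ∈ GP Q := proper_scalar hev u
  have h := Subgroup.mul_mem_cancel_left (GP Q) (y := (⟨g, hg⟩ : GO Q)) hu
  rw [mem_GP_iff, mem_GP_iff, Subgroup.coe_mul] at h
  exact h

/-- Semisimilarities preserve properness. -/
theorem Semi.proper_mapGL (S : Semi Q) {a : GL ι F} (ha : Proper Q a) : Proper Q (S.mapGL a) := by
  obtain ⟨c, hc, hd, hs⟩ := ha
  refine ⟨Units.map (S.σ : F →* F) c, fun v => ?_, fun h2 => ?_, fun h2 => ?_⟩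
  · obtain ⟨w, rfl⟩ := S.fn_surjective v
    rw [S.mapGL_mulVec, Semi.fn, Semi.fn, S.quad, S.quad, hc, map_mul]
    simp only [Units.coe_map, MonoidHom.coe_coe]
    ring
  · rw [S.mapGL_val, Matrix.det_units_conj, Units.coe_map, MonoidHom.coe_coe, ← map_pow, ← hd h2]
    exact ((S.σ : F →+* F).map_det _).symm
  · obtain ⟨s, h, hh, e⟩ := hs h2
    refine ⟨Units.map (S.σ : F →* F) s, S.isoMap h, S.isoMap_mem hh, ?_⟩
    rw [e, map_mul]
    congr 1
    show S.g * CfsgLib.AutPSL.mapGL S.σ (Matrix.GeneralLinearGroup.scalar ι s) * S.g⁻¹ = _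
    have hmap : CfsgLib.AutPSL.mapGL S.σ (Matrix.GeneralLinearGroup.scalar ι s) =
        Matrix.GeneralLinearGroup.scalar ι (Units.map (S.σ : F →* F) s) := by
      refine Units.ext ?_
      ext i j
      by_cases hij : i = j <;> simp [hij]
    rw [hmap, ← (scalar_commute _ S.g).eq, mul_inv_cancel_right]

theorem Rat.proper_map {σ : F ≃+* F} (h : Rat Q σ) {a : GL ι F} (ha : Proper Q a) :
    Proper Q (CfsgLib.AutPSL.mapGL σ a) := by
  have := h.semi.proper_mapGL ha
  have e : h.semi.mapGL a = CfsgLib.AutPSL.mapGL σ a := by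
    show 1 * CfsgLib.AutPSL.mapGL σ a * 1⁻¹ = _
    rw [one_mul, inv_one, mul_one]
  rwa [e] at this

/-- Properness survives extension of scalars. -/
theorem IsExt.proper_map {K : Type*} [Field K] [Finite K] {e : K →+* F}
    {Q₀ : QuadraticForm K (ι → K)} (h : IsExt e Q₀ Q) {g : GL ι K} (hg : Proper Q₀ g) :
    Proper Q (Matrix.GeneralLinearGroup.map e g) := by
  obtain ⟨c, hc, hd, hs⟩ := hg
  refine ⟨Units.map (e : K →* F) c, fun v => h.hasMult hc v, fun h2 => ?_, fun h2 => ?_⟩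
  · rw [show (Matrix.GeneralLinearGroup.map e g : GL ι F).1 = e.mapMatrix g.1 from rfl, ← RingHom.map_det,
      hd (fun h0 => h2 (by rw [← map_ofNat e 2, h0, map_zero])), map_pow]
    rfl
  · obtain ⟨s, k, hk, e'⟩ := hs (e.injective (by rw [map_ofNat, h2, map_zero]))
    refine ⟨Units.map (e : K →* F) s, h.isoHom k, h.isoHom_omega hk, ?_⟩
    rw [e', map_mul]
    congr 1
    refine Units.ext ?_
    ext i j
    by_cases hij : i = j <;> simp [hij]

/-- In even dimension the image of the proper similitudes is normal. -/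
theorem conj_mem_map_GP (S : Semi Q) {δ : MulAut (Cfsg.POmega F ⇑Q)} (hδ : δ ∈ (GP Q).map sim) :
    S.aut * δ * S.aut⁻¹ ∈ (GP Q).map sim := by
  obtain ⟨a, ha, rfl⟩ := hδ
  exact ⟨⟨_, S.mapGL_mem_GO a⟩, S.proper_mapGL ha,
    by rw [Semi.aut_mul_sim, mul_inv_cancel_right]⟩

end CfsgLib.AutPOmega
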