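import Cfsg.Agent.AutPOmega.Semi

/-!
# Root groups and perpendicularity of points under automorphisms of `PΩ(Q)`
-/

set_option autoImplicit false
set_option linter.unusedSectionVars false
set_option linter.style.haveILetI false

namespace CfsgLib.AutPOmega

open Matrix Module CfsgLib.Spinor CfsgLib.Forms CfsgLib.Forms4

variable {F : Type*} [Field F] [Finite F] {ι : Type} [Fintype ι] [DecidableEq ι]
  {Q : QuadraticForm F (ι → F)} {β : MulAut (Cfsg.POmega F ⇑Q)}

set_option quotPrecheck false in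
local notation "B" => QuadraticMap.polar (DFunLike.coe Q)

theorem sends_smul_right {x y : ι → F} {t : F} (ht : t ≠ 0) (h : Sends β x y) :
    Sends β x (t • y) := by rw [Sends, stab_smul ht]; exact h

theorem Ctx.eichG_mem_unip' (C : Ctx Q) {x w : ι → F} (hx : Q x = 0) (hxw : B x w = 0) :
    C.eichG x w hx hxw ∈ unip Q (F ∙ x) := by
  refine ⟨fun v hv => ?_, fun v hv => ?_⟩
  · obtain ⟨s, rfl⟩ := Submodule.mem_span_singleton.1 hv
    rw [app_smul, C.app_eichG, eich_mulVec_left hx hxw]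
  · rw [mem_perp_span] at hv
    rw [C.app_eichG, eich_mulVec, hv, Submodule.mem_span_singleton]
    exact ⟨-B w v, by simp⟩

/-- An automorphism carries the radical of a point into that of the image point. -/
theorem Ctx.pr_unip (p : ℕ) [Fact p.Prime] [CharP F p] (C : Ctx Q) {x y : ι → F} (hy0 : y ≠ 0)
    (hy : Q y = 0) (hs : Sends β x y) {u : OG Q} (hu : u ∈ unip Q (F ∙ x)) :
    ∃ u' ∈ unip Q (F ∙ y), β (pr Q u) = pr Q u' := by
  haveI := C.nonempty
  obtain ⟨R, hRp, hRmap, -, hRA⟩ := C.transfer p β (isPGroup_unip p (F ∙ x) (Q := Q))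
  obtain ⟨hle, hnor⟩ := hRA _ (unip_le_stab x)
  have hnor' := hnor fun a ha k hk => unip_normal (stab_le_stabSub x ha) hk
  rw [show tr β (stab Q x) = stab Q y from hs] at hle hnor'
  obtain ⟨r, hr, e⟩ : β (pr Q u) ∈ R.map (pr Q) := by rw [hRmap]; exact ⟨_, ⟨u, hu, rfl⟩, rfl⟩
  exact ⟨r, C.unip_le_frame p hy0 hy hRp hle hnor' hr, e.symm⟩

theorem Ctx.eq_smul_of_sends (p : ℕ) [Fact p.Prime] [CharP F p] (C : Ctx Q) {x y x' : ι → F}
    (hx0 : x ≠ 0) (hx : Q x = 0) (h : Sends β x x') (h' : Sends β y x') : ∃ t : F, y = t • x := by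
  have e : stab Q x = stab Q y := by
    rw [← tr_symm (β := β) (C.center_le_stab x), ← tr_symm (β := β) (C.center_le_stab y),
      Eq.trans h (Eq.symm h')]
  exact C.span_eq_of_stab_le p hx0 hx e.le

/-- An automorphism preserves perpendicularity of points. -/
theorem Ctx.perp_of_sends (p : ℕ) [Fact p.Prime] [CharP F p] (C : Ctx Q) {x y x' y' : ι → F}
    (hx0 : x ≠ 0) (hx : Q x = 0) (hx'0 : x' ≠ 0) (hx' : Q x' = 0) (hy0 : y ≠ 0) (hy : Q y = 0)
    (hy'0 : y' ≠ 0) (hy' : Q y' = 0) (h : Sends β x x') (h' : Sends β y y') (hxy : B x y = 0) :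
    B x' y' = 0 := by
  haveI := C.nonempty
  by_cases hsp : y ∈ F ∙ x
  · obtain ⟨t, rfl⟩ := Submodule.mem_span_singleton.1 hsp
    have ht : t ≠ 0 := fun h0 => hy0 (by rw [h0, zero_smul])
    rw [Sends, stab_smul ht] at h'
    obtain ⟨s, rfl⟩ := Sends.unique p C hx'0 hx' h h'
    rw [QuadraticMap.polar_smul_right, polar_self', hx', mul_zero, smul_zero]
  set u := C.eichG x y hx hxy with hu
  have hux : u ∈ unip Q (F ∙ x) := C.eichG_mem_unip' hx hxy
  have huy : u ∈ stab Q y := mem_stab_of_eq (by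
    rw [hu, C.app_eichG, eich_mulVec, hxy, polar_self', hy]
    simp)
  have hu1 : u ≠ 1 := by
    intro h1
    obtain ⟨v, hv⟩ : ∃ v, B x v ≠ 0 := by
      by_contra hc
      push Not at hc
      exact hx0 (C.nondeg.1 x hc)
    have e := congrArg (fun g => app g v) h1
    simp only [app_one, hu, C.app_eichG, eich_mulVec, hy, zero_mul, zero_smul, sub_zero,
      add_eq_left, sub_eq_zero] at e
    exact hsp (Submodule.mem_span_singleton.2
      ⟨(B x v)⁻¹ * B y v, by rw [mul_smul, ← e, inv_smul_smul₀ hv]⟩)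
  obtain ⟨u', hu', e⟩ := C.pr_unip p hx'0 hx' h hux
  have hu'y : u' ∈ stab Q y' := by
    rw [← show tr β (stab Q y) = stab Q y' from h', mem_tr_iff]
    exact ⟨u, huy, e⟩
  have hu'1 : u' ≠ 1 := fun h1 => hu1 (by
    rw [h1, map_one, map_eq_one_iff _ β.injective] at e
    exact C.injOn_mk p (isPGroup_unip p _) (isPGroup_unip p _) hux (one_mem (unip Q (F ∙ x)))
      (by rw [e, map_one]))
  by_contra hne
  obtain ⟨P, hPe, hPf⟩ := C.exists_frame hx' (y := (B x' y')⁻¹ • y')
    (by rw [QuadraticMap.map_smul, hy', smul_zero])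
    (by rw [QuadraticMap.polar_smul_right, smul_eq_mul, inv_mul_cancel₀ hne])
  rw [← hPe] at hu'
  rw [← stab_smul (inv_ne_zero hne), ← hPf] at hu'y
  obtain ⟨a, ha, rfl⟩ := P.exists_eichG C hu'
  obtain ⟨t, -, ht⟩ := hu'y
  rw [P.app_eichG_f C ha] at ht
  have h1 := congrArg (B P.f) ht
  have h2 := congrArg (B P.e) ht
  simp only [QuadraticMap.polar_add_right, QuadraticMap.polar_smul_right, P.fe, P.ff, P.ee, P.ef,
    ha.1, ha.2, smul_eq_mul, mul_one, mul_zero, add_zero, zero_add] at h1 h2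
  rw [h1, zero_smul, zero_add, ← h2, one_smul, add_eq_left] at ht
  subst ht
  exact hu'1 (Subtype.ext (mat_ext Q (eich_zero P.e)))

namespace ThreePairs

variable (P : ThreePairs Q)

theorem proj_add (u v : ι → F) : P.proj (u + v) = P.proj u + P.proj v := by
  simp only [TwoPairs.proj, QuadraticMap.polar_add_right]; module

theorem proj_smul (t : F) (v : ι → F) : P.proj (t • v) = t • P.proj v := by
  simp only [TwoPairs.proj, QuadraticMap.polar_smul_right, smul_eq_mul]; module

theorem proj_of_inW {z : ι → F} (h : P.InW z) : P.proj z = z := by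
  simp [TwoPairs.proj, h.1, h.2]

theorem proj_e : P.proj P.e = 0 := by
  simp [TwoPairs.proj, P.fe, P.ee]

theorem proj_f : P.proj P.f = 0 := by
  simp [TwoPairs.proj, P.ef, P.ff]

/-- The element of the radical of `e` attached to the component of `v` perpendicular to `e, f`. -/
def rootE (C : Ctx Q) (v : ι → F) : OG Q := C.eichG P.e (P.proj v) P.qe (P.inW_proj v).1

theorem rootE_mem (C : Ctx Q) (v : ι → F) : P.rootE C v ∈ unip Q (F ∙ P.e) :=
  P.eichG_mem_unip C _

theorem rootE_add (C : Ctx Q) (u v : ι → F) :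
    P.rootE C (u + v) = P.rootE C u * P.rootE C v := by
  rw [rootE, rootE, rootE, P.eichG_mul C (P.inW_proj u).1 (P.inW_proj v).1
    (P.inW_add (P.inW_proj u) (P.inW_proj v)).1]
  congr 1
  exact P.proj_add u v

theorem app_rootE (C : Ctx Q) (v : ι → F) (α μ : F) {z : ι → F} (hz : P.InW z) :
    app (P.rootE C v) (α • P.e + μ • P.f + z) =
      (α - B (P.proj v) z - Q (P.proj v) * μ) • P.e + μ • P.f + (z + μ • P.proj v) :=
  P.eich_e_apply α μ hz (P.inW_proj v)

theorem rootE_eq (C : Ctx Q) {u v : ι → F} (h : P.rootE C u = P.rootE C v) :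
    P.proj u = P.proj v := P.eichG_inj C (P.inW_proj u) (P.inW_proj v) h

theorem exists_rootE (C : Ctx Q) {g : OG Q} (hg : g ∈ unip Q (F ∙ P.e)) :
    ∃ a, P.InW a ∧ g = P.rootE C a := by
  obtain ⟨a, ha, rfl⟩ := P.exists_eichG C hg
  refine ⟨a, ha, ?_⟩
  rw [rootE]
  congr 1
  exact (P.proj_of_inW ha).symm

theorem rootE_mem_unip_of_smul (C : Ctx Q) {y : ι → F} (hy : P.InW y) (hy1 : Q y = 0) (t : F) :
    P.rootE C (t • y) ∈ unip Q (F ∙ y) := by
  have hp : P.proj (t • y) = t • y := P.proj_of_inW (P.inW_smul hy t)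
  refine ⟨fun w hw => ?_, fun w hw => ?_⟩
  · obtain ⟨s, rfl⟩ := Submodule.mem_span_singleton.1 hw
    rw [app_smul, rootE, C.app_eichG, eich_mulVec, hp, hy.1, QuadraticMap.polar_smul_left,
      polar_self', hy1]
    simp
  · rw [mem_perp_span] at hw
    rw [rootE, C.app_eichG, eich_mulVec, hp, QuadraticMap.polar_smul_left, hw,
      QuadraticMap.map_smul, hy1, Submodule.mem_span_singleton]
    exact ⟨B P.e w * t, by simp [mul_smul]⟩

theorem eq_smul_of_rootE_mem (C : Ctx Q) {a y : ι → F} (ha : P.InW a) (hy : P.InW y)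
    (h : P.rootE C a ∈ unip Q (F ∙ y)) : ∃ s : F, a = s • y := by
  have hf : P.f ∈ perp Q (F ∙ y) := by
    rw [mem_perp_span, QuadraticMap.polar_comm]; exact hy.2
  obtain ⟨s, hs⟩ := Submodule.mem_span_singleton.1 (h.2 _ hf)
  have hp := P.proj_of_inW ha
  have e : app (P.rootE C a) P.f = (-Q a) • P.e + P.f + a := by
    have := P.app_eichG_f C ha
    simpa only [rootE, hp] using this
  rw [e, show (-Q a) • P.e + P.f + a - P.f = (-Q a) • P.e + a by abel] at hs
  have h1 := congrArg (B P.f) hs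
  simp only [QuadraticMap.polar_add_right, QuadraticMap.polar_smul_right, P.fe, ha.2, hy.2,
    smul_eq_mul, mul_zero, mul_one, add_zero] at h1
  rw [← h1, zero_smul, zero_add] at hs
  exact ⟨s, hs.symm⟩

end ThreePairs

end CfsgLib.AutPOmega
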