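import Cfsg.Agent.AutPOmega.Points
import Cfsg.Prelude.Def_LieTypeDatum
import Mathlib.LinearAlgebra.Matrix.GeneralLinearGroup.Defs

/-!
# Automorphisms of `PΩ(Q)` induced by semisimilarities and by inner elements
-/

set_option autoImplicit false
set_option linter.unusedSectionVars false

namespace CfsgLib.AutPOmega

open Matrix Module CfsgLib.Spinor CfsgLib.Forms CfsgLib.Forms4

variable {F : Type*} [Field F] [Finite F] {ι : Type} [Fintype ι] [DecidableEq ι]
  {Q : QuadraticForm F (ι → F)}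

/-- A semisimilarity of `Q`. -/
structure Semi (Q : QuadraticForm F (ι → F)) where
  /-- the linear part -/
  g : GL ι F
  /-- the field automorphism -/
  σ : F ≃+* F
  /-- the multiplier -/
  c : Fˣ
  quad : ∀ v : ι → F, Q ((g : Matrix ι ι F) *ᵥ (fun i => σ (v i))) = (c : F) * σ (Q v)

namespace Semi

variable (S : Semi Q)

/-- The semilinear map. -/
def fn (v : ι → F) : ι → F := (S.g : Matrix ι ι F) *ᵥ (fun i => S.σ (v i))

theorem fn_smul (t : F) (v : ι → F) : S.fn (t • v) = S.σ t • S.fn v := by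
  simp only [fn, Pi.smul_apply, smul_eq_mul, map_mul]
  exact Matrix.mulVec_smul _ (S.σ t) (fun i => S.σ (v i))

theorem fn_surjective : Function.Surjective S.fn := fun w =>
  ⟨fun i => S.σ.symm ((((S.g⁻¹ : GL ι F) : Matrix ι ι F) *ᵥ w) i), by
    simp only [fn, RingEquiv.apply_symm_apply]
    rw [Matrix.mulVec_mulVec, ← Units.val_mul, mul_inv_cancel, Units.val_one, Matrix.one_mulVec]⟩

theorem fn_injective : Function.Injective S.fn :=
  Finite.injective_iff_surjective.2 S.fn_surjective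

/-- The action on matrices. -/
def mapGL : GL ι F →* GL ι F :=
  (MulAut.conj S.g).toMonoidHom.comp (Matrix.GeneralLinearGroup.map (n := ι) (S.σ : F →+* F))

theorem mapGL_val (h : GL ι F) : ((S.mapGL h : GL ι F) : Matrix ι ι F) =
    (S.g : Matrix ι ι F) * (h : Matrix ι ι F).map S.σ * ((S.g⁻¹ : GL ι F) : Matrix ι ι F) := rfl

theorem mapGL_mulVec (h : GL ι F) (v : ι → F) :
    ((S.mapGL h : GL ι F) : Matrix ι ι F) *ᵥ S.fn v = S.fn ((h : Matrix ι ι F) *ᵥ v) := by
  rw [mapGL_val, fn, fn, Matrix.mulVec_mulVec, mul_assoc _ _ (S.g : Matrix ι ι F), ← Units.val_mul,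
    inv_mul_cancel, Units.val_one, mul_one, ← Matrix.mulVec_mulVec]
  congr 1
  funext i
  exact ((S.σ : F →+* F).map_mulVec (h : Matrix ι ι F) v i).symm

theorem mapGL_injective : Function.Injective S.mapGL := by
  refine (injective_iff_map_eq_one _).2 fun h hh => Units.ext (Matrix.ext_iff_mulVec.2 fun v => ?_)
  have e := S.mapGL_mulVec h v
  rw [hh, Units.val_one, Matrix.one_mulVec] at e
  rw [Units.val_one, Matrix.one_mulVec]
  exact (S.fn_injective e).symm

theorem mapGL_mem {h : GL ι F} (hh : h ∈ Cfsg.isometryGroup F ⇑Q) :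
    S.mapGL h ∈ Cfsg.isometryGroup F ⇑Q := by
  intro u _
  obtain ⟨v, rfl⟩ := S.fn_surjective u
  show Q (((S.mapGL h : GL ι F) : Matrix ι ι F) *ᵥ S.fn v) = Q (S.fn v)
  rw [mapGL_mulVec, fn, fn, S.quad, S.quad]
  exact congrArg _ (congrArg _ (hh v v))

/-- The action on the isometry group. -/
def isoMap : ↥(Cfsg.isometryGroup F ⇑Q) →* ↥(Cfsg.isometryGroup F ⇑Q) :=
  (S.mapGL.comp (Cfsg.isometryGroup F ⇑Q).subtype).codRestrict _ fun h => S.mapGL_mem h.2

theorem isoMap_mem {h : ↥(Cfsg.isometryGroup F ⇑Q)} (hh : h ∈ Cfsg.Omega F ⇑Q) :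
    S.isoMap h ∈ Cfsg.Omega F ⇑Q := by
  have hle : (Cfsg.Omega F ⇑Q).map S.isoMap ≤ Cfsg.Omega F ⇑Q := by
    unfold Cfsg.Omega
    rw [commutator_def, Subgroup.map_commutator]
    exact Subgroup.commutator_mono le_top le_top
  exact hle ⟨h, hh, rfl⟩

/-- The action on `Ω`. -/
def omegaMap : OG Q →* OG Q :=
  (S.isoMap.comp (Cfsg.Omega F ⇑Q).subtype).codRestrict _ fun h => S.isoMap_mem h.2

theorem app_omegaMap (h : OG Q) (v : ι → F) : app (S.omegaMap h) (S.fn v) = S.fn (app h v) :=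
  S.mapGL_mulVec h.1.1 v

theorem omegaMap_bijective : Function.Bijective S.omegaMap :=
  Finite.injective_iff_bijective.1 fun _ _ e =>
    Subtype.ext (Subtype.ext (S.mapGL_injective
      (congrArg (fun x : OG Q => (x.1.1 : GL ι F)) e)))

/-- The action on `Ω` as an automorphism. -/
noncomputable def omegaAut : MulAut (OG Q) := MulEquiv.ofBijective S.omegaMap S.omegaMap_bijective

theorem omegaAut_apply (h : OG Q) : S.omegaAut h = S.omegaMap h := rfl

theorem map_center : (Subgroup.center (OG Q)).map S.omegaAut.toMonoidHom =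
    Subgroup.center (OG Q) := by
  ext x
  constructor
  · rintro ⟨z, hz, rfl⟩
    rw [Subgroup.mem_center_iff]
    intro y
    obtain ⟨w, rfl⟩ := S.omegaAut.surjective y
    show S.omegaAut w * S.omegaAut z = S.omegaAut z * S.omegaAut w
    rw [← map_mul, ← map_mul, Subgroup.mem_center_iff.1 hz w]
  · intro hx
    refine ⟨S.omegaAut.symm x, Subgroup.mem_center_iff.2 fun y => ?_, S.omegaAut.apply_symm_apply x⟩
    apply S.omegaAut.injective
    rw [map_mul, map_mul, S.omegaAut.apply_symm_apply, Subgroup.mem_center_iff.1 hx]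

/-- The induced automorphism of `PΩ`. -/
noncomputable def aut : MulAut (Cfsg.POmega F ⇑Q) :=
  QuotientGroup.congr _ _ S.omegaAut S.map_center

theorem aut_pr (h : OG Q) : S.aut (pr Q h) = pr Q (S.omegaMap h) := rfl

theorem isInduced : Cfsg.IsInducedBySemilinearPOmega (⇑Q) S.g S.σ S.aut := by
  intro s s' e
  show S.aut (pr Q s) = pr Q s'
  rw [S.aut_pr]
  congr 1
  exact Subtype.ext (Subtype.ext (Units.ext e.symm))

theorem sends (C : Ctx Q) (x : ι → F) : Sends S.aut x (S.fn x) := by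
  ext h
  rw [mem_tr_iff]
  constructor
  · rintro ⟨a, ⟨t, ht, hax⟩, e⟩
    rw [S.aut_pr] at e
    have hz : (S.omegaMap a)⁻¹ * h ∈ Subgroup.center (OG Q) := QuotientGroup.eq.1 e
    have ha : S.omegaMap a ∈ stab Q (S.fn x) :=
      ⟨S.σ t, by simpa using ht, by rw [app_omegaMap, hax, fn_smul]⟩
    simpa using mul_mem ha (C.center_le_stab _ hz)
  · rintro ⟨t, ht, hhx⟩
    obtain ⟨a, rfl⟩ := S.omegaMap_bijective.2 h
    refine ⟨a, ⟨S.σ.symm t, by simpa using ht, S.fn_injective ?_⟩, S.aut_pr a⟩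
    rw [← app_omegaMap, hhx, fn_smul, RingEquiv.apply_symm_apply]

end Semi

/-- Conjugation by an element of `Ω`. -/
abbrev inner (k : OG Q) : MulAut (Cfsg.POmega F ⇑Q) := MulAut.conj (pr Q k)

theorem inner_pr (k h : OG Q) : inner k (pr Q h) = pr Q (k * h * k⁻¹) := by
  simp only [map_mul, map_inv, MulAut.conj_apply]

theorem Ctx.sends_inner (C : Ctx Q) (k : OG Q) (x : ι → F) : Sends (inner k) x (app k x) := by
  ext h
  rw [mem_tr_iff]
  constructor
  · rintro ⟨a, ha, e⟩
    rw [inner_pr] at e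
    have hz := C.center_le_stab (app k x) (QuotientGroup.eq.1 e)
    simpa only [mul_inv_cancel_left] using mul_mem ((conj_mem_stab_iff (g := k)).2 ha) hz
  · intro hh
    refine ⟨k⁻¹ * h * k, (conj_mem_stab_iff (g := k)).1 (by simpa [mul_assoc] using hh), ?_⟩
    rw [inner_pr]
    simp [mul_assoc]

/-- An inner factor does not leave the semisimilarity automorphisms. -/
theorem Semi.exists_inner_mul (S : Semi Q) (k : OG Q) :
    ∃ T : Semi Q, T.σ = S.σ ∧ T.c = S.c ∧ T.aut = inner k * S.aut := by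
  refine ⟨⟨k.1.1 * S.g, S.σ, S.c, fun v => ?_⟩, rfl, rfl, MulEquiv.ext fun y => ?_⟩
  · rw [Units.val_mul, ← Matrix.mulVec_mulVec]
    exact (quad_mulVec Q k.1 _).trans (S.quad v)
  · obtain ⟨a, rfl⟩ := pr_surjective y
    rw [MulAut.mul_apply, S.aut_pr, inner_pr, Semi.aut_pr]
    congr 1
    refine Subtype.ext (Subtype.ext (Units.ext ?_))
    show ((k.1.1 * S.g : GL ι F) : Matrix ι ι F) * _ * (((k.1.1 * S.g)⁻¹ : GL ι F) : Matrix ι ι F) =
      (k.1.1 : Matrix ι ι F) * ((S.g : Matrix ι ι F) * _ * ((S.g⁻¹ : GL ι F) : Matrix ι ι F)) *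
        ((k.1.1⁻¹ : GL ι F) : Matrix ι ι F)
    simp only [_root_.mul_inv_rev, Units.val_mul, mul_assoc]

theorem Semi.aut_mem_gamma (S : Semi Q) : S.aut ∈ Cfsg.gammaPOmega F ⇑Q :=
  Subgroup.subset_closure ⟨S.g, S.σ, ⟨S.c, S.quad⟩, S.isInduced⟩

end CfsgLib.AutPOmega
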