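import Cfsg.Agent.AutPOmega.Std
import Cfsg.Agent.AutPOmega.Proper
import Cfsg.Agent.Forms.Diagonal
import Cfsg.Agent.S2616
import Cfsg.Agent.S2618

/-!
# Similarity classes of nondegenerate quadratic forms over finite fields
-/

set_option autoImplicit false
set_option linter.unusedSectionVars false

namespace CfsgLib.AutPOmega

open Matrix Module CfsgLib.Spinor CfsgLib.Forms CfsgLib.Forms4 CfsgLib.StdForms

variable {F : Type*} [Field F] {ι κ μ : Type} [Fintype ι] [DecidableEq ι] [Fintype κ] [DecidableEq κ]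
  [Fintype μ] [DecidableEq μ]

/-- `Q` read in a suitable basis is a multiple of `Q'`. -/
def Similar (Q : QuadraticForm F (ι → F)) (Q' : QuadraticForm F (κ → F)) : Prop :=
  ∃ (L : (κ → F) ≃ₗ[F] (ι → F)) (c : Fˣ), ∀ v, Q (L v) = (c : F) * Q' v

theorem Similar.refl (Q : QuadraticForm F (ι → F)) : Similar Q Q :=
  ⟨LinearEquiv.refl _ _, 1, fun v => by simp⟩

theorem Similar.symm {Q : QuadraticForm F (ι → F)} {Q' : QuadraticForm F (κ → F)}
    (h : Similar Q Q') : Similar Q' Q := by
  obtain ⟨L, c, hL⟩ := h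
  refine ⟨L.symm, c⁻¹, fun v => ?_⟩
  have := hL (L.symm v)
  rw [L.apply_symm_apply] at this
  rw [this, ← mul_assoc, ← Units.val_mul, inv_mul_cancel, Units.val_one, one_mul]

theorem Similar.trans {Q : QuadraticForm F (ι → F)} {Q' : QuadraticForm F (κ → F)}
    {Q'' : QuadraticForm F (μ → F)} (h : Similar Q Q') (h' : Similar Q' Q'') : Similar Q Q'' := by
  obtain ⟨L, c, hL⟩ := h
  obtain ⟨L', d, hL'⟩ := h'
  exact ⟨L'.trans L, c * d, fun v => by
    rw [LinearEquiv.trans_apply, hL, hL', Units.val_mul, mul_assoc]⟩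

theorem Similar.nondegenerate {Q : QuadraticForm F (ι → F)} {Q' : QuadraticForm F (κ → F)}
    (h : Similar Q Q') (hQ : (QuadraticMap.polarBilin Q).Nondegenerate) :
    (QuadraticMap.polarBilin Q').Nondegenerate := by
  obtain ⟨L, c, hL⟩ := h
  have hp : ∀ u v, QuadraticMap.polar (⇑Q') u v = (c : F)⁻¹ * QuadraticMap.polar (⇑Q) (L u) (L v) :=
    fun u v => by
      simp only [QuadraticMap.polar, ← map_add, hL]
      field_simp
  refine nondegenerate_of_sep _ fun x hx => ?_
  refine L.map_eq_zero_iff.1 (hQ.1 (L x) fun y => ?_)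
  have := hx (L.symm y)
  rw [hp, L.apply_symm_apply, mul_eq_zero] at this
  exact this.resolve_left (inv_ne_zero c.ne_zero)

/-- A basis with the Gram data of `c • Q'` gives a similarity. -/
theorem Similar.of_basis {Q : QuadraticForm F (ι → F)} {Q' : QuadraticForm F (κ → F)}
    (b : Module.Basis κ F (ι → F)) (c : Fˣ)
    (h1 : ∀ i, Q (b i) = (c : F) * Q' (Pi.single i 1))
    (h2 : ∀ i j, QuadraticMap.polar (⇑Q) (b i) (b j) =
      (c : F) * QuadraticMap.polar (⇑Q') (Pi.single i 1) (Pi.single j 1)) : Similar Q Q' := by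
  let L : (κ → F) ≃ₗ[F] (ι → F) := (Pi.basisFun F κ).equiv b (Equiv.refl κ)
  have hL : ∀ i, L (Pi.single i 1) = b i := fun i => by
    simpa [L] using (Pi.basisFun F κ).equiv_apply i b (Equiv.refl κ)
  have hp : ∀ i j, Q (L (Pi.single i 1 + Pi.single j 1)) =
      (c : F) * Q' (Pi.single i 1 + Pi.single j 1) := fun i j => by
    rw [map_add, hL, hL, QuadraticMap.map_add (⇑Q), QuadraticMap.map_add (⇑Q'), h1, h1, h2]
    ring
  have key : Q.comp L.toLinearMap = (c : F) • Q' := form_ext
    (fun i => by simp [hL, h1]) (fun i j => by simpa using hp i j)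
  exact ⟨L, c, fun v => by simpa using congrArg (fun q : QuadraticForm F (κ → F) => q v) key⟩

variable [Finite F]

/-- Odd dimension: one similarity class. -/
theorem similar_oddQ {Q : QuadraticForm F (ι → F)} (hQ : (QuadraticMap.polarBilin Q).Nondegenerate)
    {m : ℕ} (hn : Fintype.card ι = 2 * m + 1) : Similar Q (oddQ m F) := by
  obtain ⟨b, h0, hx, hq, hef, hee⟩ := Cfsg.Agent.S2618.result
    (V := ι → F) (m := m) (by rw [finrank_fintype_fun_eq_card, hn]) Q hQ
  set lam : Fˣ := Units.mk0 _ h0 with hlam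
  -- rescale the first half
  let w : Unit ⊕ (Fin m ⊕ Fin m) → Fˣ := Sum.elim (fun _ => 1) (Sum.elim (fun _ => lam) fun _ => 1)
  refine Similar.of_basis (b.unitsSMul w) lam ?_ ?_
  · rintro (u | i | i) <;>
      simp [Module.Basis.unitsSMul_apply, w, Units.smul_def, QuadraticMap.map_smul, oddQ_apply,
        Cfsg.quadFormOdd, hq, hlam]
  · rintro (u | i | i) (u' | j | j)
    all_goals
      simp [Module.Basis.unitsSMul_apply, w, Units.smul_def, QuadraticMap.polar_smul_left,
        QuadraticMap.polar_smul_right, polar_odd, Pi.single_apply, hx, hef, hee, hlam, polar_self',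
        oddQ_apply, Cfsg.quadFormOdd,
        QuadraticMap.polar_comm (⇑Q) (b (Sum.inr (Sum.inl _))) (b (Sum.inl ())),
        QuadraticMap.polar_comm (⇑Q) (b (Sum.inr (Sum.inr _))) (b (Sum.inl ())),
        QuadraticMap.polar_comm (⇑Q) (b (Sum.inr (Sum.inr _))) (b (Sum.inr (Sum.inl _))), eq_comm]
    exact mul_comm _ _

/-- Even dimension: plus or minus. -/
theorem similar_plus_or_minus {Q : QuadraticForm F (ι → F)}
    (hQ : (QuadraticMap.polarBilin Q).Nondegenerate) {k : ℕ} (hn : Fintype.card ι = 2 * (k + 1)) :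
    Similar Q (plusQ (k + 1) F) ∨ ∃ ζ : F,
      (∀ z₁ z₂ : F, z₁ ^ 2 + 1 * z₁ * z₂ + ζ * z₂ ^ 2 = 0 → z₁ = 0 ∧ z₂ = 0) ∧
        Similar Q (minusQ k F 1 ζ) := by
  rcases Cfsg.Agent.S2616.result (V := ι → F) (m := k + 1) (by omega)
      (by rw [finrank_fintype_fun_eq_card, hn]) Q hQ with ⟨b, hq, hef, hee⟩ | h
  · refine Or.inl (Similar.of_basis b 1 ?_ ?_)
    · rintro (i | i) <;> simp [plusQ_apply, Cfsg.quadFormPlus, hq]
    · rintro (i | i) (j | j) <;>
        simp [polar_plus, Pi.single_apply, hef, hee,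
          QuadraticMap.polar_comm (⇑Q) (b (Sum.inr _)) (b (Sum.inl _)), eq_comm]
  · obtain ⟨b, ζ, hroot, hq, hef, hee, hperp, hx, hxy, hy⟩ := h
    refine Or.inr ⟨ζ, fun z₁ z₂ h => ?_, Similar.of_basis b 1 ?_ ?_⟩
    · by_cases hz : z₂ = 0
      · exact ⟨by simpa [hz] using h, hz⟩
      · exact absurd (by field_simp; linear_combination h) (hroot (z₁ / z₂))
    · rintro ((i | i) | l)
      · simpa [minusQ_apply, Cfsg.quadFormMinus] using (hq i).1
      · simpa [minusQ_apply, Cfsg.quadFormMinus] using (hq i).2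
      · fin_cases l <;> simp [minusQ_apply, Cfsg.quadFormMinus, hx, hy]
    · rintro ((i | i) | l) ((j | j) | l') <;>
        first
        | simp [polar_minus, Pi.single_apply, hef, hee, hperp,
            QuadraticMap.polar_comm (⇑Q) (b (Sum.inl (Sum.inr _))) (b (Sum.inl (Sum.inl _))),
            QuadraticMap.polar_comm (⇑Q) (b (Sum.inr _)) (b (Sum.inl _)), eq_comm]; done
        | (fin_cases l <;> fin_cases l' <;>
            simp [polar_minus, minusQ_apply, Cfsg.quadFormMinus, hx, hxy, hy, polar_self',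
              QuadraticMap.polar_comm (⇑Q) (b (Sum.inr 1)) (b (Sum.inr 0))])

/-- A binary anisotropic form represents the coefficients of every other. -/
theorem exists_binary_change {a b a' b' : F}
    (hab : ∀ z₁ z₂ : F, z₁ ^ 2 + a * z₁ * z₂ + b * z₂ ^ 2 = 0 → z₁ = 0 ∧ z₂ = 0)
    (hab' : ∀ z₁ z₂ : F, z₁ ^ 2 + a' * z₁ * z₂ + b' * z₂ ^ 2 = 0 → z₁ = 0 ∧ z₂ = 0) :
    ∃ x y : F, y ≠ 0 ∧ 2 * x + a * y = a' ∧ x ^ 2 + a * x * y + b * y ^ 2 = b' := by
  haveI := Fintype.ofFinite F
  have hd := disc_ne_zero hab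
  have hd' := disc_ne_zero hab'
  by_cases h2 : (2 : F) = 0
  · haveI : CharP F 2 := CharTwo.of_one_ne_zero_of_two_eq_zero one_ne_zero h2
    have ha : a ≠ 0 := fun h => hd (by rw [h]; linear_combination (-2 * b) * h2)
    have ha' : a' ≠ 0 := fun h => hd' (by rw [h]; linear_combination (-2 * b') * h2)
    set y := a' / a with hy
    have hy0 : y ≠ 0 := div_ne_zero ha' ha
    have hay : a * y = a' := mul_div_cancel₀ _ ha
    let φ : F →+ F := AddMonoidHom.mk' (fun x => x ^ 2 + a' * x) fun u v => by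
      linear_combination (u * v) * h2
    have hker : Nat.card φ.ker = 2 := by
      have hset : (φ.ker : Set F) = {0, a'} := by
        ext x
        simp only [SetLike.mem_coe, AddMonoidHom.mem_ker, φ, AddMonoidHom.mk'_apply,
          Set.mem_insert_iff, Set.mem_singleton_iff]
        constructor
        · intro h
          have : x * (x - a') = 0 := by linear_combination h - (a' * x) * h2
          rcases mul_eq_zero.1 this with h' | h'
          · exact Or.inl h'
          · exact Or.inr (sub_eq_zero.1 h')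
        · rintro (rfl | rfl)
          · simp
          · linear_combination x ^ 2 * h2
      rw [← SetLike.coe_sort_coe, hset, Nat.card_coe_set_eq, Set.ncard_pair (Ne.symm ha')]
    have hidx : φ.range.index = 2 := by
      have h1 := φ.range.card_mul_index
      have h3 := φ.ker.card_mul_index
      rw [AddSubgroup.index_ker, hker] at h3
      rw [← h3, mul_comm] at h1
      exact Nat.eq_of_mul_eq_mul_right Nat.card_pos h1
    have hb1 : b' ∉ φ.range := by
      rintro ⟨x, hx⟩
      exact one_ne_zero (hab' x 1 (by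
        simp only [φ, AddMonoidHom.mk'_apply] at hx
        linear_combination hx + b' * h2)).2
    have hb2 : b * y ^ 2 ∉ φ.range := by
      rintro ⟨x, hx⟩
      refine hy0 (hab x y ?_).2
      simp only [φ, AddMonoidHom.mk'_apply] at hx
      rw [← hay] at hx
      linear_combination hx + (b * y ^ 2) * h2
    obtain ⟨x, hx⟩ : b' - b * y ^ 2 ∈ φ.range := by
      rw [sub_eq_add_neg, AddSubgroup.add_mem_iff_of_index_two hidx, neg_mem_iff]
      exact iff_of_false hb1 hb2
    simp only [φ, AddMonoidHom.mk'_apply] at hx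
    exact ⟨x, y, hy0, by linear_combination x * h2 + hay,
      by linear_combination hx + x * hay⟩
  · have hns : ∀ {p q : F}, (∀ z₁ z₂ : F, z₁ ^ 2 + p * z₁ * z₂ + q * z₂ ^ 2 = 0 → z₁ = 0 ∧ z₂ = 0) →
        ¬ IsSquare (p ^ 2 - 4 * q) := fun {p q} h ⟨r, hr⟩ =>
      one_ne_zero (h ((-p + r) / 2) 1 (by field_simp; linear_combination -hr)).2
    obtain ⟨r, hr⟩ := isSquare_mul_of_not_isSquare (hns hab') (hns hab)
    set y := r / (a ^ 2 - 4 * b) with hy
    have hy2 : y ^ 2 * (a ^ 2 - 4 * b) = a' ^ 2 - 4 * b' := by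
      rw [hy, div_pow, ← mul_left_inj' hd]
      field_simp
      linear_combination -hr
    have hy0 : y ≠ 0 := fun h => hd' (by rw [← hy2, h]; simp)
    refine ⟨(a' - a * y) / 2, y, hy0, by field_simp; ring, ?_⟩
    field_simp
    linear_combination -hy2

/-- All minus forms are similar. -/
theorem similar_minusQ (k : ℕ) {a b a' b' : F}
    (hab : ∀ z₁ z₂ : F, z₁ ^ 2 + a * z₁ * z₂ + b * z₂ ^ 2 = 0 → z₁ = 0 ∧ z₂ = 0)
    (hab' : ∀ z₁ z₂ : F, z₁ ^ 2 + a' * z₁ * z₂ + b' * z₂ ^ 2 = 0 → z₁ = 0 ∧ z₂ = 0) :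
    Similar (minusQ k F a b) (minusQ k F a' b') := by
  obtain ⟨x, y, hy, h1, h2⟩ := exists_binary_change hab hab'
  let L : ((Fin k ⊕ Fin k) ⊕ Fin 2 → F) →ₗ[F] ((Fin k ⊕ Fin k) ⊕ Fin 2 → F) :=
    { toFun := fun v => Sum.elim (fun i => v (.inl i)) ![v (.inr 0) + x * v (.inr 1), y * v (.inr 1)]
      map_add' := fun u v => by
        funext j
        rcases j with i | i
        · rfl
        · fin_cases i <;> simp <;> ring
      map_smul' := fun t v => by
        funext j
        rcases j with i | i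
        · rfl
        · fin_cases i <;> simp <;> ring }
  have hinj : Function.Injective L := by
    rw [← LinearMap.ker_eq_bot]
    refine LinearMap.ker_eq_bot'.2 fun v hv => ?_
    have e1 := congrFun hv (.inr 1)
    have e0 := congrFun hv (.inr 0)
    simp [L, hy] at e1 e0
    simp [e1] at e0
    funext j
    rcases j with i | i
    · exact congrFun hv (.inl i)
    · fin_cases i
      · exact e0
      · exact e1
  refine ⟨LinearEquiv.ofBijective L ⟨hinj, LinearMap.surjective_of_injective hinj⟩, 1, fun v => ?_⟩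
  show minusQ k F a b (L v) = _
  simp only [L, LinearMap.coe_mk, AddHom.coe_mk, minusQ_apply,
    Cfsg.quadFormMinus, Sum.elim_inl, Sum.elim_inr, Matrix.cons_val_zero, Matrix.cons_val_one,
    Units.val_one, one_mul]
  linear_combination (v (.inr 0) * v (.inr 1)) * h1 + v (.inr 1) ^ 2 * h2

/-- A form similar to a minus form has no lagrangian, so is not similar to the plus form. -/
theorem not_similar_plus_minus [Fintype F] {k : ℕ} {a b : F}
    (hab : ∀ z₁ z₂ : F, z₁ ^ 2 + a * z₁ * z₂ + b * z₂ ^ 2 = 0 → z₁ = 0 ∧ z₂ = 0) :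
    ¬ Similar (minusQ k F a b) (plusQ (k + 1) F) := by
  rintro ⟨L, c, hL⟩
  let ψ : (Fin (k + 1) → F) →ₗ[F] (Fin (k + 1) ⊕ Fin (k + 1) → F) :=
    { toFun := fun x => Sum.elim x 0
      map_add' := fun u v => by funext j; rcases j with i | i <;> simp
      map_smul' := fun t v => by funext j; rcases j with i | i <;> simp }
  set W := LinearMap.range (L.toLinearMap.comp ψ) with hW
  have hsing : ∀ w ∈ W, minusQ k F a b w = 0 := by
    rintro _ ⟨x, rfl⟩
    simp [hL, ψ, plusQ_apply, Cfsg.quadFormPlus]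
  have hQ := minusQ_nondegenerate k (disc_ne_zero hab)
  have hle : W ≤ perp (minusQ k F a b) W := fun u hu w hw => by
    show QuadraticMap.polar _ w u = 0
    simp [QuadraticMap.polar, hsing _ hu, hsing _ hw, hsing _ (add_mem hw hu)]
  have hdim : finrank F W = k + 1 := by
    rw [hW, LinearMap.finrank_range_of_inj, Module.finrank_fin_fun]
    intro u v h
    funext i
    exact congrFun (L.injective h) (.inl i)
  refine no_lagrangian_minusQ hab hsing
    (Submodule.eq_of_le_of_finrank_eq hle ?_).symm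
  rw [finrank_perp hQ, hdim]
  simp
  omega

end CfsgLib.AutPOmega
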