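import Cfsg.Agent.AutPOmega.Center
import Cfsg.Agent.AutPSL.Involution

/-!
# Automorphisms fixing the small group pointwise are powers of the field automorphism

No hypothesis on triality is needed: such an automorphism fixes a singular point.
-/

set_option autoImplicit false
set_option linter.unusedSectionVars false
set_option linter.style.haveILetI false

namespace CfsgLib.AutPOmega

open Matrix Module CfsgLib.Spinor CfsgLib.Forms CfsgLib.Forms4

variable {F : Type*} [Field F] [Finite F] {ι : Type} [Fintype ι] [DecidableEq ι]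
  {Q : QuadraticForm F (ι → F)} {β : MulAut (Cfsg.POmega F ⇑Q)}

set_option quotPrecheck false in
local notation "B" => QuadraticMap.polar (DFunLike.coe Q)

/-- One point sent to a point forces all of them to be. -/
theorem Ctx.ptPres_of_sends (C : Ctx Q) {x y : ι → F} (hx0 : x ≠ 0) (hx : Q x = 0) (hy0 : y ≠ 0)
    (hy : Q y = 0) (h : Sends β x y) : PtPres β := by
  intro z hz0 hz
  obtain ⟨k, t, ht, hk⟩ := C.exists_move hz0 hz hx0 hx
  obtain ⟨k', hk'⟩ := pr_surjective (β (pr Q k))
  have e : inner k'⁻¹ * β * inner k = β := MulEquiv.ext fun w => by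
    simp only [MulAut.mul_apply, MulAut.conj_apply, map_mul, map_inv, hk']
    group
  have h1 : Sends (inner k) z x := by
    have := C.sends_inner k z
    rwa [hk, Sends, stab_smul ht] at this
  refine ⟨app k'⁻¹ y, app_ne_zero _ hy0, by rw [quad_app, hy], ?_⟩
  rw [← e]
  exact h1.mul (h.mul (C.sends_inner k'⁻¹ y))

variable {K : Type*} [Field K] [Finite K] {e : K →+* F} {σ : F ≃+* F}
  {Q₀ : QuadraticForm K (ι → K)}

/-- Vectors orthogonal to all rational vectors vanish. -/
theorem eq_zero_of_polar_rat (C : Ctx Q) {z : ι → F}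
    (h : ∀ v : ι → K, B (fun i => e (v i)) z = 0) : z = 0 := by
  refine C.nondeg.2 z fun y => ?_
  rw [← (Pi.basisFun F ι).sum_repr y, map_sum, LinearMap.sum_apply]
  refine Finset.sum_eq_zero fun i _ => ?_
  rw [map_smul, LinearMap.smul_apply, Pi.basisFun_apply, ← map_single_one (e := e)]
  exact smul_eq_zero_of_right _ (h _)

theorem IsExt.vec_ne_zero (e : K →+* F) {v : ι → K} (hv : v ≠ 0) : (fun i => e (v i)) ≠ 0 :=
  fun h => hv (funext fun i => e.injective (by simpa using congrFun h i))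

/-- Frames extend. -/
def IsExt.threePairs (hE : IsExt e Q₀ Q) (P : ThreePairs Q₀) : ThreePairs Q where
  e := fun i => e (P.e i)
  f := fun i => e (P.f i)
  a := fun i => e (P.a i)
  b := fun i => e (P.b i)
  c := fun i => e (P.c i)
  d := fun i => e (P.d i)
  qe := by rw [hE, P.qe, map_zero]
  qf := by rw [hE, P.qf, map_zero]
  qa := by rw [hE, P.qa, map_zero]
  qb := by rw [hE, P.qb, map_zero]
  qc := by rw [hE, P.qc, map_zero]
  qd := by rw [hE, P.qd, map_zero]
  ef := by rw [hE.polar, P.ef, map_one]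
  ab := by rw [hE.polar, P.ab, map_one]
  cd := by rw [hE.polar, P.cd, map_one]
  ea := by rw [hE.polar, P.ea, map_zero]
  eb := by rw [hE.polar, P.eb, map_zero]
  fa := by rw [hE.polar, P.fa, map_zero]
  fb := by rw [hE.polar, P.fb, map_zero]
  ec := by rw [hE.polar, P.ec, map_zero]
  ed := by rw [hE.polar, P.ed, map_zero]
  fc := by rw [hE.polar, P.fc, map_zero]
  fd := by rw [hE.polar, P.fd, map_zero]
  ac := by rw [hE.polar, P.ac, map_zero]
  ad := by rw [hE.polar, P.ad, map_zero]
  bc := by rw [hE.polar, P.bc, map_zero]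
  bd := by rw [hE.polar, P.bd, map_zero]

theorem mem_tr_of_fix {hE : IsExt e Q₀ Q} (hfix : ∀ k : OG Q₀, β (pr Q (hE.omHom k)) =
    pr Q (hE.omHom k)) {A : Subgroup (OG Q)} {k : OG Q₀} (hk : hE.omHom k ∈ A) :
    hE.omHom k ∈ tr β A := mem_tr_iff.2 ⟨_, hk, hfix k⟩

/-- An automorphism fixing the small group fixes each rational singular point. -/
theorem IsExt.sends_self (hE : IsExt e Q₀ Q) (C : Ctx Q) (C₀ : Ctx Q₀)
    (hfix : ∀ k : OG Q₀, β (hE.smallHom k) = hE.smallHom k) {x : ι → K} (hx0 : x ≠ 0)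
    (hx : Q₀ x = 0) : Sends β (fun i => e (x i)) (fun i => e (x i)) := by
  obtain ⟨p, hp⟩ := CharP.exists F
  haveI : Fact p.Prime := ⟨CharP.char_is_prime F p⟩
  obtain ⟨P₀, rfl⟩ := C₀.exists_frame_left hx0 hx
  set P := hE.threePairs P₀ with hP
  -- Eichler maps fixing the point are transported to themselves
  have hmem : ∀ u w (hu : Q₀ u = 0) (huw : QuadraticMap.polar (⇑Q₀) u w = 0),
      eich Q (fun i => e (u i)) (fun i => e (w i)) *ᵥ P.e = P.e →
      hE.omHom (C₀.eichG u w hu huw) ∈ tr β (stab Q P.e) := fun u w hu huw h =>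
    mem_tr_of_fix hfix (mem_stab_of_eq (by rw [hE.app_omHom_eichG]; exact h))
  rcases C.exists_sends_or_lag p β P.e_ne_zero P.qe with ⟨y, hy0, hy, hs⟩ | ⟨W, hW, hperp, -, hle⟩
  swap
  · exfalso
    have hBW : ∀ u v, u ∈ W → v ∈ W → B u v = 0 := fun u v hu hv => by
      simp [QuadraticMap.polar, hW _ hu, hW _ hv, hW _ (add_mem hu hv)]
    have hd : ∀ u w (hu : Q₀ u = 0) (huw : QuadraticMap.polar (⇑Q₀) u w = 0), Q₀ w = 0 →
        B (fun i => e (u i)) P.e = 0 → B (fun i => e (w i)) P.e = 0 → ∀ z ∈ W,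
        B (fun i => e (u i)) z • (fun i => e (w i)) - B (fun i => e (w i)) z • (fun i => e (u i)) ∈ W := by
      intro u w hu huw hw h1 h2 z hz
      have hm := hle (hmem u w hu huw (by rw [eich_mulVec, h1, h2]; simp))
      have := sub_mem ((hm z).2 hz) hz
      rw [hE.app_omHom_eichG, eich_mulVec, hE w, hw, map_zero, zero_mul, zero_smul, sub_zero,
        add_sub_cancel_left] at this
      exact this
    have hax : B P.a P.e = 0 := by rw [QuadraticMap.polar_comm]; exact P.ea
    have hbx : B P.b P.e = 0 := by rw [QuadraticMap.polar_comm]; exact P.eb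
    have hcx : B P.c P.e = 0 := by rw [QuadraticMap.polar_comm]; exact P.ec
    have hdx : B P.d P.e = 0 := by rw [QuadraticMap.polar_comm]; exact P.ed
    have hA : P.a ∈ W := hperp.le fun z hz => by
      have h1 := hd P₀.a P₀.c P₀.qa P₀.ac P₀.qc hax hcx z hz
      have h2 := hd P₀.a P₀.d P₀.qa P₀.ad P₀.qd hax hdx z hz
      have h := hBW _ _ h1 h2
      change B (B P.a z • P.c - B P.c z • P.a) (B P.a z • P.d - B P.d z • P.a) = 0 at h
      simp only [QuadraticMap.polar_sub_left, QuadraticMap.polar_sub_right, QuadraticMap.polar_smul_left,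
        QuadraticMap.polar_smul_right, P.cd, P.ad, P.aa, QuadraticMap.polar_comm (⇑Q) P.c P.a, P.ac,
        smul_eq_mul, mul_one, mul_zero, sub_zero, mul_self_eq_zero] at h
      show B z P.a = 0
      rwa [QuadraticMap.polar_comm]
    have hB' : P.b ∈ W := hperp.le fun z hz => by
      have h1 := hd P₀.b P₀.c P₀.qb P₀.bc P₀.qc hbx hcx z hz
      have h2 := hd P₀.b P₀.d P₀.qb P₀.bd P₀.qd hbx hdx z hz
      have h := hBW _ _ h1 h2
      change B (B P.b z • P.c - B P.c z • P.b) (B P.b z • P.d - B P.d z • P.b) = 0 at h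
      simp only [QuadraticMap.polar_sub_left, QuadraticMap.polar_sub_right, QuadraticMap.polar_smul_left,
        QuadraticMap.polar_smul_right, P.cd, P.bd, P.bb, QuadraticMap.polar_comm (⇑Q) P.c P.b, P.bc,
        smul_eq_mul, mul_one, mul_zero, sub_zero, mul_self_eq_zero] at h
      show B z P.b = 0
      rwa [QuadraticMap.polar_comm]
    exact one_ne_zero (P.ab ▸ hBW _ _ hA hB')
  · suffices hmul : y ∈ F ∙ P.e by
      obtain ⟨t, rfl⟩ := Submodule.mem_span_singleton.1 hmul
      have ht : t ≠ 0 := fun h => hy0 (by rw [h, zero_smul])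
      rwa [Sends, stab_smul ht] at hs
    have hstab : ∀ v : ι → K, QuadraticMap.polar (⇑Q₀) P₀.e v = 0 → ∃ t : F,
        eich Q P.e (fun i => e (v i)) *ᵥ y = t • y := by
      intro v hv
      have h1 := hmem P₀.e v P₀.qe hv (eich_mulVec_left P.qe (by
        show B (fun i => e (P₀.e i)) _ = 0
        rw [hE.polar, hv, map_zero]))
      rw [Sends] at hs
      rw [hs] at h1
      obtain ⟨t, -, ht⟩ := h1
      exact ⟨t, by rw [hE.app_omHom_eichG] at ht; exact ht⟩
    have hey : B P.e y = 0 := by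
      by_contra hne
      obtain ⟨t, ht⟩ := hstab P₀.a P₀.ea
      rw [eich_mulVec, show (fun i => e (P₀.a i)) = P.a from rfl, P.qa, zero_mul, zero_smul, sub_zero] at ht
      have h1 := congrArg (B P.e) ht
      simp only [QuadraticMap.polar_add_right, QuadraticMap.polar_sub_right, QuadraticMap.polar_smul_right,
        P.ea, P.ee, smul_eq_mul, mul_zero, sub_zero, add_zero] at h1
      have ht1 : t = 1 := mul_right_cancel₀ hne (by rw [one_mul]; exact h1.symm)
      rw [ht1, one_smul] at ht
      have h2 := congrArg (B P.b) ht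
      simp only [QuadraticMap.polar_add_right, QuadraticMap.polar_sub_right, QuadraticMap.polar_smul_right,
        QuadraticMap.polar_comm (⇑Q) P.b P.a, QuadraticMap.polar_comm (⇑Q) P.b P.e, P.ab, P.eb,
        smul_eq_mul, mul_one, mul_zero, sub_zero, add_eq_left] at h2
      exact hne h2
    by_contra hnot
    have hzero : P.proj y = 0 := eq_zero_of_polar_rat (e := e) C fun v => by
      have hc : (fun i => e (P₀.proj v i)) = P.proj fun i => e (v i) := by
        funext i
        show e (P₀.proj v i) = _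
        simp only [TwoPairs.proj, Pi.sub_apply, Pi.smul_apply, smul_eq_mul, map_sub, map_mul]
        simp only [hP, IsExt.threePairs, hE.polar]
      have hv0 : B P.e (fun i => e (P₀.proj v i)) = 0 := by
        rw [hc]; exact (P.inW_proj _).1
      obtain ⟨t, ht⟩ := hstab _ (P₀.inW_proj v).1
      rw [eich_mulVec, hey, zero_smul, mul_zero, zero_smul, sub_zero, zero_sub, hc] at ht
      have hkey : B (P.proj fun i => e (v i)) y = 0 := by
        by_contra hne
        apply hnot
        by_cases ht1 : t = 1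
        · rw [ht1, one_smul, add_eq_left, neg_eq_zero, smul_eq_zero] at ht
          exact absurd ht (not_or.2 ⟨hne, P.e_ne_zero⟩)
        · refine Submodule.mem_span_singleton.2 ⟨-(B (P.proj fun i => e (v i)) y) / (t - 1), ?_⟩
          rw [div_eq_inv_mul, mul_smul, inv_smul_eq_iff₀ (sub_ne_zero.2 ht1), neg_smul, sub_smul,
            one_smul, eq_sub_iff_add_eq, add_comm]
          exact ht
      conv_rhs => rw [← hkey]
      rw [show B (fun i => e (v i)) (P.proj y) = B (P.proj fun i => e (v i)) (P.proj y) by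
        conv_lhs => rw [P.decomp fun i => e (v i)]
        simp [QuadraticMap.polar_add_left, QuadraticMap.polar_smul_left, (P.inW_proj y).1,
          (P.inW_proj y).2]]
      conv_rhs => rw [P.decomp y]
      simp [QuadraticMap.polar_add_right, QuadraticMap.polar_smul_right, hey,
        QuadraticMap.polar_comm (⇑Q) _ P.e, (P.inW_proj fun i => e (v i)).1]
    refine hnot (Submodule.mem_span_singleton.2 ⟨B P.f y, ?_⟩)
    conv_rhs => rw [P.decomp y, hzero, hey, zero_smul, add_zero, add_zero]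

/-- Fixing the fixed field puts an automorphism of the field in the cyclic group. -/
theorem exists_pow_of_fix {τ : F ≃+* F} (h : ∀ c, σ c = c → τ c = c) : ∃ k : ℕ, τ = σ ^ k := by
  haveI : Finite (F ≃+* F) := Finite.of_injective (fun e : F ≃+* F => (e : F → F)) DFunLike.coe_injective
  let H : Subgroup (F ≃+* F) :=
    { carrier := {e | ∀ c, σ c = c → e c = c}
      one_mem' := fun c _ => rfl
      mul_mem' := fun {a b} ha hb c hc => by change a (b c) = c; rw [hb c hc, ha c hc]
      inv_mem' := fun {a} ha c hc => (a.symm_apply_eq).2 (ha c hc).symm }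
  haveI := Fintype.ofFinite F
  haveI := CfsgLib.AutPSL.isCyclic_ringEquiv (F := F)
  obtain ⟨⟨τ₀, hτ₀⟩, hgen⟩ := IsCyclic.exists_generator (α := H)
  have hH : H = Subgroup.zpowers τ₀ := by
    refine le_antisymm (fun e he => ?_) (Subgroup.zpowers_le.2 hτ₀)
    obtain ⟨k, hk⟩ := hgen ⟨e, he⟩
    exact ⟨k, congrArg Subtype.val hk⟩
  have hσH : σ ∈ H := fun c hc => hc
  have hfixeq : CfsgLib.FixedField.fixedSub τ₀ = CfsgLib.FixedField.fixedSub σ := by
    ext c
    refine ⟨fun hc => ?_, fun hc => hτ₀ c hc⟩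
    rw [hH] at hσH
    have hs : τ₀ ∈ MulAction.stabilizer (F ≃+* F) c := hc
    exact (Subgroup.zpowers_le.2 hs) hσH
  have hcard := (CfsgLib.FixedField.card_pow τ₀ rfl).symm.trans (CfsgLib.FixedField.card_pow σ rfl)
  rw [hfixeq] at hcard
  have hq : 1 < Nat.card (CfsgLib.FixedField.fixedSub σ) := Finite.one_lt_card
  have hord : orderOf τ₀ = orderOf σ := Nat.pow_right_injective hq hcard
  have heq : Subgroup.zpowers σ = H := Subgroup.eq_of_le_of_card_ge (Subgroup.zpowers_le.2 hσH)
    (by rw [hH, Nat.card_zpowers, Nat.card_zpowers, hord])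
  have hmem : τ ∈ Subgroup.zpowers σ := heq ▸ h
  obtain ⟨k, hk⟩ := mem_powers_iff_mem_zpowers.2 hmem
  exact ⟨k, hk.symm⟩

/-- An automorphism fixing the small group is a power of the field automorphism. -/
theorem IsExt.eq_fld_pow_of_fix (hE : IsExt e Q₀ Q) (he : IsFixedField e σ) (C : Ctx Q) (C₀ : Ctx Q₀)
    (hR : Rat Q σ) (hfix : ∀ k : OG Q₀, β (hE.smallHom k) = hE.smallHom k) :
    ∃ k : ℕ, β = fld hR ^ k := by
  obtain ⟨p, hp⟩ := CharP.exists F
  haveI : Fact p.Prime := ⟨CharP.char_is_prime F p⟩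
  obtain ⟨P⟩ := C₀.pairs
  obtain ⟨S, rfl⟩ := C.exists_semi_of_ptPres (C.ptPres_of_sends (IsExt.vec_ne_zero e P.e_ne_zero)
    (by rw [hE, P.qe, map_zero]) (IsExt.vec_ne_zero e P.e_ne_zero) (by rw [hE, P.qe, map_zero])
    (hE.sends_self C C₀ hfix P.e_ne_zero P.qe))
  have hpt : ∀ x : ι → K, x ≠ 0 → Q₀ x = 0 → ∃ t : F,
      S.fn (fun i => e (x i)) = t • fun i => e (x i) := fun x hx0 hx =>
    Sends.unique p C (IsExt.vec_ne_zero e hx0) (by rw [hE, hx, map_zero])
      (hE.sends_self C C₀ hfix hx0 hx) (S.sends C _)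
  have hadd : ∀ u v : ι → K, (fun i => e ((u + v) i)) = (fun i => e (u i)) + fun i => e (v i) :=
    fun u v => funext fun i => map_add e _ _
  have hsmul : ∀ (t : K) (v : ι → K), (fun i => e ((t • v) i)) = e t • fun i => e (v i) :=
    fun t v => funext fun i => map_mul e _ _
  have hpair : ∀ x y, x ≠ 0 → Q₀ x = 0 → y ≠ 0 → Q₀ y = 0 → QuadraticMap.polar (⇑Q₀) x y = 0 →
      y ∉ K ∙ x → ∀ tx ty : F, S.fn (fun i => e (x i)) = tx • (fun i => e (x i)) →
      S.fn (fun i => e (y i)) = ty • (fun i => e (y i)) → ∀ s : K, S.σ (e s) * ty = e s * tx := by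
    intro x y hx0 hx hy0 hy hxy hind tx ty hfx hfy s
    have hsum0 : x + s • y ≠ 0 := by
      intro h0
      by_cases hs : s = 0
      · rw [hs, zero_smul, add_zero] at h0; exact hx0 h0
      · exact hind (Submodule.mem_span_singleton.2 ⟨-s⁻¹, by
          rw [eq_neg_of_add_eq_zero_left h0, smul_neg, smul_smul, neg_mul, inv_mul_cancel₀ hs,
            neg_one_smul, neg_neg]⟩)
    obtain ⟨t, ht⟩ := hpt _ hsum0 (by
      rw [QuadraticMap.map_add (⇑Q₀), QuadraticMap.map_smul, QuadraticMap.polar_smul_right, hx, hy,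
        hxy]
      simp)
    rw [hadd, hsmul, S.fn_add, Semi.fn_smul, hfx, hfy, smul_add, smul_smul, smul_smul] at ht
    -- a functional separating `y` from `x`
    obtain ⟨i, j, hij⟩ : ∃ i j, x i * y j ≠ x j * y i := by
      by_contra hall
      push Not at hall
      obtain ⟨i, hi⟩ := Function.ne_iff.1 hx0
      exact hind (Submodule.mem_span_singleton.2 ⟨y i / x i, funext fun j => by
        rw [Pi.smul_apply, smul_eq_mul, div_mul_eq_mul_div, div_eq_iff hi]
        linear_combination -hall i j⟩)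
    have ei := congrFun ht i
    have ej := congrFun ht j
    simp only [Pi.add_apply, Pi.smul_apply, smul_eq_mul] at ei ej
    have hd : e (x i) * e (y j) - e (x j) * e (y i) ≠ 0 := by
      rw [← map_mul, ← map_mul, ← map_sub]
      exact (map_ne_zero_iff e e.injective).2 (sub_ne_zero.2 hij)
    have h1 : (S.σ (e s) * ty - t * e s) * (e (x i) * e (y j) - e (x j) * e (y i)) = 0 := by
      linear_combination (e (x i)) * ej - (e (x j)) * ei
    have h2 : (tx - t) * (e (x i) * e (y j) - e (x j) * e (y i)) = 0 := by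
      linear_combination (e (y j)) * ei - (e (y i)) * ej
    linear_combination (mul_eq_zero.1 h1).resolve_right hd - (e s) * (mul_eq_zero.1 h2).resolve_right hd
  have ha0 : P.a ≠ 0 := fun h0 => one_ne_zero (α := K) (by
    rw [← P.ab, h0, QuadraticMap.polar_zero_left])
  have hf0 : P.f ≠ 0 := fun h0 => one_ne_zero (α := K) (by
    rw [← P.ef, h0, QuadraticMap.polar_zero_right])
  obtain ⟨t, hte⟩ := hpt P.e P.e_ne_zero P.qe
  have ht : t ≠ 0 := fun h0 => IsExt.vec_ne_zero e P.e_ne_zero (S.fn_injective (by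
    rw [hte, h0, zero_smul, S.fn_zero]))
  have hindW : ∀ x y, y ≠ 0 → QuadraticMap.polar (⇑Q₀) P.e y = 0 →
      QuadraticMap.polar (⇑Q₀) P.e x ≠ 0 → y ∉ K ∙ x := by
    intro x y hy0 hey hex hmem
    obtain ⟨s, rfl⟩ := Submodule.mem_span_singleton.1 hmem
    rw [QuadraticMap.polar_smul_right, smul_eq_mul, mul_eq_zero] at hey
    exact hy0 (by rw [hey.resolve_right hex, zero_smul])
  have hindE : ∀ y, P.InW y → y ≠ 0 → y ∉ K ∙ P.e := by
    intro y hy hy0 hmem
    obtain ⟨s, rfl⟩ := Submodule.mem_span_singleton.1 hmem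
    have := hy.2
    rw [QuadraticMap.polar_smul_right, P.fe, smul_eq_mul, mul_one] at this
    exact hy0 (by rw [this, zero_smul])
  obtain ⟨ta, hta⟩ := hpt P.a ha0 P.qa
  have key := hpair P.e P.a P.e_ne_zero P.qe ha0 P.qa P.ea (hindE _ P.inW_a ha0) t ta hte hta
  have hta' : ta = t := by simpa using key 1
  subst hta'
  have hσ : ∀ s, S.σ (e s) = e s := fun s => mul_right_cancel₀ ht (key s)
  have hW : ∀ y, P.InW y → Q₀ y = 0 → S.fn (fun i => e (y i)) = ta • fun i => e (y i) := by
    intro y hy hq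
    by_cases hy0 : y = 0
    · subst hy0
      simp only [Pi.zero_apply, map_zero]
      rw [show (fun _ : ι => (0 : F)) = 0 from rfl, S.fn_zero, smul_zero]
    obtain ⟨ty, hty⟩ := hpt y hy0 hq
    have := hpair P.e y P.e_ne_zero P.qe hy0 hq hy.1 (hindE y hy hy0) ta ty hte hty 1
    rw [hty]
    simp only [map_one, one_mul] at this
    rw [this]
  have hf : S.fn (fun i => e (P.f i)) = ta • fun i => e (P.f i) := by
    obtain ⟨tf, htf⟩ := hpt P.f hf0 P.qf
    have := hpair P.f P.a hf0 P.qf ha0 P.qa P.fa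
      (hindW _ _ ha0 P.ea (by rw [P.ef]; exact one_ne_zero)) tf ta htf hta 1
    simp only [map_one, one_mul] at this
    rw [htf, this]
  have hlin : ∀ v : ι → K, S.fn (fun i => e (v i)) = ta • fun i => e (v i) := by
    intro v
    obtain ⟨z₁, z₂, z₃, ⟨h1, q1⟩, ⟨h2, q2⟩, ⟨h3, q3⟩, ev⟩ :=
      P.exists_three_singular (P.inW_proj v)
    have hd := P.decomp v
    rw [ev] at hd
    rw [hd, hadd, hadd, hadd, hadd, hsmul, hsmul, S.fn_add, S.fn_add, S.fn_add, S.fn_add, Semi.fn_smul,
      Semi.fn_smul, hte, hf, hW _ h1 q1, hW _ h2 q2, hW _ h3 q3, hσ, hσ]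
    module
  set u : Fˣ := Units.mk0 ta ht
  have hg : S.g = Matrix.GeneralLinearGroup.scalar ι u := by
    refine Units.ext (Matrix.ext fun i j => ?_)
    have := congrFun (hlin (Pi.single j 1)) i
    rw [Semi.fn, show (fun k => S.σ (e ((Pi.single j 1 : ι → K) k))) = (fun k => e ((Pi.single j 1 : ι → K) k)) from
      funext fun k => hσ _, map_single_one, Matrix.mulVec_single_one] at this
    rw [show ((Matrix.GeneralLinearGroup.scalar ι u : GL ι F) : Matrix ι ι F) i j =
      if i = j then ta else 0 by by_cases hij : i = j <;> simp [hij, u]]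
    simpa [Pi.single_apply] using this
  obtain ⟨k, hk⟩ := exists_pow_of_fix (σ := σ) (τ := S.σ) fun c hc => by
    obtain ⟨s, rfl⟩ := (he c).1 hc
    exact hσ s
  refine ⟨k, ?_⟩
  have hsg : S.aut = (Semi.mul (simSemi ⟨_, scalar_mem_GO u⟩) (hR.pow k).semi).aut := Semi.aut_congr
    (by rw [hg, Semi.mul_g]; show _ = _ * AutPSL.mapGL 1 1; rw [map_one, mul_one]; rfl)
    (by rw [Semi.mul_σ, hk]; exact (one_mul _).symm)
  rw [hsg, Semi.mul_aut, fld_pow]
  show sim _ * fld _ = fld _
  rw [sim_scalar C, one_mul]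

end CfsgLib.AutPOmega
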