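import Cfsg.Agent.AutPOmega.Final
import Cfsg.Agent.Forms4.POmegaOrders

/-!
# The standard orthogonal forms as contexts for `Aut(PΩ)`
-/

set_option autoImplicit false
set_option linter.unusedSectionVars false

namespace CfsgLib.AutPOmega

open Matrix Module CfsgLib.Spinor CfsgLib.Forms CfsgLib.Forms4 CfsgLib.StdForms

variable {F : Type*} [Field F]

/-- Three pairs of the plus form. -/
noncomputable def plusThree (m : ℕ) (hm : 3 ≤ m) : ThreePairs (plusQ m F) where
  toTwoPairs := plusPairs m (by omega)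
  c := Pi.single (.inl ⟨2, by omega⟩) 1
  d := Pi.single (.inr ⟨2, by omega⟩) 1
  qc := by simp [plusQ_apply, Cfsg.quadFormPlus, Pi.single_apply]
  qd := by simp [plusQ_apply, Cfsg.quadFormPlus, Pi.single_apply]
  cd := by simp [polar_plus, Pi.single_apply]
  ec := by simp [plusPairs, polar_plus, Pi.single_apply]
  ed := by simp [plusPairs, polar_plus, Pi.single_apply]
  fc := by simp [plusPairs, polar_plus, Pi.single_apply]
  fd := by simp [plusPairs, polar_plus, Pi.single_apply]
  ac := by simp [plusPairs, polar_plus, Pi.single_apply]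
  ad := by simp [plusPairs, polar_plus, Pi.single_apply]
  bc := by simp [plusPairs, polar_plus, Pi.single_apply]
  bd := by simp [plusPairs, polar_plus, Pi.single_apply]

/-- Three pairs of the odd form. -/
noncomputable def oddThree (m : ℕ) (hm : 3 ≤ m) : ThreePairs (oddQ m F) where
  toTwoPairs := oddPairs m (by omega)
  c := Pi.single (.inr (.inl ⟨2, by omega⟩)) 1
  d := Pi.single (.inr (.inr ⟨2, by omega⟩)) 1
  qc := by simp [oddQ_apply, Cfsg.quadFormOdd, Pi.single_apply]
  qd := by simp [oddQ_apply, Cfsg.quadFormOdd, Pi.single_apply]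
  cd := by simp [polar_odd, Pi.single_apply]
  ec := by simp [oddPairs, polar_odd, Pi.single_apply]
  ed := by simp [oddPairs, polar_odd, Pi.single_apply]
  fc := by simp [oddPairs, polar_odd, Pi.single_apply]
  fd := by simp [oddPairs, polar_odd, Pi.single_apply]
  ac := by simp [oddPairs, polar_odd, Pi.single_apply]
  ad := by simp [oddPairs, polar_odd, Pi.single_apply]
  bc := by simp [oddPairs, polar_odd, Pi.single_apply]
  bd := by simp [oddPairs, polar_odd, Pi.single_apply]

/-- Three pairs of the minus form. -/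
noncomputable def minusThree (k : ℕ) (hk : 3 ≤ k) (a b : F) : ThreePairs (minusQ k F a b) where
  toTwoPairs := minusPairs k (by omega) a b
  c := Pi.single (.inl (.inl ⟨2, by omega⟩)) 1
  d := Pi.single (.inl (.inr ⟨2, by omega⟩)) 1
  qc := by simp [minusQ_apply, Cfsg.quadFormMinus, Pi.single_apply]
  qd := by simp [minusQ_apply, Cfsg.quadFormMinus, Pi.single_apply]
  cd := by simp [polar_minus, Pi.single_apply]
  ec := by simp [minusPairs, polar_minus, Pi.single_apply]
  ed := by simp [minusPairs, polar_minus, Pi.single_apply]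
  fc := by simp [minusPairs, polar_minus, Pi.single_apply]
  fd := by simp [minusPairs, polar_minus, Pi.single_apply]
  ac := by simp [minusPairs, polar_minus, Pi.single_apply]
  ad := by simp [minusPairs, polar_minus, Pi.single_apply]
  bc := by simp [minusPairs, polar_minus, Pi.single_apply]
  bd := by simp [minusPairs, polar_minus, Pi.single_apply]

theorem ctx_plusQ {m : ℕ} (hm : 4 ≤ m) : Ctx (plusQ m F) :=
  ⟨plusQ_nondegenerate m, by simp; omega, ⟨plusThree m (by omega)⟩⟩

theorem ctx_oddQ {m : ℕ} (hm : 3 ≤ m) (h2 : (2 : F) ≠ 0) : Ctx (oddQ m F) :=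
  ⟨oddQ_nondegenerate h2 m, by simp; omega, ⟨oddThree m hm⟩⟩

theorem ctx_minusQ [Fintype F] {k : ℕ} (hk : 3 ≤ k) {a b : F}
    (hab : ∀ z₁ z₂ : F, z₁ ^ 2 + a * z₁ * z₂ + b * z₂ ^ 2 = 0 → z₁ = 0 ∧ z₂ = 0) :
    Ctx (minusQ k F a b) :=
  ⟨minusQ_nondegenerate k (disc_ne_zero hab), by simp; omega, ⟨minusThree k hk a b⟩⟩

theorem noTriality_plusQ {m : ℕ} (hm : 5 ≤ m) : NoTriality (plusQ m F) := by
  intro W _ hperp
  have h := finrank_perp (plusQ_nondegenerate m) W
  rw [hperp] at h
  simp at h
  omega

theorem noTriality_oddQ {m : ℕ} (h2 : (2 : F) ≠ 0) : NoTriality (oddQ m F) := by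
  intro W _ hperp
  have h := finrank_perp (oddQ_nondegenerate h2 m) W
  have h' := Submodule.finrank_le W
  rw [finrank_fintype_fun_eq_card] at h'
  rw [hperp] at h
  simp at h h'
  omega

/-- The span of the first half of the coordinate vectors. -/
def halfMap (k : ℕ) (F : Type*) [Field F] : (Fin k → F) →ₗ[F] ((Fin k ⊕ Fin k) ⊕ Fin 2 → F) where
  toFun x := Sum.elim (Sum.elim x 0) 0
  map_add' x y := by funext j; rcases j with (i | i) | i <;> simp
  map_smul' t x := by funext j; rcases j with (i | i) | i <;> simp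

theorem no_lagrangian_minusQ [Fintype F] {k : ℕ} {a b : F}
    (hab : ∀ z₁ z₂ : F, z₁ ^ 2 + a * z₁ * z₂ + b * z₂ ^ 2 = 0 → z₁ = 0 ∧ z₂ = 0)
    {W : Submodule F (((Fin k ⊕ Fin k) ⊕ Fin 2) → F)} (hW : ∀ w ∈ W, minusQ k F a b w = 0)
    (hperp : perp (minusQ k F a b) W = W) : False := by
  have hQ := minusQ_nondegenerate k (disc_ne_zero hab)
  set E := LinearMap.range (halfMap k F) with hE
  have hinj : Function.Injective (halfMap k F) := fun x y h => by
    funext i; exact congrFun h (.inl (.inl i))
  have hEk : finrank F E = k := by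
    rw [hE, LinearMap.finrank_range_of_inj hinj, Module.finrank_fin_fun]
  have hle : perp (minusQ k F a b) (W ⊔ E) ≤ W ⊓ E := by
    intro v hv
    have hvW : v ∈ W := hperp.le fun w hw => hv w (Submodule.mem_sup_left hw)
    refine ⟨hvW, fun i => v (.inl (.inl i)), ?_⟩
    have h0 : ∀ i, v (.inl (.inr i)) = 0 := fun i => by
      have h : QuadraticMap.polar (⇑(minusQ k F a b)) (halfMap k F (Pi.single i 1)) v = 0 :=
        hv _ (Submodule.mem_sup_right ⟨_, rfl⟩)
      simpa [polar_minus, halfMap, Pi.single_apply] using h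
    have hz := hW v hvW
    rw [minusQ_apply, Cfsg.quadFormMinus] at hz
    simp only [h0, mul_zero, Finset.sum_const_zero, zero_add] at hz
    obtain ⟨z1, z2⟩ := hab _ _ hz
    funext j
    rcases j with (i | i) | i
    · rfl
    · exact (h0 i).symm
    · fin_cases i
      · exact z1.symm
      · exact z2.symm
  have h1 := Submodule.finrank_mono hle
  have h2 := Submodule.finrank_sup_add_finrank_inf_eq W E
  have h3 := finrank_perp hQ (W ⊔ E)
  have h4 := finrank_perp hQ W
  have h5 := Submodule.finrank_le W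
  rw [finrank_fintype_fun_eq_card] at h5
  rw [hperp] at h4
  simp at h3 h4 h5
  omega

theorem noTriality_minusQ [Fintype F] {k : ℕ} {a b : F}
    (hab : ∀ z₁ z₂ : F, z₁ ^ 2 + a * z₁ * z₂ + b * z₂ ^ 2 = 0 → z₁ = 0 ∧ z₂ = 0) :
    NoTriality (minusQ k F a b) := fun _ hW hperp => (no_lagrangian_minusQ hab hW hperp).elim

end CfsgLib.AutPOmega
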